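import Groth.Agent.ProjUPLib.General
import Groth.Agent.AssPts.Basic
import Groth.Agent.TensorMod.Invertible
import Mathlib.LinearAlgebra.SymmetricAlgebra.Basic

/-! Complements: loci of generating sections, symmetric algebras. -/

set_option autoImplicit false
set_option backward.isDefEq.respectTransparency false
set_option backward.isDefEq.respectTransparency.types false
set_option linter.style.haveILetI false

noncomputable section

universe u

open CategoryTheory Limits AlgebraicGeometry Opposite TopologicalSpace HomogeneousLocalization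
open Groth.Agent.QCohBase Groth.Agent.GenLocus

namespace Groth.Agent.ProjUPLib

variable {X : Scheme.{u}}

theorem le_iSup_genLocus_of_generatedBy {L : X.Modules} (hL : PicF.IsInvertible L) {ι : Type*}
    (s : ι → ProjUP.Γm L) (hs : ProjUP.GeneratedBy L s) :
    (⊤ : X.Opens) ≤ ⨆ i, CohB1.genLocus L (homOfSection L (s i)) := by
    intro x _
    obtain ⟨W, -, hxW, -, e, he⟩ := exists_isFrame hL (W := ⊤) (x := x) trivial
    choose f hf using fun k ↦ he.bijective.2 (QCohBase.mres L (le_top : W ≤ ⊤) (s k))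
    by_contra hno
    simp only [Opens.mem_iSup, not_exists] at hno
    have hnu : ∀ k, X.presheaf.germ W x hxW (f k) ∈ IsLocalRing.maximalIdeal (X.presheaf.stalk x) := by
      intro k hu
      have hx : x ∈ X.basicOpen (f k) := (Scheme.mem_basicOpen _ _ _ hxW).mpr hu
      rw [← genLocus_inf_eq_basicOpen (homOfSection L (s k)) he
        ((hf k).trans (sect_homOfSection L (s k) W).symm)] at hx
      exact hno k hx.1
    have htop := hs x
    have hle : Submodule.span (X.presheaf.stalk x)
        (Set.range fun k => (L.presheaf.germ ⊤ x trivial).hom (s k)) ≤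
        (IsLocalRing.maximalIdeal (X.presheaf.stalk x)) • (⊤ : Submodule (X.presheaf.stalk x) _) := by
      rw [Submodule.span_le]
      rintro _ ⟨k, rfl⟩
      show (L.presheaf.germ ⊤ x trivial).hom (s k) ∈ _
      rw [← L.presheaf.germ_res_apply (homOfLE (le_top : W ≤ ⊤)) x hxW (s k)]
      rw [show L.presheaf.map (homOfLE (le_top : W ≤ ⊤)).op (s k) = f k • e from (hf k).symm]
      rw [AssPts.germ_smul' L x hxW]
      exact Submodule.smul_mem_smul (hnu k) trivial
    rw [htop] at hle
    set ε := L.presheaf.germ W x hxW e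
    -- every germ is a multiple of that of the frame
    have hgen : ∀ z : L.presheaf.stalk x, ∃ c : X.presheaf.stalk x, c • ε = z := by
      intro z
      obtain ⟨V, hxV, t, rfl⟩ := L.presheaf.exists_germ_eq z
      obtain ⟨c, hc⟩ := (he (W ⊓ V) inf_le_left).2 (QCohBase.mres L inf_le_right t)
      refine ⟨X.presheaf.germ (W ⊓ V) x ⟨hxW, hxV⟩ c, ?_⟩
      rw [← AssPts.germ_mres L x (inf_le_right : W ⊓ V ≤ V) ⟨hxW, hxV⟩ t, ← hc, AssPts.germ_smul' L x,
        AssPts.germ_mres]
    have hm : ∀ z ∈ IsLocalRing.maximalIdeal (X.presheaf.stalk x) •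
        (⊤ : Submodule (X.presheaf.stalk x) (L.presheaf.stalk x)),
        ∃ c ∈ IsLocalRing.maximalIdeal (X.presheaf.stalk x), c • ε = z := by
      intro z hz
      refine Submodule.smul_induction_on hz (fun c hc y _ ↦ ?_) ?_
      · obtain ⟨d, rfl⟩ := hgen y
        exact ⟨c * d, Ideal.mul_mem_right _ _ hc, mul_smul c d ε⟩
      · rintro y z ⟨c, hc, rfl⟩ ⟨d, hd, rfl⟩
        exact ⟨c + d, add_mem hc hd, add_smul c d ε⟩
    obtain ⟨c, hc, hce⟩ := hm ε (hle trivial)
    have hu : IsUnit (1 - c) := (IsLocalRing.notMem_maximalIdeal).mp fun h ↦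
      (IsLocalRing.maximalIdeal.isMaximal (X.presheaf.stalk x)).ne_top
        ((Ideal.eq_top_iff_one _).mpr (by simpa using add_mem h hc))
    have h0 : L.presheaf.germ W x hxW e = L.presheaf.germ W x hxW 0 := by
      rw [map_zero, ← hu.smul_eq_zero, sub_smul, one_smul, hce, sub_self]
    obtain ⟨V, hxV, i₁, i₂, hV⟩ := L.presheaf.germ_eq x hxW hxW e 0 h0
    rw [map_zero] at hV
    have h10 : (1 : Γ(X, V)) = 0 := (he V i₁.le).1 (by
      show (1 : Γ(X, V)) • _ = (0 : Γ(X, V)) • _
      rw [one_smul, zero_smul]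
      exact hV)
    have := congrArg (X.presheaf.germ V x hxV) h10
    rw [map_one, map_zero] at this
    exact one_ne_zero this

theorem isInvertible_of_frames {M : X.Modules}
    (h : ∀ x : X, ∃ (V : X.Opens) (_ : x ∈ V) (a : Γ(M, ⊤)), IsFrame M (QCohBase.mres M (le_top : V ≤ ⊤) a)) :
    PicF.IsInvertible M := fun x ↦ by
  obtain ⟨V, hxV, a, ha⟩ := h x
  have := (isIso_restrict_iff (homOfSection M a) V).mpr (by rwa [sect_homOfSection])
  exact ⟨V, hxV, ⟨(asIso ((Scheme.Modules.restrictFunctor V.ι).map (homOfSection M a))).symm ≪≫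
    Scheme.Modules.restrictUnitIso V.ι⟩⟩

theorem adjoin_range_eq_top_of_isSymmetricAlgebra {R A M : Type u} [CommRing R] [CommRing A]
    [Algebra R A] [AddCommGroup M] [Module R M] {f : M →ₗ[R] A} (h : IsSymmetricAlgebra f) :
    Algebra.adjoin R (Set.range f) = ⊤ := by
  refine eq_top_iff.mpr fun x _ ↦ ?_
  induction x using h.induction with
  | algebraMap r => exact Subalgebra.algebraMap_mem _ r
  | ι m => exact Algebra.subset_adjoin ⟨m, rfl⟩
  | mul a b ha hb => exact mul_mem (ha trivial) (hb trivial)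
  | add a b ha hb => exact add_mem (ha trivial) (hb trivial)

theorem adjoin_range_X (n : ℕ) (R : Type u) [CommRing R] :
    Algebra.adjoin R (Set.range fun i : ULift.{u} (Fin (n + 1)) ↦
      (MvPolynomial.X i.down : MvPolynomial (Fin (n + 1)) R)) = ⊤ := by
  rw [show (Set.range fun i : ULift.{u} (Fin (n + 1)) ↦ (MvPolynomial.X i.down : MvPolynomial (Fin (n + 1)) R)) =
    Set.range MvPolynomial.X from ULift.down_surjective.range_comp MvPolynomial.X]
  exact MvPolynomial.adjoin_range_X

theorem isQCoh_pullback_twist {R A : Type u} [CommRing R] [CommRing A] [Algebra R A]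
    (𝒜 : ℕ → Submodule R A) [GradedAlgebra 𝒜] {κ : Type u} (e : κ → A) (he : ∀ k, e k ∈ 𝒜 1)
    (hgen : Algebra.adjoin R (Set.range e) = ⊤) (r : X ⟶ Proj 𝒜) :
    Coh.IsQCoh ((Scheme.Modules.pullback r).obj (Twist.twist 𝒜 1)) :=
  TensorMod.isQCoh_of_isInvertible <| isInvertible_of_frames fun x ↦ by
    obtain ⟨k, hk⟩ := Opens.mem_iSup.mp
      (le_iSup_basicOpen 𝒜 e he hgen (trivial : r x ∈ (⊤ : (Proj 𝒜).Opens)))
    exact ⟨_, hk, _, isFrame_secPull 𝒜 r (he k) le_rfl⟩

end Groth.Agent.ProjUPLib
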