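import Groth.Agent.GenLocus.PullTensor
import Groth.Prelude.Def_Twist2

/-! The twisting sheaves `O(n)`: frames, multiplication, invertibility. -/

set_option autoImplicit false
set_option backward.isDefEq.respectTransparency false
set_option backward.isDefEq.respectTransparency.types false
set_option linter.style.haveILetI false
set_option linter.unusedSectionVars false

noncomputable section

universe u

open CategoryTheory Limits AlgebraicGeometry Opposite TopologicalSpace HomogeneousLocalization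
open Groth.Agent.QCohBase Groth.Agent.GenLocus
open scoped TensorProduct MonoidalCategory

namespace Groth.Agent.ProjUPLib

/-- A module with local frames is invertible. -/
theorem isInvertible_of_local_frames {X : Scheme.{u}} {M : X.Modules}
    (h : ∀ x : X, ∃ (V : X.Opens) (_ : x ∈ V) (a : Γ(M, V)), IsFrame M a) : PicF.IsInvertible M := fun x ↦ by
  obtain ⟨U, hxU, a, ha⟩ := h x
  let f := homOfSection (M.restrict U.ι) ((M.restrictAppIso U.ι ⊤).inv (QCohBase.mres M U.ι_image_top.le a))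
  have hf : IsIso f := by
    rw [Scheme.Modules.Hom.isIso_iff_isIso_app]
    intro W
    rw [ConcreteCategory.isIso_iff_bijective]
    have hW : U.ι ''ᵁ W ≤ U := (U.ι.image_le_opensRange W).trans_eq U.opensRange_ι
    have key : ∀ c : Γ(U.toScheme, W), (M.restrictAppIso U.ι W).hom (f.app W c) =
        (U.ι.appIso W).inv c • QCohBase.mres M hW a := fun c ↦ by
      have e : f.app W c = c • QCohBase.mres (M.restrict U.ι) (le_top : W ≤ ⊤)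
          ((M.restrictAppIso U.ι ⊤).inv (QCohBase.mres M U.ι_image_top.le a)) :=
        (app_eq_smul f W c).trans (congrArg (c • ·) (sect_homOfSection _ _ _))
      rw [e, Scheme.Modules.smul_restrictAppIso_hom_apply]
      congr 1
      refine Eq.trans (b := QCohBase.mres M (U.ι.image_mono (le_top : W ≤ ⊤)) (QCohBase.mres M U.ι_image_top.le a)) rfl ?_
      rw [mres_mres]
    refine ((ConcreteCategory.isIso_iff_bijective (M.restrictAppIso U.ι W).hom).mp inferInstance).1.of_comp_iff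
      (f.app W) |>.mp ?_ |> fun hi ↦ ⟨hi, fun y ↦ ?_⟩
    · rw [show ⇑(M.restrictAppIso U.ι W).hom ∘ ⇑(f.app W) =
        (fun r ↦ r • QCohBase.mres M hW a) ∘ ⇑(U.ι.appIso W).inv from funext key]
      exact (ha _ hW).1.comp ((ConcreteCategory.isIso_iff_bijective (U.ι.appIso W).inv).mp inferInstance).1
    · obtain ⟨r, hr⟩ := (ha _ hW).2 ((M.restrictAppIso U.ι W).hom y)
      obtain ⟨c, rfl⟩ := ((ConcreteCategory.isIso_iff_bijective (U.ι.appIso W).inv).mp inferInstance).2 r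
      exact ⟨c, ((ConcreteCategory.isIso_iff_bijective (M.restrictAppIso U.ι W).hom).mp inferInstance).1
        ((key c).trans hr)⟩
  exact ⟨U, hxU, ⟨(asIso f).symm⟩⟩

variable {R A : Type u} [CommRing R] [CommRing A] [Algebra R A] (𝒜 : ℕ → Submodule R A) [GradedAlgebra 𝒜]

/-- The value of a section of `O(n)` at a point. -/
abbrev tval {n : ℤ} {U : (Proj 𝒜).Opens} (φ : Γ(Twist.twist 𝒜 n, U)) (x : U) : Twist.Loc 𝒜 x.1 :=
  (φ.1 x).1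

lemma tval_smul {n : ℤ} {U : (Proj 𝒜).Opens} (r : Γ(Proj 𝒜, U)) (φ : Γ(Twist.twist 𝒜 n, U)) (x : U) :
    tval 𝒜 (r • φ) x = (r.1 x).val * tval 𝒜 φ x :=
  Twist.coe_smul_val n x.1 _ _

lemma tval_mres {n : ℤ} {U V : (Proj 𝒜).Opens} (h : V ≤ U) (φ : Γ(Twist.twist 𝒜 n, U)) (x : V) :
    tval 𝒜 (QCohBase.mres _ h φ) x = tval 𝒜 φ ⟨x.1, h x.2⟩ := rfl

lemma tval_ext {n : ℤ} {U : (Proj 𝒜).Opens} {φ ψ : Γ(Twist.twist 𝒜 n, U)}
    (h : ∀ x : U, tval 𝒜 φ x = tval 𝒜 ψ x) : φ = ψ :=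
  Subtype.ext (funext fun x ↦ Subtype.ext (h x))

/-- The section given by one fraction. -/
def fracSec (n : ℤ) (U : (Proj 𝒜).Opens) {i j : ℕ} (a : 𝒜 i) (s : 𝒜 j)
    (nin : ∀ x : U, s.1 ∉ x.1.asHomogeneousIdeal) (h : (i : ℤ) = j + n) : Γ(Twist.twist 𝒜 n, U) :=
  ⟨fun x ↦ ⟨Localization.mk a.1 ⟨s.1, nin x⟩, Submodule.subset_span ⟨i, j, a, s, nin x, h, rfl⟩⟩,
    fun x ↦ ⟨U, x.2, 𝟙 _, i, j, a, s, nin, Or.inl h, fun _ ↦ rfl⟩⟩

lemma tval_fracSec (n : ℤ) (U : (Proj 𝒜).Opens) {i j : ℕ} (a : 𝒜 i) (s : 𝒜 j)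
    (nin : ∀ x : U, s.1 ∉ x.1.asHomogeneousIdeal) (h : (i : ℤ) = j + n) (x : U) :
    tval 𝒜 (fracSec 𝒜 n U a s nin h) x = Localization.mk a.1 ⟨s.1, nin x⟩ := rfl

lemma isUnit_algebraMap_loc {x : ProjectiveSpectrum 𝒜} {a : A} (h : a ∉ x.asHomogeneousIdeal) :
    IsUnit (algebraMap A (Twist.Loc 𝒜 x) a) :=
  IsLocalization.map_units _ (⟨a, h⟩ : x.asHomogeneousIdeal.toIdeal.primeCompl)

/-- A fraction with invertible numerator is a frame. -/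
theorem isFrame_fracSec (n : ℤ) (U : (Proj 𝒜).Opens) {i j : ℕ} (a : 𝒜 i) (s : 𝒜 j)
    (nin : ∀ x : U, s.1 ∉ x.1.asHomogeneousIdeal) (nina : ∀ x : U, a.1 ∉ x.1.asHomogeneousIdeal)
    (h : (i : ℤ) = j + n) : IsFrame (Twist.twist 𝒜 n) (fracSec 𝒜 n U a s nin h) := by
  intro V hV
  have hu : ∀ x : V, IsUnit (Localization.mk a.1 ⟨s.1, nin ⟨x.1, hV x.2⟩⟩ : Twist.Loc 𝒜 x.1) := by
    intro x
    refine isUnit_of_mul_isUnit_left (y := algebraMap A _ s.1) ?_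
    rw [Localization.mk_eq_mk', IsLocalization.mk'_spec]
    exact isUnit_algebraMap_loc 𝒜 (nina ⟨x.1, hV x.2⟩)
  refine ⟨fun r r' hr ↦ Subtype.ext (funext fun x ↦ HomogeneousLocalization.val_injective _
    ((hu x).mul_left_injective ?_)), fun φ ↦ ?_⟩
  · have := congrArg (fun t ↦ tval 𝒜 t x) hr
    simp only [tval_smul, tval_mres, tval_fracSec] at this
    exact this
  · have hloc : ∀ x : V, ∃ (W : (Proj 𝒜).Opens) (_ : x.1 ∈ W) (hW : W ≤ V) (k : ℕ)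
        (b : 𝒜 k) (t : 𝒜 k) (hnin : ∀ y : W, t.1 ∉ y.1.asHomogeneousIdeal),
        ∀ y : W, tval 𝒜 φ ⟨y.1, hW y.2⟩ =
          Localization.mk b.1 ⟨t.1, hnin y⟩ * Localization.mk a.1 ⟨s.1, nin ⟨y.1, hV (hW y.2)⟩⟩ := by
      intro x
      obtain ⟨W, hxW, iW, i', j', b, t, ninb, hdeg, hw⟩ := φ.2 x
      have hmem : b.1 * s.1 ∈ 𝒜 (j' + i) := by
        rcases hdeg with hd | hd
        · exact (show i' + j = j' + i by omega) ▸ SetLike.mul_mem_graded b.2 s.2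
        · rw [hd, zero_mul]; exact zero_mem _
      refine ⟨W, hxW, iW.le, j' + i, ⟨b * s, hmem⟩, ⟨t * a, SetLike.mul_mem_graded t.2 a.2⟩,
        fun y h ↦ (y.1.isPrime.mem_or_mem h).elim (ninb y) (nina ⟨y.1, hV (iW.le y.2)⟩), fun y ↦ ?_⟩
      refine (hw y).trans ?_
      rw [Localization.mk_mul, Localization.mk_eq_mk_iff, Localization.r_iff_exists]
      exact ⟨1, by simp; ring⟩
    choose W hxW hW k b t hnin hw using hloc
    let r : ∀ x : V, Twist.A0 𝒜 x.1 := fun x ↦ HomogeneousLocalization.mk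
      { deg := k x, num := b x, den := t x, den_mem := hnin x ⟨x.1, hxW x⟩ }
    have hr : ∀ (x : V) (y : W x), (r ⟨y.1, hW x y.2⟩).val =
        Localization.mk (b x).1 ⟨(t x).1, hnin x y⟩ := by
      intro x y
      refine (hu ⟨y.1, hW x y.2⟩).mul_left_injective ?_
      exact (hw ⟨y.1, hW x y.2⟩ ⟨y.1, hxW ⟨y.1, hW x y.2⟩⟩).symm.trans (hw x y)
    refine ⟨⟨r, fun x ↦ ⟨W x, hxW x, homOfLE (hW x), k x, b x, t x, hnin x,
      fun y ↦ HomogeneousLocalization.val_injective _ ?_⟩⟩, tval_ext 𝒜 fun x ↦ ?_⟩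
    · refine (hr x y).trans ?_
      rfl
    · refine (tval_smul 𝒜 _ _ x).trans ?_
      exact (hw x ⟨x.1, hxW x⟩).symm

variable (m n : ℤ)

/-- Products of sections. -/
def mulSec (U : (Proj 𝒜).Opens) (φ : Γ(Twist.twist 𝒜 m, U)) (ψ : Γ(Twist.twist 𝒜 n, U)) :
    Γ(Twist.twist 𝒜 (m + n), U) := by
  have hloc : ∀ x : U, ∃ (V : (Proj 𝒜).Opens) (_ : x.1 ∈ V) (iV : V ⟶ U) (i j : ℕ) (a : 𝒜 i) (s : 𝒜 j)
      (nin : ∀ y : V, s.1 ∉ y.1.asHomogeneousIdeal), ((i : ℤ) = j + (m + n) ∨ a.1 = 0) ∧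
        ∀ y : V, tval 𝒜 φ (iV y) * tval 𝒜 ψ (iV y) = Localization.mk a.1 ⟨s.1, nin y⟩ := by
    intro x
    obtain ⟨Va, ma, ia, i, j, a, s, nina, ca, wa⟩ := φ.2 x
    obtain ⟨Vb, mb, ib, i', j', b, t, ninb, cb, wb⟩ := ψ.2 x
    refine ⟨Va ⊓ Vb, ⟨ma, mb⟩, Opens.infLELeft _ _ ≫ ia, i + i', j + j',
      ⟨a * b, SetLike.mul_mem_graded a.2 b.2⟩, ⟨s * t, SetLike.mul_mem_graded s.2 t.2⟩,
      fun y h ↦ (y.1.isPrime.mem_or_mem h).elim (nina ⟨y.1, y.2.1⟩) (ninb ⟨y.1, y.2.2⟩), ?_, fun y ↦ ?_⟩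
    · rcases ca with ha | ha
      · rcases cb with hb | hb
        · exact Or.inl (by push_cast; omega)
        · exact Or.inr (show a.1 * b.1 = 0 by rw [hb, mul_zero])
      · exact Or.inr (show a.1 * b.1 = 0 by rw [ha, zero_mul])
    · refine (congrArg₂ (· * ·) (wa ⟨y.1, y.2.1⟩) (wb ⟨y.1, y.2.2⟩)).trans ?_
      exact Localization.mk_mul _ _ _ _
  refine ⟨fun x ↦ ⟨tval 𝒜 φ x * tval 𝒜 ψ x, ?_⟩, fun x ↦ ?_⟩
  · obtain ⟨V, hxV, iV, i, j, a, s, nin, hdeg, hw⟩ := hloc x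
    have e : tval 𝒜 φ x * tval 𝒜 ψ x = Localization.mk a.1 ⟨s.1, nin ⟨x.1, hxV⟩⟩ := hw ⟨x.1, hxV⟩
    rw [e]
    rcases hdeg with hd | hd
    · exact Submodule.subset_span ⟨i, j, a, s, nin ⟨x.1, hxV⟩, hd, rfl⟩
    · simp only [hd, Localization.mk_zero]; exact zero_mem _
  · obtain ⟨V, hxV, iV, i, j, a, s, nin, hdeg, hw⟩ := hloc x
    exact ⟨V, hxV, iV, i, j, a, s, nin, hdeg, hw⟩

lemma tval_mulSec (U : (Proj 𝒜).Opens) (φ : Γ(Twist.twist 𝒜 m, U)) (ψ : Γ(Twist.twist 𝒜 n, U)) (x : U) :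
    tval 𝒜 (mulSec 𝒜 m n U φ ψ) x = tval 𝒜 φ x * tval 𝒜 ψ x := rfl

/-- Multiplication on sectionwise tensor products. -/
def mulT (U : (Proj 𝒜).Opens) :
    Γ(Twist.twist 𝒜 m, U) ⊗[Γ(Proj 𝒜, U)] Γ(Twist.twist 𝒜 n, U) →+ Γ(Twist.twist 𝒜 (m + n), U) :=
  TensorProduct.liftAddHom
    (AddMonoidHom.mk' (fun φ ↦ AddMonoidHom.mk' (mulSec 𝒜 m n U φ)
        (fun ψ ψ' ↦ tval_ext 𝒜 fun x ↦ mul_add (tval 𝒜 φ x) (tval 𝒜 ψ x) (tval 𝒜 ψ' x)))
      (fun φ φ' ↦ AddMonoidHom.ext fun ψ ↦ tval_ext 𝒜 fun x ↦ add_mul (tval 𝒜 φ x) (tval 𝒜 φ' x) (tval 𝒜 ψ x)))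
    (fun r φ ψ ↦ tval_ext 𝒜 fun x ↦ by
      show tval 𝒜 (r • φ) x * tval 𝒜 ψ x = tval 𝒜 φ x * tval 𝒜 (r • ψ) x
      rw [tval_smul, tval_smul]
      ring)

lemma mulT_smul (U : (Proj 𝒜).Opens) (r : Γ(Proj 𝒜, U))
    (t : Γ(Twist.twist 𝒜 m, U) ⊗[Γ(Proj 𝒜, U)] Γ(Twist.twist 𝒜 n, U)) :
    mulT 𝒜 m n U (r • t) = r • mulT 𝒜 m n U t := by
  induction t using TensorProduct.induction_on with
  | zero => simp
  | add x y hx hy => rw [smul_add, map_add, map_add, hx, hy, smul_add]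
  | tmul φ ψ =>
    refine tval_ext 𝒜 fun x ↦ ?_
    rw [TensorProduct.smul_tmul', tval_smul]
    show tval 𝒜 (r • φ) x * tval 𝒜 ψ x = _
    rw [tval_smul, mul_assoc]
    rfl

/-- Multiplication on presheaves. -/
def mulPre : CohB1.tensorPre (Twist.twist 𝒜 m) (Twist.twist 𝒜 n) ⟶
    (TensorMod.incl (Proj 𝒜)).obj (Twist.twist 𝒜 (m + n)) :=
  PresheafOfModules.homMk
    { app := fun V ↦ AddCommGrpCat.ofHom (mulT 𝒜 m n V.unop)
      naturality := fun V W i ↦ by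
        ext x
        induction x using TensorProduct.induction_on with
        | zero => exact (map_zero _).trans (map_zero _).symm
        | add x y hx hy =>
          exact (map_add _ _ _).trans ((congrArg₂ (· + ·) hx hy).trans (map_add _ _ _).symm)
        | tmul a b => rfl }
    (fun V r x ↦ mulT_smul 𝒜 m n V.unop r x)

/-- The multiplication map `O(m) ⊗ O(n) ⟶ O(m + n)`. -/
def mulMap : CohB1.tensorMod (Twist.twist 𝒜 m) (Twist.twist 𝒜 n) ⟶ Twist.twist 𝒜 (m + n) :=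
  ((TensorMod.shAdj (Proj 𝒜)).homEquiv _ _).symm (mulPre 𝒜 m n)

lemma mulMap_tmul (U : (Proj 𝒜).Opens) (φ : Γ(Twist.twist 𝒜 m, U)) (ψ : Γ(Twist.twist 𝒜 n, U)) :
    (mulMap 𝒜 m n).app U (SecTwist.tmul _ _ U φ ψ) = mulSec 𝒜 m n U φ ψ := by
  have h2 := Adjunction.homEquiv_unit (TensorMod.shAdj (Proj 𝒜)) _ _ (mulMap 𝒜 m n)
  rw [mulMap, Equiv.apply_symm_apply] at h2
  exact (congr(($h2).app (op U) (φ ⊗ₜ[Γ(Proj 𝒜, U)] ψ))).symm

lemma exists_fracSec (U : (Proj 𝒜).Opens) {d : ℕ} (f : 𝒜 d) (hU : U ≤ Proj.basicOpen 𝒜 f.1) (k : ℤ)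
    (hd : n = k * d) :
    ∃ (i j : ℕ) (a : 𝒜 i) (s : 𝒜 j) (nin : ∀ x : U, s.1 ∉ x.1.asHomogeneousIdeal)
      (_ : ∀ x : U, a.1 ∉ x.1.asHomogeneousIdeal), (i : ℤ) = j + n := by
  have h : ∀ (e : ℕ) (x : U), f.1 ^ e ∉ x.1.asHomogeneousIdeal := fun e x h ↦
    hU x.2 (x.1.isPrime.mem_of_pow_mem e h)
  refine ⟨k.toNat * d, (-k).toNat * d, ⟨f.1 ^ k.toNat, ?_⟩, ⟨f.1 ^ (-k).toNat, ?_⟩, h _, h _, ?_⟩
  · exact SetLike.pow_mem_graded k.toNat f.2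
  · exact SetLike.pow_mem_graded (-k).toNat f.2
  · rw [hd]
    push_cast
    rw [← add_mul]
    congr 1
    omega

/-- `O(n)` has frames on the standard opens of degree dividing `n`. -/
lemma exists_isFrame_twist {d : ℕ} (f : 𝒜 d) (k : ℤ) (hd : n = k * d) :
    ∃ e : Γ(Twist.twist 𝒜 n, Proj.basicOpen 𝒜 f.1), IsFrame (Twist.twist 𝒜 n) e := by
  obtain ⟨i, j, a, s, nin, nina, h⟩ := exists_fracSec 𝒜 n _ f le_rfl k hd
  exact ⟨_, isFrame_fracSec 𝒜 n _ a s nin nina h⟩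

theorem isInvertible_twist (hcov : (⨆ f : 𝒜 1, Proj.basicOpen 𝒜 (f : A)) = ⊤) :
    PicF.IsInvertible (Twist.twist 𝒜 n) :=
  isInvertible_of_local_frames fun x ↦ by
    obtain ⟨f, hf⟩ := Opens.mem_iSup.mp (hcov.ge (trivial : x ∈ (⊤ : (Proj 𝒜).Opens)))
    obtain ⟨e, he⟩ := exists_isFrame_twist 𝒜 n f n (by push_cast; ring)
    exact ⟨_, hf, e, he⟩

theorem isIso_mulMap (hcov : (⨆ f : 𝒜 1, Proj.basicOpen 𝒜 (f : A)) = ⊤) : IsIso (mulMap 𝒜 m n) :=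
  isIso_of_frames _ fun x ↦ by
    obtain ⟨f, hf⟩ := Opens.mem_iSup.mp (hcov.ge (trivial : x ∈ (⊤ : (Proj 𝒜).Opens)))
    obtain ⟨i, j, a, s, nin, nina, h⟩ := exists_fracSec 𝒜 m _ f le_rfl m (by push_cast; ring)
    obtain ⟨i', j', b, t, ninb, ninab, h'⟩ := exists_fracSec 𝒜 n _ f le_rfl n (by push_cast; ring)
    refine ⟨_, hf, _, (isFrame_fracSec 𝒜 m _ a s nin nina h).tmul (isFrame_fracSec 𝒜 n _ b t ninb ninab h'), ?_⟩
    rw [mulMap_tmul]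
    have hfr := isFrame_fracSec 𝒜 (m + n) (Proj.basicOpen 𝒜 f.1)
      ⟨a.1 * b.1, SetLike.mul_mem_graded a.2 b.2⟩ ⟨s.1 * t.1, SetLike.mul_mem_graded s.2 t.2⟩
      (fun y hy ↦ (y.1.isPrime.mem_or_mem hy).elim (nin y) (ninb y))
      (fun y hy ↦ (y.1.isPrime.mem_or_mem hy).elim (nina y) (ninab y)) (by push_cast; omega)
    convert hfr using 1
    refine tval_ext 𝒜 fun y ↦ ?_
    rw [tval_mulSec, tval_fracSec, tval_fracSec, tval_fracSec, Localization.mk_mul]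
    rfl

/-- The unit section `1` of `O(0)`. -/
def oneZero : Γ(Twist.twist 𝒜 0, ⊤) :=
  fracSec 𝒜 0 ⊤ (⟨1, SetLike.GradedOne.one_mem⟩ : 𝒜 0) (⟨1, SetLike.GradedOne.one_mem⟩ : 𝒜 0)
    (fun x h ↦ x.1.isPrime.ne_top ((Ideal.eq_top_iff_one _).mpr h)) (by simp)

/-- `O ≅ O(0)`. -/
def unitIso : Coh.structureModule (Proj 𝒜) ≅ Twist.twist 𝒜 0 :=
  @asIso _ _ _ _ (homOfSection _ (oneZero 𝒜)) (isIso_of_frames _ fun x ↦ by
    refine ⟨⊤, trivial, sect (𝟙 _) ⊤, (isIso_restrict_iff _ _).mp (by rw [CategoryTheory.Functor.map_id]; infer_instance), ?_⟩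
    have : (homOfSection _ (oneZero 𝒜)).app ⊤ (sect (𝟙 (Coh.structureModule (Proj 𝒜))) ⊤) = oneZero 𝒜 := by
      refine Eq.trans ?_ ((sect_homOfSection _ (oneZero 𝒜) ⊤).trans (mres_refl _ _ _))
      rfl
    rw [this]
    exact isFrame_fracSec 𝒜 0 ⊤ _ _ _ (fun x h ↦ x.1.isPrime.ne_top ((Ideal.eq_top_iff_one _).mpr h)) _)

theorem nonempty_tensorPow_iso (hcov : (⨆ f : 𝒜 1, Proj.basicOpen 𝒜 (f : A)) = ⊤) : ∀ n : ℕ,
    Nonempty (Twist.twist 𝒜 (n : ℤ) ≅ CohB1.tensorPow (Twist.twist 𝒜 1) n)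
  | 0 => ⟨(unitIso 𝒜).symm⟩
  | k + 1 => by
    obtain ⟨e⟩ := nonempty_tensorPow_iso hcov k
    have := isIso_mulMap 𝒜 k 1 hcov
    exact ⟨eqToIso (by push_cast; rfl) ≪≫ (asIso (mulMap 𝒜 k 1)).symm ≪≫ TensorMod.tensorIso e (Iso.refl _)⟩

end Groth.Agent.ProjUPLib
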