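import Groth.Agent.ProjUPLib.TwistN

/-! Trivialisations from frames. -/

set_option autoImplicit false
set_option backward.isDefEq.respectTransparency false
set_option backward.isDefEq.respectTransparency.types false
set_option linter.unusedSectionVars false

noncomputable section

universe u

open CategoryTheory Limits AlgebraicGeometry Opposite TopologicalSpace
open Groth.Agent.QCohBase Groth.Agent.GenLocus

namespace Groth.Agent.ProjUPLib

/-- A frame on `U` trivialises the restriction to `U`. -/
theorem nonempty_triv_of_isFrame {X : Scheme.{u}} {M : X.Modules} {U : X.Opens} {a : Γ(M, U)} (ha : IsFrame M a) :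
    Nonempty (M.restrict U.ι ≅ Coh.structureModule (U : Scheme.{u})) := by
  let f := homOfSection (M.restrict U.ι) ((M.restrictAppIso U.ι ⊤).inv (QCohBase.mres M U.ι_image_top.le a))
  have hf : IsIso f := by
    rw [Scheme.Modules.Hom.isIso_iff_isIso_app]
    intro W
    rw [ConcreteCategory.isIso_iff_bijective]
    have hW : U.ι ''ᵁ W ≤ U := (U.ι.image_le_opensRange W).trans_eq U.opensRange_ι
    have key : ∀ c : Γ(U.toScheme, W), (M.restrictAppIso U.ι W).hom (f.app W c) =
        (U.ι.appIso W).inv c • QCohBase.mres M hW a := fun c ↦ by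
      have e : f.app W c = c • QCohBase.mres (M.restrict U.ι) (le_top : W ≤ ⊤)
          ((M.restrictAppIso U.ι ⊤).inv (QCohBase.mres M U.ι_image_top.le a)) :=
        (app_eq_smul f W c).trans (congrArg (c • ·) (sect_homOfSection _ _ _))
      rw [e, Scheme.Modules.smul_restrictAppIso_hom_apply]
      congr 1
      refine Eq.trans (b := QCohBase.mres M (U.ι.image_mono (le_top : W ≤ ⊤)) (QCohBase.mres M U.ι_image_top.le a)) rfl ?_
      rw [mres_mres]
    refine ((ConcreteCategory.isIso_iff_bijective (M.restrictAppIso U.ι W).hom).mp inferInstance).1.of_comp_iff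
      (f.app W) |>.mp ?_ |> fun hi ↦ ⟨hi, fun y ↦ ?_⟩
    · rw [show ⇑(M.restrictAppIso U.ι W).hom ∘ ⇑(f.app W) =
        (fun r ↦ r • QCohBase.mres M hW a) ∘ ⇑(U.ι.appIso W).inv from funext key]
      exact (ha _ hW).1.comp ((ConcreteCategory.isIso_iff_bijective (U.ι.appIso W).inv).mp inferInstance).1
    · obtain ⟨r, hr⟩ := (ha _ hW).2 ((M.restrictAppIso U.ι W).hom y)
      obtain ⟨c, rfl⟩ := ((ConcreteCategory.isIso_iff_bijective (U.ι.appIso W).inv).mp inferInstance).2 r
      exact ⟨c, ((ConcreteCategory.isIso_iff_bijective (M.restrictAppIso U.ι W).hom).mp inferInstance).1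
        ((key c).trans hr)⟩
  exact ⟨(asIso f).symm⟩

end Groth.Agent.ProjUPLib
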