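import Groth.Agent.GenLocus.Rel

/-! Base change and composition for relative ampleness. -/

set_option autoImplicit false
set_option backward.isDefEq.respectTransparency false
set_option backward.isDefEq.respectTransparency.types false
set_option linter.style.haveILetI false

noncomputable section

universe u

open CategoryTheory Limits AlgebraicGeometry Opposite TopologicalSpace
open Groth.Agent.GenLocus

namespace Groth.Agent.ProjUPLib

variable {X Y P Y' Z : Scheme.{u}}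

theorem isAmple_of_invertible_of_isQuasiAffine [X.IsQuasiAffine] {L : X.Modules} (hL : PicF.IsInvertible L) :
    CohB1.IsAmple L :=
  ⟨hL, inferInstance, fun x ↦ by
    obtain ⟨s, hxs, -, hs⟩ := exists_affine_genLocus_le_of_isQuasiAffine
      (L := CohB1.tensorPow L 1) (TensorMod.isInvertible_tensorPow hL 1) (W := ⊤) (x := x) trivial
    exact ⟨0, s, hxs, hs⟩⟩

theorem isRelAmple_id {L : Y.Modules} (hL : PicF.IsInvertible L) : RelAmple.IsRelAmple (𝟙 Y) L :=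
  ⟨inferInstance, fun V ↦ by
    haveI : IsAffine ((𝟙 Y : Y ⟶ Y) ⁻¹ᵁ V.1).toScheme := V.2
    exact isAmple_of_invertible_of_isQuasiAffine (TensorMod.isInvertible_restrict hL _)⟩

/-- Relative ampleness is stable under base change. -/
theorem isRelAmple_baseChange {f : X ⟶ Y} {g : Y' ⟶ Y} {p : P ⟶ X} {q : P ⟶ Y'} (h : IsPullback p q f g)
    {L : X.Modules} (hL : RelAmple.IsRelAmple f L) :
    RelAmple.IsRelAmple q ((Scheme.Modules.pullback p).obj L) := by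
  let κ := {W : Y'.affineOpens // ∃ V : Y.affineOpens, W.1 ≤ g ⁻¹ᵁ V.1}
  refine isRelAmple_of_cover q (fun W : κ ↦ W.1.1) ?_ fun W ↦ ?_
  · refine top_le_iff.mp fun y _ ↦ ?_
    obtain ⟨V, hV, hyV, -⟩ := Opens.isBasis_iff_nbhd.1 Y.isBasis_affineOpens (show g y ∈ (⊤ : Y.Opens) from trivial)
    obtain ⟨W, hW, hyW, hWV⟩ := Opens.isBasis_iff_nbhd.1 Y'.isBasis_affineOpens (show y ∈ g ⁻¹ᵁ V from hyV)
    exact Opens.mem_iSup.mpr ⟨⟨⟨W, hW⟩, ⟨V, hV⟩, hWV⟩, hyW⟩
  obtain ⟨V, hV⟩ := W.2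
  haveI : IsAffine W.1.1 := W.1.2
  haveI : IsAffine V.1 := V.2
  refine isRelAmple_of_isAmple _ ?_
  have hle : q ⁻¹ᵁ W.1.1 ≤ p ⁻¹ᵁ (f ⁻¹ᵁ V.1) := fun z hz ↦ by
    show f (p z) ∈ V.1
    rw [← Scheme.Hom.comp_apply, h.w, Scheme.Hom.comp_apply]
    exact hV hz
  have big : IsPullback ((q ⁻¹ᵁ W.1.1).ι ≫ p) (q ∣_ W.1.1) f (W.1.1.ι ≫ g) :=
    (isPullback_morphismRestrict q W.1.1).flip.paste_horiz h
  rw [← p.resLE_comp_ι hle, ← g.resLE_comp_ι hV] at big
  have sq : IsPullback (p.resLE _ _ hle) (q ∣_ W.1.1) (f ∣_ V.1) (g.resLE _ _ hV) := by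
    refine IsPullback.of_right big ?_ (isPullback_morphismRestrict f V.1).flip
    rw [← cancel_mono V.1.ι, Category.assoc, morphismRestrict_ι, Scheme.Hom.resLE_comp_ι_assoc, Category.assoc,
      Scheme.Hom.resLE_comp_ι, morphismRestrict_ι_assoc, h.w]
  haveI : IsAffineHom (g.resLE V.1 W.1.1 hV) := isAffineHom_of_isAffine _
  haveI : IsAffineHom (p.resLE _ _ hle) := MorphismProperty.of_isPullback sq.flip inferInstance
  refine isAmple_of_iso ?_ (isAmple_pullback_of_isAffineHom (p.resLE _ _ hle) (hL.2 V))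
  exact (Scheme.Modules.pullback _).mapIso ((Scheme.Modules.restrictFunctorIsoPullback _).app L) ≪≫
    (Scheme.Modules.pullbackComp _ _).app L ≪≫
    (Scheme.Modules.pullbackCongr (p.resLE_comp_ι hle)).app L ≪≫
    ((Scheme.Modules.pullbackComp _ p).app L).symm ≪≫
    ((Scheme.Modules.restrictFunctorIsoPullback _).app _).symm

/-- Ampleness relative to a composite implies ampleness relative to the first map. -/
theorem isRelAmple_of_comp (f : X ⟶ Y) (g : Y ⟶ Z) [QuasiCompact f] {L : X.Modules}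
    (hL : RelAmple.IsRelAmple (f ≫ g) L) : RelAmple.IsRelAmple f L := by
  let κ := {W : Y.affineOpens // ∃ V : Z.affineOpens, W.1 ≤ g ⁻¹ᵁ V.1}
  refine isRelAmple_of_cover f (fun W : κ ↦ W.1.1) ?_ fun W ↦ ?_
  · refine top_le_iff.mp fun y _ ↦ ?_
    obtain ⟨V, hV, hyV, -⟩ := Opens.isBasis_iff_nbhd.1 Z.isBasis_affineOpens (show g y ∈ (⊤ : Z.Opens) from trivial)
    obtain ⟨W, hW, hyW, hWV⟩ := Opens.isBasis_iff_nbhd.1 Y.isBasis_affineOpens (show y ∈ g ⁻¹ᵁ V from hyV)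
    exact Opens.mem_iSup.mpr ⟨⟨⟨W, hW⟩, ⟨V, hV⟩, hWV⟩, hyW⟩
  obtain ⟨V, hV⟩ := W.2
  haveI : IsAffine W.1.1 := W.1.2
  refine isRelAmple_of_isAmple _ ?_
  have hle : f ⁻¹ᵁ W.1.1 ≤ (f ≫ g) ⁻¹ᵁ V.1 := fun z hz ↦ hV hz
  haveI : CompactSpace (f ⁻¹ᵁ W.1.1).toScheme :=
    isCompact_iff_compactSpace.mp (f.isCompact_preimage W.1.2.isCompact)
  refine isAmple_of_iso ?_ (isAmple_pullback_of_isEmbedding (X.homOfLE hle) (X.homOfLE hle).isOpenEmbedding.isEmbedding (hL.2 V))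
  exact (Scheme.Modules.pullback _).mapIso ((Scheme.Modules.restrictFunctorIsoPullback _).app L) ≪≫
    (Scheme.Modules.pullbackComp _ _).app L ≪≫
    (Scheme.Modules.pullbackCongr (X.homOfLE_ι hle)).app L ≪≫
    ((Scheme.Modules.restrictFunctorIsoPullback _).app _).symm

theorem isRelAmple_iso {f : X ⟶ Y} {L L' : X.Modules} (e : L ≅ L') (h : RelAmple.IsRelAmple f L) :
    RelAmple.IsRelAmple f L' :=
  ⟨h.1, fun V ↦ isAmple_of_iso ((Scheme.Modules.restrictFunctor (f ⁻¹ᵁ V.1).ι).mapIso e) (h.2 V)⟩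

/-- Powers. -/
theorem isRelAmple_tensorPow_iff {f : X ⟶ Y} [QuasiCompact f] {L : X.Modules} (hL : PicF.IsInvertible L) {n : ℕ}
    (hn : 0 < n) : RelAmple.IsRelAmple f L ↔ RelAmple.IsRelAmple f (CohB1.tensorPow L n) := by
  have key : ∀ V : Y.affineOpens, CohB1.IsAmple (L.restrict (f ⁻¹ᵁ V.1).ι) ↔
      CohB1.IsAmple ((CohB1.tensorPow L n).restrict (f ⁻¹ᵁ V.1).ι) := fun V ↦ by
    haveI : CompactSpace (f ⁻¹ᵁ V.1).toScheme := isCompact_iff_compactSpace.mp (f.isCompact_preimage V.2.isCompact)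
    rw [isAmple_tensorPow_iff (TensorMod.isInvertible_restrict hL _) hn]
    exact isAmple_iff_of_iso ((Scheme.Modules.restrictFunctorIsoPullback _).app _ ≪≫ pullPowIso _ hL n ≪≫
      TensorMod.tensorPowCongr ((Scheme.Modules.restrictFunctorIsoPullback _).app L).symm n).symm
  exact ⟨fun h ↦ ⟨h.1, fun V ↦ (key V).1 (h.2 V)⟩, fun h ↦ ⟨h.1, fun V ↦ (key V).2 (h.2 V)⟩⟩

end Groth.Agent.ProjUPLib
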