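import Groth.Agent.ProjUPLib.SpanGerms
import Groth.Prelude.Def_FlatMod2

/-! Finite global generation. -/

set_option autoImplicit false
set_option backward.isDefEq.respectTransparency false
set_option backward.isDefEq.respectTransparency.types false
set_option linter.style.haveILetI false
set_option linter.unusedSectionVars false

noncomputable section

universe u

open CategoryTheory Limits AlgebraicGeometry Opposite TopologicalSpace
open Groth.Agent.QCohBase Groth.Agent.GenLocus

namespace Groth.Agent.ProjUPLib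

variable {X : Scheme.{u}}

/-- A morphism killing generating sections is zero. -/
theorem eq_zero_of_generatedBy {M P : X.Modules} {ι : Type u} (s : ι → Γ(M, ⊤)) (hs : ProjUP.GeneratedBy M s)
    (g : M ⟶ P) (h0 : ∀ i, g.app ⊤ (s i) = 0) : g = 0 := by
  refine Scheme.Modules.hom_ext _ _ fun U ↦ ?_
  ext t
  refine TopCat.Presheaf.section_ext ⟨P.presheaf, P.isSheaf⟩ U _ _ fun x hx ↦ ?_
  let φ := (TopCat.Presheaf.stalkFunctor AddCommGrpCat.{u} x).map g.mapPresheaf
  have hφ : ∀ (V : X.Opens) (hxV : x ∈ V) (a : Γ(M, V)),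
      φ (M.presheaf.germ V x hxV a) = P.presheaf.germ V x hxV (g.app V a) := fun V hxV a ↦
    TopCat.Presheaf.stalkFunctor_map_germ_apply V x hxV g.mapPresheaf a
  have key : φ (M.presheaf.germ U x hx t) = 0 := by
    have hmem : M.presheaf.germ U x hx t ∈
        Submodule.span (X.presheaf.stalk x) (Set.range fun i ↦ (M.presheaf.germ ⊤ x trivial).hom (s i)) := by
      rw [hs x]; trivial
    generalize M.presheaf.germ U x hx t = z₀ at hmem ⊢
    induction hmem using Submodule.span_induction with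
    | mem z hz =>
      obtain ⟨i, rfl⟩ := hz
      exact (hφ ⊤ trivial (s i)).trans (by rw [h0 i, map_zero])
    | zero => exact map_zero _
    | add a b _ _ ha hb => rw [map_add, ha, hb, add_zero]
    | smul c z _ hz =>
      obtain ⟨V, hxV, a, rfl⟩ := M.presheaf.exists_germ_eq z
      obtain ⟨W, hxW, r, rfl⟩ := X.presheaf.exists_germ_eq c
      have hxI : x ∈ W ⊓ V := ⟨hxW, hxV⟩
      rw [← AssPts.germ_mres M x (inf_le_right : W ⊓ V ≤ V) hxI a, hφ] at hz
      rw [← TopCat.Presheaf.germ_res_apply X.presheaf (homOfLE (inf_le_left : W ⊓ V ≤ W)) x hxI r,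
        ← AssPts.germ_mres M x (inf_le_right : W ⊓ V ≤ V) hxI a, ← AssPts.germ_smul', hφ,
        Scheme.Modules.Hom.app_smul, AssPts.germ_smul', hz, smul_zero]
  rw [hφ] at key
  exact key.trans (map_zero _).symm

/-- Finitely many generating sections give a presentation by a finite free module. -/
theorem exists_epi_free_of_generatedBy {M : X.Modules} {ι : Type u} [Finite ι] (s : ι → Γ(M, ⊤))
    (hs : ProjUP.GeneratedBy M s) : ∃ (k : ℕ) (p : FlatMod.freeMod X k ⟶ M), Epi p := by
  obtain ⟨k, ⟨e⟩⟩ := Finite.exists_equiv_fin ι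
  refine ⟨k, Sigma.desc fun i ↦ homOfSection M (s (e.symm i)), Preadditive.epi_of_cancel_zero _ fun {P} g hg ↦ ?_⟩
  refine eq_zero_of_generatedBy s hs g fun i ↦ ?_
  have h1 : homOfSection M (s i) ≫ g = 0 := by
    have h := congrArg (Sigma.ι (fun _ : Fin k ↦ Coh.structureModule X) (e i) ≫ ·) hg
    simp only [comp_zero, Sigma.ι_desc_assoc, Equiv.symm_apply_apply] at h
    exact h
  have h2 : sect (homOfSection M (s i)) (⊤ : X.Opens) = s i :=
    (sect_homOfSection M (s i) ⊤).trans (mres_refl M _ _)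
  rw [← h2]
  exact congrArg (fun φ : Coh.structureModule X ⟶ P ↦ sect φ (⊤ : X.Opens)) h1

theorem exists_epi_free_of_iso {M M' : X.Modules} (e : M ≅ M')
    (h : ∃ (k : ℕ) (p : FlatMod.freeMod X k ⟶ M), Epi p) : ∃ (k : ℕ) (p : FlatMod.freeMod X k ⟶ M'), Epi p := by
  obtain ⟨k, p, hp⟩ := h
  exact ⟨k, p ≫ e.hom, @epi_comp _ _ _ _ _ _ hp _ inferInstance⟩

/-- `- ⊗ N` turns a finite free presentation into a presentation by copies of `N`. -/
theorem exists_epi_coproduct_tensor {M : X.Modules} (N : X.Modules)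
    (h : ∃ (k : ℕ) (p : FlatMod.freeMod X k ⟶ M), Epi p) :
    ∃ (k : ℕ) (p : (∐ fun _ : Fin k ↦ N) ⟶ CohB1.tensorMod M N), Epi p := by
  obtain ⟨k, q, hq⟩ := h
  let T : X.Modules ⥤ X.Modules :=
    TensorMod.incl X ⋙ MonoidalCategory.tensorRight ((TensorMod.incl X).obj N) ⋙ TensorMod.sh X
  haveI : PreservesColimitsOfSize.{u, u} T :=
    SiteBase.tensorBi_flip_preservesColimitsOfSize (O := X.sheaf) N
  haveI : PreservesColimitsOfSize.{0, 0} T := preservesColimitsOfSize_shrink T
  haveI : Epi q := hq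
  haveI : Epi (T.map q) := inferInstance
  let a : (∐ fun _ : Fin k ↦ N) ≅ ∐ fun _ : Fin k ↦ T.obj (Coh.structureModule X) :=
    Sigma.mapIso fun _ ↦ (TensorMod.unitLeftIso N).symm
  exact ⟨k, a.hom ≫ (PreservesCoproduct.iso T fun _ : Fin k ↦ Coh.structureModule X).inv ≫ T.map q,
    epi_comp _ _⟩

/-- High twists of a coherent module by an ample one are finitely globally generated. -/
theorem eventually_exists_epi_free {L F : X.Modules} (hL : CohB1.IsAmple L) (hF : Coh.IsCoh F) :
    ∀ᶠ n in Filter.atTop, ∃ (k : ℕ) (p : FlatMod.freeMod X k ⟶ CohB1.tensorMod F (CohB1.tensorPow L n)), Epi p := by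
  classical
  haveI := hL.2.1
  haveI := isSeparated_of_isAmple hL
  haveI : F.IsQuasicoherent := hF.1
  obtain ⟨d, hd, ι, _, c, haff, hcov, -, -⟩ := exists_affine_cover_of_ample (𝟙 X) hL (PicLoc.isInvertible_structureModule X)
  choose G hG using fun k ↦ (isFiniteType_toFinite hF (haff k)).fg_top
  let κ := Σ k, G k
  obtain ⟨N₀, hN₀⟩ := Filter.eventually_atTop.1 (Filter.eventually_all.2 fun j : κ ↦
    eventually_extend_qcoh (TensorMod.isInvertible_tensorPow hL.1 d) (c j.1) (j.2.1 : Γ(F, loc _ (c j.1))))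
  obtain ⟨m₀, hm₀⟩ := Filter.eventually_atTop.1 (eventually_good (𝟙 X) hL (PicLoc.isInvertible_structureModule X))
  refine Filter.eventually_atTop.2 ⟨m₀ + d * N₀, fun n hn ↦ ?_⟩
  have h1 : N₀ ≤ (n - m₀) / d := (Nat.le_div_iff_mul_le hd).2 (by rw [mul_comm]; omega)
  generalize hN : (n - m₀) / d = N at h1
  have h2 : n = d * N + (m₀ + (n - m₀) % d) := by
    have := Nat.div_add_mod (n - m₀) d; rw [hN] at this; omega
  generalize hm : m₀ + (n - m₀) % d = m at h2
  obtain ⟨Q, hQ, φ, μ, _, t, ht⟩ := hm₀ m (by omega)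
  choose e he using hN₀ N h1
  let P := CohB1.tensorMod F (CohB1.tensorPow (CohB1.tensorPow L d) N)
  have hgen : ProjUP.GeneratedBy (CohB1.tensorMod P Q) (fun p : κ × μ ↦ SecTwist.tmul P Q ⊤ (e p.1) (t p.2)) := by
    intro x
    refine germSpan_tmul_eq_top (U := ⊤) (x := x) trivial e t ?_
      (generatedBy_of_cover t (fun y ↦ let ⟨j, hj, _⟩ := ht y; ⟨j, hj⟩) x)
    obtain ⟨k, hk⟩ := hcov x
    let b := framePow (QCohBase.mres _ (le_top : loc _ (c k) ≤ ⊤) (c k)) N
    have hb : IsFrame _ b := (isFrame_loc (c k)).framePow N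
    have hbspan : germSpan _ x hk (fun _ : Unit ↦ b) = ⊤ := by
      refine eq_top_iff.mpr fun z _ ↦ ?_
      obtain ⟨V, hxV, w, rfl⟩ := TopCat.Presheaf.exists_germ_eq (CohB1.tensorPow (CohB1.tensorPow L d) N).presheaf z
      obtain ⟨r, hr⟩ := (hb (loc _ (c k) ⊓ V) inf_le_left).2 (QCohBase.mres _ inf_le_right w)
      rw [← AssPts.germ_mres _ x (inf_le_right : loc _ (c k) ⊓ V ≤ V) ⟨hk, hxV⟩ w, ← hr, AssPts.germ_smul', AssPts.germ_mres]
      exact Submodule.smul_mem _ _ (Submodule.subset_span ⟨(), rfl⟩)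
    have hgens := germSpan_tmul_eq_top hk (fun g : G k ↦ (g.1 : Γ(F, loc _ (c k)))) (fun _ : Unit ↦ b)
      (germSpan_eq_top_of_generators (haff k) hk _ (by rw [Subtype.range_coe_subtype, Finset.setOfPred_mem]; exact hG k))
      hbspan
    refine top_le_iff.mp (hgens.ge.trans (Submodule.span_le.mpr ?_))
    rintro _ ⟨p, rfl⟩
    refine Submodule.subset_span ⟨⟨k, p.1⟩, ?_⟩
    refine (AssPts.germ_mres P x (le_top : loc _ (c k) ≤ ⊤) hk _).symm.trans ?_
    exact congrArg _ (he ⟨k, p.1⟩)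
  have E : CohB1.tensorMod P Q ≅ CohB1.tensorMod F (CohB1.tensorPow L n) := ?_
  · haveI : Finite κ := inferInstance
    exact exists_epi_free_of_iso E (exists_epi_free_of_generatedBy _ hgen)
  rw [h2]
  exact TensorMod.tensorIso (TensorMod.tensorIso (Iso.refl _) (TensorMod.tensorPowMulIso L d N))
      (φ ≪≫ TensorMod.unitRightIso _) ≪≫ TensorMod.assocIso _ _ _ ≪≫
    TensorMod.tensorIso (Iso.refl _) (TensorMod.tensorPowAddIso L (d * N) m).symm

end Groth.Agent.ProjUPLib
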