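import Groth.Agent.ProjUPLib.Immersion
import Groth.Prelude.Def_Curv2

/-! Global generation from sections. -/

set_option autoImplicit false
set_option backward.isDefEq.respectTransparency false
set_option backward.isDefEq.respectTransparency.types false

noncomputable section

universe u

open CategoryTheory Limits AlgebraicGeometry Opposite TopologicalSpace
open Groth.Agent.QCohBase Groth.Agent.GenLocus

namespace Groth.Agent.ProjUPLib

variable {X : Scheme.{u}} {M : X.Modules}

/-- Global sections whose germs span every stalk generate. -/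
theorem isGloballyGenerated_of_generatedBy {ι : Type u} (s : ι → Γ(M, ⊤)) (hs : ProjUP.GeneratedBy M s) :
    Curv2.IsGloballyGenerated M := by
  let p : (SheafOfModules.free ι : X.Modules) ⟶ M := Sigma.desc fun i ↦ homOfSection M (s i)
  have hp : ∀ (i : ι), (SheafOfModules.ιFree i : Coh.structureModule X ⟶ (SheafOfModules.free ι : X.Modules)) ≫ p =
      homOfSection M (s i) := fun i ↦ Sigma.ι_desc _ i
  refine ⟨ι, p, Preadditive.epi_of_cancel_zero p ?_⟩
  intro P' g' hg'
  let P : X.Modules := P'
  let g : M ⟶ P := g'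
  have hg : p ≫ g = 0 := hg'
  show g = 0
  have h0 : ∀ i, g.app ⊤ (s i) = 0 := fun i ↦ by
    have h1 : homOfSection M (s i) ≫ g = 0 := by
      rw [← hp i, Category.assoc, hg, comp_zero]
    have h2 : sect (homOfSection M (s i)) (⊤ : X.Opens) = s i :=
      (sect_homOfSection M (s i) ⊤).trans (mres_refl M _ _)
    rw [← h2]
    exact congrArg (fun φ : Coh.structureModule X ⟶ P ↦ sect φ (⊤ : X.Opens)) h1
  refine Scheme.Modules.hom_ext _ _ fun U ↦ ?_
  ext t
  refine TopCat.Presheaf.section_ext ⟨P.presheaf, P.isSheaf⟩ U _ _ fun x hx ↦ ?_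
  let φ := (TopCat.Presheaf.stalkFunctor AddCommGrpCat.{u} x).map g.mapPresheaf
  have hφ : ∀ (V : X.Opens) (hxV : x ∈ V) (a : Γ(M, V)),
      φ (M.presheaf.germ V x hxV a) = P.presheaf.germ V x hxV (g.app V a) := fun V hxV a ↦
    TopCat.Presheaf.stalkFunctor_map_germ_apply V x hxV g.mapPresheaf a
  have key : φ (M.presheaf.germ U x hx t) = 0 := by
    have hmem : M.presheaf.germ U x hx t ∈
        Submodule.span (X.presheaf.stalk x) (Set.range fun i ↦ (M.presheaf.germ ⊤ x trivial).hom (s i)) := by
      rw [hs x]; trivial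
    generalize M.presheaf.germ U x hx t = z₀ at hmem ⊢
    induction hmem using Submodule.span_induction with
    | mem z hz =>
      obtain ⟨i, rfl⟩ := hz
      exact (hφ ⊤ trivial (s i)).trans (by rw [h0 i, map_zero])
    | zero => exact map_zero _
    | add a b _ _ ha hb => rw [map_add, ha, hb, add_zero]
    | smul c z _ hz =>
      obtain ⟨V, hxV, a, rfl⟩ := M.presheaf.exists_germ_eq z
      obtain ⟨W, hxW, r, rfl⟩ := X.presheaf.exists_germ_eq c
      have hxI : x ∈ W ⊓ V := ⟨hxW, hxV⟩
      rw [← AssPts.germ_mres M x (inf_le_right : W ⊓ V ≤ V) hxI a, hφ] at hz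
      rw [← TopCat.Presheaf.germ_res_apply X.presheaf (homOfLE (inf_le_left : W ⊓ V ≤ W)) x hxI r,
        ← AssPts.germ_mres M x (inf_le_right : W ⊓ V ≤ V) hxI a, ← AssPts.germ_smul', hφ,
        Scheme.Modules.Hom.app_smul, AssPts.germ_smul', hz, smul_zero]
  rw [hφ] at key
  exact key.trans (map_zero _).symm

end Groth.Agent.ProjUPLib
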