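import Groth.Agent.ProjUPLib.OfVeryAmple
import Groth.Agent.S3564

/-! Relatively very ample implies relatively ample. -/

set_option autoImplicit false
set_option backward.isDefEq.respectTransparency false
set_option backward.isDefEq.respectTransparency.types false
set_option linter.style.haveILetI false

noncomputable section

universe u

open CategoryTheory Limits AlgebraicGeometry Opposite TopologicalSpace
open Groth.Agent.GenLocus

namespace Groth.Agent.ProjUPLib

/-- Powers commute with restriction. -/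
def restrictPowIso {X : Scheme.{u}} {L : X.Modules} (hL : PicF.IsInvertible L) (U : X.Opens) (d : ℕ) :
    (CohB1.tensorPow L d).restrict U.ι ≅ CohB1.tensorPow (L.restrict U.ι) d :=
  (Scheme.Modules.restrictFunctorIsoPullback U.ι).app _ ≪≫ pullPowIso U.ι hL d ≪≫
    TensorMod.tensorPowCongr ((Scheme.Modules.restrictFunctorIsoPullback U.ι).app L).symm d

variable (n : ℕ) (S : Scheme.{u})

theorem quasiCompact_toSpec : QuasiCompact (CohB1.ProjSpace.toSpec n (ULift.{u} ℤ)) := by
  haveI : CompactSpace (CohB1.ProjSpace n (ULift.{u} ℤ)) :=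
    (isAmple_twist_polyGrading n (ULift.{u} ℤ)).2.1
  exact quasiCompact_of_compactSpace _

/-- `O(1)` of projective space over any base is relatively ample. -/
theorem isRelAmple_twistOver : RelAmple.IsRelAmple
    (pullback.snd (CohB1.ProjSpace.toSpec n (ULift.{u} ℤ)) (specULiftZIsTerminal.from S))
    (Twist.twistOver n S 1) := by
  let p₁ := pullback.fst (CohB1.ProjSpace.toSpec n (ULift.{u} ℤ)) (specULiftZIsTerminal.from S)
  let p₂ := pullback.snd (CohB1.ProjSpace.toSpec n (ULift.{u} ℤ)) (specULiftZIsTerminal.from S)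
  haveI := quasiCompact_toSpec.{u} n
  refine ⟨MorphismProperty.pullback_snd _ _ inferInstance, fun W ↦ ?_⟩
  haveI : IsAffine W.1 := W.2
  haveI : IsAffineHom (W.1.ι ≫ specULiftZIsTerminal.from S) := isAffineHom_of_isAffine _
  have sq : IsPullback ((p₂ ⁻¹ᵁ W.1).ι ≫ p₁) (p₂ ∣_ W.1) (CohB1.ProjSpace.toSpec n (ULift.{u} ℤ))
      (W.1.ι ≫ specULiftZIsTerminal.from S) :=
    (isPullback_morphismRestrict p₂ W.1).flip.paste_horiz (IsPullback.of_hasPullback _ _)
  haveI : IsAffineHom ((p₂ ⁻¹ᵁ W.1).ι ≫ p₁) := MorphismProperty.of_isPullback sq.flip inferInstance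
  exact isAmple_of_iso (((Scheme.Modules.pullbackComp _ p₁).app _).symm ≪≫
      ((Scheme.Modules.restrictFunctorIsoPullback (p₂ ⁻¹ᵁ W.1).ι).app _).symm)
    (isAmple_pullback_of_isAffineHom ((p₂ ⁻¹ᵁ W.1).ι ≫ p₁) (isAmple_twist_polyGrading n (ULift.{u} ℤ)))

variable {n S}

theorem isRelAmple_of_iso {X : Scheme.{u}} (f : X ⟶ S) {L L' : X.Modules} (e : L ≅ L')
    (h : RelAmple.IsRelAmple f L) : RelAmple.IsRelAmple f L' :=
  ⟨h.1, fun V ↦ isAmple_of_iso ((Scheme.Modules.restrictFunctor (f ⁻¹ᵁ V.1).ι).mapIso e) (h.2 V)⟩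

theorem isRelAmple_of_isRelVeryAmplePn {X : Scheme.{u}} (f : X ⟶ S) [QuasiCompact f] {L : X.Modules}
    (h : RelAmple.IsRelVeryAmplePn f L) : RelAmple.IsRelAmple f L := by
  obtain ⟨n, i, hi, hif, ⟨φ⟩⟩ := h
  haveI : (CohB1.ProjSpace n (ULift.{u} ℤ)).IsSeparated :=
    isSeparated_of_isAmple (isAmple_twist_polyGrading n (ULift.{u} ℤ))
  haveI : IsSeparated (CohB1.ProjSpace.toSpec n (ULift.{u} ℤ)) := inferInstance
  haveI : IsSeparated (pullback.snd (CohB1.ProjSpace.toSpec n (ULift.{u} ℤ)) (specULiftZIsTerminal.from S)) :=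
    MorphismProperty.pullback_snd _ _ inferInstance
  haveI : QuasiCompact i := by
    haveI : QuasiCompact (i ≫ pullback.snd (CohB1.ProjSpace.toSpec n (ULift.{u} ℤ)) (specULiftZIsTerminal.from S)) := by
      rw [hif]; infer_instance
    exact QuasiCompact.of_comp i (pullback.snd (CohB1.ProjSpace.toSpec n (ULift.{u} ℤ)) (specULiftZIsTerminal.from S))
  subst hif
  exact isRelAmple_of_iso _ φ.symm (isRelAmple_comp_of_isEmbedding i _ i.isEmbedding (isRelAmple_twistOver n S))

/-- Relative ampleness descends from a positive power. -/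
theorem isRelAmple_of_tensorPow {X : Scheme.{u}} (f : X ⟶ S) {L : X.Modules} (hL : PicF.IsInvertible L) {d : ℕ}
    (hd : 0 < d) (h : RelAmple.IsRelAmple f (CohB1.tensorPow L d)) : RelAmple.IsRelAmple f L := by
  refine ⟨h.1, fun V ↦ ?_⟩
  haveI := (h.2 V).2.1
  exact (isAmple_tensorPow_iff (TensorMod.isInvertible_restrict hL _) hd).2
    (isAmple_of_iso (restrictPowIso hL _ d) (h.2 V))

end Groth.Agent.ProjUPLib
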