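import Groth.Agent.ProjUPLib.RelAmpleTwist
import Groth.Agent.ProjUPLib.RelVeryAmple
import Groth.Agent.GenLocus.UnivClosed
import Groth.Agent.ProjFinite.Finite

/-! Quasi-projective morphisms over a base with an ample module. -/

set_option autoImplicit false
set_option backward.isDefEq.respectTransparency false
set_option backward.isDefEq.respectTransparency.types false
set_option linter.style.haveILetI false

noncomputable section

universe u

open CategoryTheory Limits AlgebraicGeometry Opposite TopologicalSpace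
open Groth.Agent.GenLocus

namespace Groth.Agent.ProjUPLib

variable {X S : Scheme.{u}}

theorem isProper_toBase (n : ℕ) (S : Scheme.{u}) :
    IsProper (pullback.snd (CohB1.ProjSpace.toSpec n (ULift.{u} ℤ)) (specULiftZIsTerminal.from S)) :=
  MorphismProperty.pullback_snd _ _ inferInstance

theorem exists_ample_of_relAmple (hS : ∃ N : S.Modules, CohB1.IsAmple N) (f : X ⟶ S)
    (h : ∃ L : X.Modules, RelAmple.IsRelAmple f L) : ∃ L : X.Modules, CohB1.IsAmple L := by
  obtain ⟨N, hN⟩ := hS
  obtain ⟨L, hL⟩ := h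
  obtain ⟨n, hn⟩ := (eventually_isAmple_twist f hL (isInvertible_of_isRelAmple f hL) hN).exists
  exact ⟨_, hn⟩

theorem exists_relAmple_of_ample {L : X.Modules} (f : X ⟶ S) [QuasiSeparatedSpace S] (hL : CohB1.IsAmple L) :
    RelAmple.IsRelAmple f L := by
  haveI := hL.2.1
  haveI : QuasiCompact f := quasiCompact_of_compactSpace f
  exact isRelAmple_of_comp f (specULiftZIsTerminal.from S) (isRelAmple_of_isAmple _ hL)

theorem exists_immersion_of_ample [QuasiSeparatedSpace S] (f : X ⟶ S) [LocallyOfFiniteType f]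
    (h : ∃ L : X.Modules, CohB1.IsAmple L) :
    ∃ (n : ℕ) (i : X ⟶ CohB1.ProjSpaceOver n S), IsImmersion i ∧ QuasiCompact i ∧
      i ≫ pullback.snd (CohB1.ProjSpace.toSpec n (ULift.{u} ℤ)) (specULiftZIsTerminal.from S) = f := by
  obtain ⟨L, hL⟩ := h
  obtain ⟨d, hd⟩ := (eventually_veryAmple_pow f hL).exists
  obtain ⟨n, i, hi, hif, -⟩ := hd
  haveI := isProper_toBase.{u} n S
  haveI := hL.2.1
  haveI : QuasiCompact f := quasiCompact_of_compactSpace f
  haveI : QuasiCompact (i ≫ pullback.snd (CohB1.ProjSpace.toSpec n (ULift.{u} ℤ)) (specULiftZIsTerminal.from S)) := by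
    rw [hif]; infer_instance
  exact ⟨n, i, hi, QuasiCompact.of_comp i (pullback.snd (CohB1.ProjSpace.toSpec n (ULift.{u} ℤ)) (specULiftZIsTerminal.from S)), hif⟩

theorem of_immersion (f : X ⟶ S) {n : ℕ} (i : X ⟶ CohB1.ProjSpaceOver n S) [IsImmersion i] [QuasiCompact i]
    (hif : i ≫ pullback.snd (CohB1.ProjSpace.toSpec n (ULift.{u} ℤ)) (specULiftZIsTerminal.from S) = f) :
    LocallyOfFiniteType f ∧ QuasiCompact f ∧ ∃ L : X.Modules, RelAmple.IsRelAmple f L := by
  haveI := isProper_toBase.{u} n S
  subst hif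
  refine ⟨inferInstance, inferInstance, (Scheme.Modules.pullback i).obj (Twist.twistOver n S 1), ?_⟩
  exact isRelAmple_of_isRelVeryAmplePn _ ⟨n, i, inferInstance, rfl, ⟨Iso.refl _⟩⟩

theorem isClosedImmersion_of_proper {P : Scheme.{u}} (i : X ⟶ P) (p : P ⟶ S) [IsImmersion i] [IsSeparated p]
    [IsProper (i ≫ p)] : IsClosedImmersion i := by
  haveI : IsProper i := MorphismProperty.of_postcomp (W := @IsProper) (W' := @IsSeparated) i p inferInstance inferInstance
  exact .of_isPreimmersion _ i.isClosedMap.isClosed_range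

end Groth.Agent.ProjUPLib
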