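import Groth.Agent.GenLocus.PullTensor

/-! Two invertible modules generated by sections with the same relations are isomorphic. -/

set_option autoImplicit false
set_option backward.isDefEq.respectTransparency false
set_option backward.isDefEq.respectTransparency.types false

noncomputable section

universe u

open CategoryTheory Limits AlgebraicGeometry Opposite TopologicalSpace
open Groth.Agent.QCohBase Groth.Agent.GenLocus

namespace Groth.Agent.ProjUPLib

variable {X : Scheme.{u}} {M N : X.Modules}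

theorem exists_iso_of_same_rel {ι : Type u} (U : ι → X.Opens) (hcov : (⊤ : X.Opens) ≤ iSup U)
    (a : ι → Γ(M, ⊤)) (b : ι → Γ(N, ⊤))
    (ha : ∀ i, IsFrame M (QCohBase.mres M (le_top : U i ≤ ⊤) (a i)))
    (hb : ∀ i, IsFrame N (QCohBase.mres N (le_top : U i ≤ ⊤) (b i)))
    (v : ∀ i, ι → Γ(X, U i))
    (hva : ∀ i j, v i j • QCohBase.mres M (le_top : U i ≤ ⊤) (a i) = QCohBase.mres M le_top (a j))
    (hvb : ∀ i j, v i j • QCohBase.mres N (le_top : U i ≤ ⊤) (b i) = QCohBase.mres N le_top (b j)) :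
    ∃ τ : M ≅ N, ∀ i, τ.hom.app ⊤ (a i) = b i := by
  let P : ∀ V : X.Opens, Γ(M, V) → Γ(N, V) → Prop := fun V m n ↦
    ∀ (i : ι) (W : X.Opens) (hi : W ≤ U i) (hV : W ≤ V) (c : Γ(X, W)),
      c • QCohBase.mres M (le_top : W ≤ ⊤) (a i) = QCohBase.mres M hV m →
      c • QCohBase.mres N (le_top : W ≤ ⊤) (b i) = QCohBase.mres N hV n
  have hfr : ∀ (i : ι) (W : X.Opens) (hi : W ≤ U i),
      Function.Bijective fun c : Γ(X, W) ↦ c • QCohBase.mres M (le_top : W ≤ ⊤) (a i) := fun i W hi ↦ by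
    simpa only [mres_mres] using ha i W hi
  -- changing the index
  have hchange : ∀ (i j : ι) (W : X.Opens) (hi : W ≤ U i) (hj : W ≤ U j) (ci cj : Γ(X, W)),
      ci • QCohBase.mres M (le_top : W ≤ ⊤) (a i) = cj • QCohBase.mres M (le_top : W ≤ ⊤) (a j) →
      ci • QCohBase.mres N (le_top : W ≤ ⊤) (b i) = cj • QCohBase.mres N (le_top : W ≤ ⊤) (b j) := by
    intro i j W hi hj ci cj h
    have e1 := congrArg (QCohBase.mres M hi) (hva i j)
    have e2 := congrArg (QCohBase.mres N hi) (hvb i j)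
    simp only [mres_smul, mres_mres] at e1 e2
    rw [← e1, smul_smul] at h
    rw [← e2, smul_smul, (hfr i W hi).1 h]
  have hcovV : ∀ V : X.Opens, V ≤ ⨆ i, U i ⊓ V := fun V x hx ↦ by
    obtain ⟨i, hi⟩ := Opens.mem_iSup.mp (hcov (trivial : x ∈ (⊤ : X.Opens)))
    exact Opens.mem_iSup.mpr ⟨i, hi, hx⟩
  have huniq : ∀ (V : X.Opens) (m : Γ(M, V)) (n n' : Γ(N, V)), P V m n → P V m n' → n = n' := by
    intro V m n n' h h'
    refine eq_of_iSup_le N _ (fun i ↦ inf_le_right) (hcovV V) _ _ fun i ↦ ?_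
    obtain ⟨c, hc⟩ := (hfr i (U i ⊓ V) inf_le_left).2 (QCohBase.mres M inf_le_right m)
    rw [← h i _ inf_le_left inf_le_right c hc, ← h' i _ inf_le_left inf_le_right c hc]
  have hex : ∀ (V : X.Opens) (m : Γ(M, V)), ∃ n, P V m n := by
    intro V m
    choose c hc using fun i ↦ (hfr i (U i ⊓ V) inf_le_left).2 (QCohBase.mres M inf_le_right m)
    obtain ⟨n, hn, -⟩ := TopCat.Sheaf.existsUnique_gluing' ⟨N.presheaf, N.isSheaf⟩
      (fun i ↦ U i ⊓ V) V (fun i ↦ homOfLE inf_le_right) (hcovV V)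
      (fun i ↦ c i • QCohBase.mres N (le_top : U i ⊓ V ≤ ⊤) (b i)) (fun i j ↦ by
        show QCohBase.mres N inf_le_left _ = QCohBase.mres N inf_le_right _
        simp only [mres_smul, mres_mres]
        refine hchange i j _ (inf_le_left.trans inf_le_left) (inf_le_right.trans inf_le_left) _ _ ?_
        have e1 := congrArg (QCohBase.mres M (inf_le_left : (U i ⊓ V) ⊓ (U j ⊓ V) ≤ U i ⊓ V)) (hc i)
        have e2 := congrArg (QCohBase.mres M (inf_le_right : (U i ⊓ V) ⊓ (U j ⊓ V) ≤ U j ⊓ V)) (hc j)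
        simp only [mres_smul, mres_mres] at e1 e2
        exact e1.trans e2.symm)
    refine ⟨n, fun j W hj hV d hd ↦ ?_⟩
    refine eq_of_iSup_le N (fun i ↦ U i ⊓ W) (fun i ↦ inf_le_right) (hcovV W) _ _ fun i ↦ ?_
    have hn' : QCohBase.mres N (inf_le_right : U i ⊓ V ≤ V) n =
      c i • QCohBase.mres N (le_top : U i ⊓ V ≤ ⊤) (b i) := hn i
    have e3 := congrArg (QCohBase.mres N (inf_le_inf_left (U i) hV)) hn'
    simp only [mres_smul, mres_mres] at e3 ⊢
    rw [e3]
    refine hchange j i _ (inf_le_right.trans hj) inf_le_left _ _ ?_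
    have e1 := congrArg (QCohBase.mres M (inf_le_right : U i ⊓ W ≤ W)) hd
    have e2 := congrArg (QCohBase.mres M (inf_le_inf_left (U i) hV)) (hc i)
    simp only [mres_smul, mres_mres] at e1 e2
    exact e1.trans e2.symm
  choose f hf using hex
  let φ : M ⟶ N := modHomMk
    (fun V ↦ AddMonoidHom.mk' (f V) fun m m' ↦ huniq V _ _ _ (hf V _) fun i W hi hV c hc ↦ by
      obtain ⟨c₁, hc₁⟩ := (hfr i W hi).2 (QCohBase.mres M hV m)
      obtain ⟨c₂, hc₂⟩ := (hfr i W hi).2 (QCohBase.mres M hV m')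
      have : c = c₁ + c₂ := (hfr i W hi).1 <| by
        simp only [add_smul, hc₁, hc₂, hc]
        exact map_add _ _ _
      rw [this, add_smul, hf V m i W hi hV c₁ hc₁, hf V m' i W hi hV c₂ hc₂]
      exact (map_add _ _ _).symm)
    (fun V W h m ↦ huniq W _ _ _ (fun i T hi hT c hc ↦ by
      rw [mres_mres] at hc ⊢
      exact hf V m i T hi _ c hc) (hf W _))
    (fun V r m ↦ huniq V _ _ _ (hf V _) fun i W hi hV c hc ↦ by
      obtain ⟨c₁, hc₁⟩ := (hfr i W hi).2 (QCohBase.mres M hV m)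
      have : c = ores hV r * c₁ := (hfr i W hi).1 <| by
        simp only [mul_smul, hc₁, hc, mres_smul]
      simp only [AddMonoidHom.mk'_apply, mres_smul]
      rw [this, mul_smul, hf V m i W hi hV c₁ hc₁])
  have happ : ∀ i, φ.app ⊤ (a i) = b i := fun i ↦ by
    show f ⊤ (a i) = b i
    refine huniq ⊤ _ _ _ (hf ⊤ _) fun j W hj hT c hc ↦ ?_
    have e1 := congrArg (QCohBase.mres M hj) (hva j i)
    have e2 := congrArg (QCohBase.mres N hj) (hvb j i)
    simp only [mres_smul, mres_mres] at e1 e2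
    have : c = ores hj (v j i) := (hfr j W hj).1 (hc.trans e1.symm)
    rw [this]
    exact e2
  haveI : IsIso φ := isIso_of_frames φ fun x ↦ by
    obtain ⟨i, hi⟩ := Opens.mem_iSup.mp (hcov (trivial : x ∈ (⊤ : X.Opens)))
    refine ⟨U i, hi, _, ha i, ?_⟩
    rw [← app_mres, happ]
    exact hb i
  exact ⟨asIso φ, happ⟩

end Groth.Agent.ProjUPLib
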