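import Groth.Agent.GenLocus.Basic
import Groth.Prelude.Def_Twist2

/-! Degree one elements give frames of `O(1)`. -/

set_option autoImplicit false
set_option backward.isDefEq.respectTransparency false
set_option backward.isDefEq.respectTransparency.types false

noncomputable section

universe u

open CategoryTheory AlgebraicGeometry Opposite TopologicalSpace HomogeneousLocalization
open Groth.Agent.QCohBase Groth.Agent.GenLocus

namespace Groth.Agent.ProjUPLib

variable {R A : Type u} [CommRing R] [CommRing A] [Algebra R A] (𝒜 : ℕ → Submodule R A) [GradedAlgebra 𝒜]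

/-- The global section of `O(1)` given by a degree one element. -/
def oneSec {f : A} (hf : f ∈ 𝒜 1) : Γ(Twist.twist 𝒜 1, ⊤) := Twist.globalOf 𝒜 (i := 1) ⟨f, hf⟩

lemma isFrame_oneSec {f : A} (hf : f ∈ 𝒜 1) :
    IsFrame (Twist.twist 𝒜 1) (QCohBase.mres _ (le_top : Proj.basicOpen 𝒜 f ≤ ⊤) (oneSec 𝒜 hf)) := by
  intro V hV
  have hval : ∀ (r : Γ(Proj 𝒜, V)) (x : V),
      ((r • QCohBase.mres _ hV (QCohBase.mres _ (le_top : Proj.basicOpen 𝒜 f ≤ ⊤) (oneSec 𝒜 hf)) :
        Γ(Twist.twist 𝒜 1, V)).1 x).1 =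
      (r.1 x).val * algebraMap A (Twist.Loc 𝒜 x.1) f := by
    intro r x
    refine (Twist.coe_smul_val 1 x.1 _ _).trans ?_
    rw [← Localization.mk_one_eq_algebraMap]
    rfl
  have hu : ∀ x : V, IsUnit (algebraMap A (Twist.Loc 𝒜 x.1) f) := fun x ↦
    IsLocalization.map_units _ (⟨f, hV x.2⟩ : x.1.asHomogeneousIdeal.toIdeal.primeCompl)
  refine ⟨fun r r' h ↦ Subtype.ext (funext fun x ↦ HomogeneousLocalization.val_injective _
    ((hu x).mul_left_injective ?_)), fun φ ↦ ?_⟩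
  · have := congrArg (fun s : Γ(Twist.twist 𝒜 1, V) ↦ (s.1 x).1) h
    simpa only [hval] using this
  · have hloc : ∀ x : V, ∃ (W : Opens (ProjectiveSpectrum.top 𝒜)) (_ : x.1 ∈ W) (hW : W ≤ V) (j : ℕ)
        (a : 𝒜 (j + 1)) (t : 𝒜 j) (hnin : ∀ y : W, (t : A) * f ∉ y.1.asHomogeneousIdeal),
        ∀ y : W, (φ.1 ⟨y.1, hW y.2⟩).1 =
          Localization.mk ((a : A) * f) ⟨(t : A) * f, hnin y⟩ := by
      intro x
      obtain ⟨W, hxW, iW, i, j, a, t, nin, hdeg, hw⟩ := φ.2 x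
      have hnin : ∀ y : W, (t : A) * f ∉ y.1.asHomogeneousIdeal := fun y h ↦
        (y.1.isPrime.mem_or_mem h).elim (nin y) (hV (iW y).2)
      refine ⟨W, hxW, iW.le, j, ⟨a, ?_⟩, t, hnin, fun y ↦ ?_⟩
      · rcases hdeg with h | h
        · exact (show i = j + 1 by omega) ▸ a.2
        · rw [h]; exact zero_mem _
      · refine (hw y).trans ?_
        rw [Localization.mk_eq_mk_iff, Localization.r_iff_exists]
        exact ⟨1, by simp; ring⟩
    choose W hxW hW j a t hnin hw using hloc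
    let r : ∀ x : V, Twist.A0 𝒜 x.1 := fun x ↦ HomogeneousLocalization.mk
      { deg := j x + 1, num := a x, den := ⟨t x * f, SetLike.mul_mem_graded (t x).2 hf⟩,
        den_mem := hnin x ⟨x.1, hxW x⟩ }
    have hr : ∀ (x : V) (y : W x), (r ⟨y.1, hW x y.2⟩).val =
        Localization.mk (a x : A) ⟨(t x : A) * f, hnin x y⟩ := by
      intro x y
      refine (hu ⟨y.1, hW x y.2⟩).mul_left_injective ?_
      show (r ⟨y.1, hW x y.2⟩).val * _ = _ * _
      rw [show (r ⟨y.1, hW x y.2⟩).val * algebraMap A (Twist.Loc 𝒜 y.1) f =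
        Localization.mk ((a ⟨y.1, hW x y.2⟩ : A) * f)
          ⟨(t ⟨y.1, hW x y.2⟩ : A) * f, hnin ⟨y.1, hW x y.2⟩ ⟨y.1, hxW ⟨y.1, hW x y.2⟩⟩⟩ from ?_,
        ← hw ⟨y.1, hW x y.2⟩ ⟨y.1, hxW _⟩, hw x y, ← Localization.mk_one_eq_algebraMap,
        Localization.mk_mul, mul_one]
      rw [HomogeneousLocalization.val_mk, ← Localization.mk_one_eq_algebraMap, Localization.mk_mul, mul_one]
    refine ⟨⟨r, fun x ↦ ⟨W x, hxW x, homOfLE (hW x), j x + 1, a x,
      ⟨t x * f, SetLike.mul_mem_graded (t x).2 hf⟩, hnin x,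
      fun y ↦ HomogeneousLocalization.val_injective _ ?_⟩⟩, Subtype.ext (funext fun x ↦ Subtype.ext ?_)⟩
    · refine (hr x y).trans ?_
      rfl
    · refine (hval _ x).trans ?_
      show (r x).val * _ = (φ.1 x).1
      rw [show φ.1 x = φ.1 ⟨x.1, hW x (hxW x)⟩ from rfl, hw x ⟨x.1, hxW x⟩, HomogeneousLocalization.val_mk,
        ← Localization.mk_one_eq_algebraMap, Localization.mk_mul, mul_one]

/-- `g = (g/f) f` on `D₊(f)`. -/
lemma oneSec_rel {f g : A} (hf : f ∈ 𝒜 1) (hg : g ∈ 𝒜 1) (hg' : g ∈ 𝒜 (1 • 1)) :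
    (Proj.awayToSection 𝒜 f).hom (Away.mk 𝒜 hf 1 g hg') •
        QCohBase.mres _ (le_top : Proj.basicOpen 𝒜 f ≤ ⊤) (oneSec 𝒜 hf) =
      QCohBase.mres _ (le_top : Proj.basicOpen 𝒜 f ≤ ⊤) (oneSec 𝒜 hg) := by
  refine Subtype.ext (funext fun x ↦ Subtype.ext ((Twist.coe_smul_val 1 x.1 _ _).trans ?_))
  erw [ProjectiveSpectrum.Proj.awayToSection_apply]
  rw [Away.val_mk, Localization.mk_eq_mk', IsLocalization.map_mk', ← Localization.mk_eq_mk']
  show _ * Localization.mk f _ = Localization.mk g _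
  rw [Localization.mk_mul, Localization.mk_eq_mk_iff, Localization.r_iff_exists]
  exact ⟨1, by simp; ring⟩

end Groth.Agent.ProjUPLib
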