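import Groth.Agent.ProjCoord.Basic
import Groth.Agent.ProjUPLib.SameRel
import Groth.Agent.ProjUPLib.TwistOne
import Groth.Agent.AssPts.Basic
import Groth.Prelude.Def_ProjUP

/-! The morphism to projective space given by generating sections of an invertible module. -/

set_option autoImplicit false
set_option backward.isDefEq.respectTransparency false
set_option backward.isDefEq.respectTransparency.types false
set_option linter.style.haveILetI false

noncomputable section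

universe u

open CategoryTheory Limits AlgebraicGeometry Opposite TopologicalSpace HomogeneousLocalization
open Groth.Agent.QCohBase Groth.Agent.GenLocus Groth.Agent.ProjCoord MvPolynomial

namespace Groth.Agent.ProjUPLib

section Affine

variable {X : Scheme.{u}} {R : Type u} [CommRing R]

lemma toSpecΓ_SpecMap_toGlobal (q : X ⟶ Spec (CommRingCat.of R)) :
    X.toSpecΓ ≫ Spec.map (CommRingCat.ofHom (ProjUP.toGlobal q)) = q := by
  show X.toSpecΓ ≫ Spec.map ((Scheme.ΓSpecIso (CommRingCat.of R)).inv ≫ q.appTop) = q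
  rw [Spec.map_comp, ← Category.assoc, ← Scheme.toSpecΓ_naturality, Category.assoc,
    toSpecΓ_SpecMap_ΓSpecIso_inv, Category.comp_id]

lemma toGlobal_comp {T : Scheme.{u}} (g : T ⟶ X) (q : X ⟶ Spec (CommRingCat.of R)) :
    g.appTop.hom.comp (ProjUP.toGlobal q) = ProjUP.toGlobal (g ≫ q) := rfl

end Affine

section Coords

variable {R : Type u} [CommRing R] {n : ℕ}

local notation "P𝒜" => CohB1.polyGrading n R

lemma awayToSection_awayι_appLE {A : Type u} [CommRing A] [Algebra R A] (𝒜 : ℕ → Submodule R A)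
    [GradedAlgebra 𝒜] {f : A} {d : ℕ} (hf : f ∈ 𝒜 d) (hd : 0 < d)
    (e : ⊤ ≤ Proj.awayι 𝒜 f hf hd ⁻¹ᵁ Proj.basicOpen 𝒜 f) :
    Proj.awayToSection 𝒜 f ≫ (Proj.awayι 𝒜 f hf hd).appLE (Proj.basicOpen 𝒜 f) ⊤ e =
      (Scheme.ΓSpecIso _).inv := by
  have hι : Proj.awayι 𝒜 f hf hd = (Proj.basicOpenIsoSpec 𝒜 f hf hd).inv ≫ (Proj.basicOpen 𝒜 f).ι := rfl
  have h3 : (Proj.basicOpenIsoSpec 𝒜 f hf hd).hom ≫ Proj.awayι 𝒜 f hf hd = (Proj.basicOpen 𝒜 f).ι := by
    rw [hι, Iso.hom_inv_id_assoc]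
  have h1 : (Proj.basicOpen 𝒜 f).ι.appLE (Proj.basicOpen 𝒜 f) ⊤ (by simp) =
      (Proj.basicOpen 𝒜 f).topIso.inv := by
    simp [Scheme.Opens.topIso]
    rfl
  have h2 : (Proj.awayι 𝒜 f hf hd).appLE (Proj.basicOpen 𝒜 f) ⊤ e ≫
      ((Scheme.ΓSpecIso _).hom ≫ Proj.awayToSection 𝒜 f ≫ (Proj.basicOpen 𝒜 f).topIso.inv) =
        (Proj.basicOpen 𝒜 f).topIso.inv := by
    rw [← Proj.basicOpenToSpec_app_top, ← h1, ← Proj.basicOpenIsoSpec_hom 𝒜 f hf hd,
      Scheme.Hom.app_eq_appLE]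
    erw [Scheme.Hom.appLE_comp_appLE]
    simp [h3]
  haveI : IsIso (Proj.awayToSection 𝒜 f) := (Proj.basicOpenIsoAway 𝒜 f hf hd).isIso_hom
  have h4 : (Proj.awayι 𝒜 f hf hd).appLE (Proj.basicOpen 𝒜 f) ⊤ e ≫ (Scheme.ΓSpecIso _).hom ≫
      Proj.awayToSection 𝒜 f = 𝟙 _ := by
    rw [← cancel_mono (Proj.basicOpen 𝒜 f).topIso.inv, Category.id_comp]
    simpa only [Category.assoc] using h2
  rw [← cancel_mono (Scheme.ΓSpecIso _).hom, ← cancel_mono (Proj.awayToSection 𝒜 f)]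
  simp [h4]

lemma pt_appLE {T : Scheme.{u}} (ρ : R →+* Γ(T, ⊤)) (v : Fin (n + 1) → Γ(T, ⊤))
    (i : Fin (n + 1)) (hi : IsUnit (v i))
    (e : ⊤ ≤ pt ρ v i hi ⁻¹ᵁ Proj.basicOpen P𝒜 (X i)) (a : Away P𝒜 (X i)) :
    ((pt ρ v i hi).appLE (Proj.basicOpen P𝒜 (X i)) ⊤ e).hom ((Proj.awayToSection P𝒜 (X i)).hom a) =
      awayEval (𝒜 := P𝒜) (eval₂Hom ρ v) (x := X i) (by rwa [eval₂Hom_X']) a := by
  have hR : (⊤ : (Spec (CommRingCat.of (Away P𝒜 (X i : MvPolynomial (Fin (n + 1)) R)))).Opens) ≤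
      Proj.awayι P𝒜 (X i) (X_mem i) one_pos ⁻¹ᵁ Proj.basicOpen P𝒜 (X i) := fun z _ ↦
    (Proj.opensRange_awayι P𝒜 (X i) (X_mem i) one_pos).le ⟨z, rfl⟩
  have key : Proj.awayToSection P𝒜 (X i) ≫ (pt ρ v i hi).appLE (Proj.basicOpen P𝒜 (X i)) ⊤ e =
      CommRingCat.ofHom (awayEval (𝒜 := P𝒜) (eval₂Hom ρ v) (x := X i) (by rwa [eval₂Hom_X'])) := by
    simp only [pt, ← Category.assoc]
    rw [← Scheme.Hom.appLE_comp_appLE _ _ _ ⊤ ⊤ hR (by simp), ← Category.assoc,
      awayToSection_awayι_appLE _ _ _ hR]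
    erw [Scheme.Hom.appLE_eq_app]
    simp
  exact congrArg (fun φ ↦ φ.hom a) key

lemma coord_eq_oneSec (i : Fin (n + 1)) :
    ProjUP.coord n R i = oneSec P𝒜 (X_mem (R := R) i) := rfl

end Coords

section Main

variable {R : Type u} [CommRing R] {n : ℕ} {X : Scheme.{u}}

local notation "P𝒜" => CohB1.polyGrading n R

theorem exists_toProj (q : X ⟶ Spec (CommRingCat.of R)) (L : X.Modules) (hL : PicF.IsInvertible L)
    (s : Fin (n + 1) → ProjUP.Γm L) (hs : ProjUP.GeneratedBy L s) :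
    ∃ (U : ULift.{u} (Fin (n + 1)) → X.Opens) (_ : ⊤ ≤ iSup U)
      (v : ∀ i, ULift.{u} (Fin (n + 1)) → Γ(X, U i))
      (_ : ∀ i, IsFrame L (QCohBase.mres L (le_top : U i ≤ ⊤) (s i.down)))
      (_ : ∀ i j, v i j • QCohBase.mres L (le_top : U i ≤ ⊤) (s i.down) = QCohBase.mres L le_top (s j.down))
      (r : X ⟶ Proj P𝒜) (_ : r ≫ ProjCoord.baseMap n R = q)
      (h : ∀ i, U i ≤ r ⁻¹ᵁ Proj.basicOpen P𝒜 (MvPolynomial.X i.down)),
      ∀ i j, (r.appLE _ _ (h i)).hom ((Proj.awayToSection P𝒜 (MvPolynomial.X i.down)).hom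
        (ratio i.down j.down)) = v i j := by
  let U : ULift.{u} (Fin (n + 1)) → X.Opens := fun i ↦ CohB1.genLocus L (homOfSection L (s i.down))
  have hfr : ∀ i, IsFrame L (QCohBase.mres L (le_top : U i ≤ ⊤) (s i.down)) := fun i ↦ by
    have := isFrame_sect_genLocus (homOfSection L (s i.down))
    rwa [sect_homOfSection] at this
  have hcov : ⊤ ≤ iSup U := by
    intro x _
    obtain ⟨W, -, hxW, -, e, he⟩ := exists_isFrame hL (W := ⊤) (x := x) trivial
    choose f hf using fun k ↦ he.bijective.2 (QCohBase.mres L (le_top : W ≤ ⊤) (s k))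
    by_contra hno
    simp only [Opens.mem_iSup, not_exists] at hno
    have hnu : ∀ k, X.presheaf.germ W x hxW (f k) ∈ IsLocalRing.maximalIdeal (X.presheaf.stalk x) := by
      intro k hu
      have hx : x ∈ X.basicOpen (f k) := (Scheme.mem_basicOpen _ _ _ hxW).mpr hu
      rw [← genLocus_inf_eq_basicOpen (homOfSection L (s k)) he
        ((hf k).trans (sect_homOfSection L (s k) W).symm)] at hx
      exact hno ⟨k⟩ hx.1
    have htop := hs x
    have hle : Submodule.span (X.presheaf.stalk x)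
        (Set.range fun k => (L.presheaf.germ ⊤ x trivial).hom (s k)) ≤
        (IsLocalRing.maximalIdeal (X.presheaf.stalk x)) • (⊤ : Submodule (X.presheaf.stalk x) _) := by
      rw [Submodule.span_le]
      rintro _ ⟨k, rfl⟩
      show (L.presheaf.germ ⊤ x trivial).hom (s k) ∈ _
      rw [← L.presheaf.germ_res_apply (homOfLE (le_top : W ≤ ⊤)) x hxW (s k)]
      rw [show L.presheaf.map (homOfLE (le_top : W ≤ ⊤)).op (s k) = f k • e from (hf k).symm]
      rw [AssPts.germ_smul' L x hxW]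
      exact Submodule.smul_mem_smul (hnu k) trivial
    rw [htop] at hle
    set ε := L.presheaf.germ W x hxW e
    -- every germ is a multiple of that of the frame
    have hgen : ∀ z : L.presheaf.stalk x, ∃ c : X.presheaf.stalk x, c • ε = z := by
      intro z
      obtain ⟨V, hxV, t, rfl⟩ := L.presheaf.exists_germ_eq z
      obtain ⟨c, hc⟩ := (he (W ⊓ V) inf_le_left).2 (QCohBase.mres L inf_le_right t)
      refine ⟨X.presheaf.germ (W ⊓ V) x ⟨hxW, hxV⟩ c, ?_⟩
      rw [← AssPts.germ_mres L x (inf_le_right : W ⊓ V ≤ V) ⟨hxW, hxV⟩ t, ← hc, AssPts.germ_smul' L x,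
        AssPts.germ_mres]
    have hm : ∀ z ∈ IsLocalRing.maximalIdeal (X.presheaf.stalk x) •
        (⊤ : Submodule (X.presheaf.stalk x) (L.presheaf.stalk x)),
        ∃ c ∈ IsLocalRing.maximalIdeal (X.presheaf.stalk x), c • ε = z := by
      intro z hz
      refine Submodule.smul_induction_on hz (fun c hc y _ ↦ ?_) ?_
      · obtain ⟨d, rfl⟩ := hgen y
        exact ⟨c * d, Ideal.mul_mem_right _ _ hc, mul_smul c d ε⟩
      · rintro y z ⟨c, hc, rfl⟩ ⟨d, hd, rfl⟩
        exact ⟨c + d, add_mem hc hd, add_smul c d ε⟩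
    obtain ⟨c, hc, hce⟩ := hm ε (hle trivial)
    have hu : IsUnit (1 - c) := (IsLocalRing.notMem_maximalIdeal).mp fun h ↦
      (IsLocalRing.maximalIdeal.isMaximal (X.presheaf.stalk x)).ne_top
        ((Ideal.eq_top_iff_one _).mpr (by simpa using add_mem h hc))
    have h0 : L.presheaf.germ W x hxW e = L.presheaf.germ W x hxW 0 := by
      rw [map_zero, ← hu.smul_eq_zero, sub_smul, one_smul, hce, sub_self]
    obtain ⟨V, hxV, i₁, i₂, hV⟩ := L.presheaf.germ_eq x hxW hxW e 0 h0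
    rw [map_zero] at hV
    have h10 : (1 : Γ(X, V)) = 0 := (he V i₁.le).1 (by
      show (1 : Γ(X, V)) • _ = (0 : Γ(X, V)) • _
      rw [one_smul, zero_smul]
      exact hV)
    have := congrArg (X.presheaf.germ V x hxV) h10
    rw [map_one, map_zero] at this
    exact one_ne_zero this
  choose v hv using fun i (j : ULift.{u} (Fin (n + 1))) ↦ (hfr i).bijective.2 (QCohBase.mres L le_top (s j.down))
  have hvii : ∀ i, v i i = 1 := fun i ↦ (hfr i).bijective.1 ((hv i i).trans (one_smul _ _).symm)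
  -- cocycle relations on overlaps
  have hcoc : ∀ i j k l, ores (inf_le_left : U i ⊓ U j ≤ U i) (v i k) * ores inf_le_right (v j l) =
      ores (inf_le_left : U i ⊓ U j ≤ U i) (v i l) * ores inf_le_right (v j k) := by
    intro i j k l
    have hk : ∀ k, ores (inf_le_left : U i ⊓ U j ≤ U i) (v i k) * ores inf_le_right (v j i) =
        ores (inf_le_right : U i ⊓ U j ≤ U j) (v j k) := by
      intro k
      have e1 := congrArg (QCohBase.mres L (inf_le_left : U i ⊓ U j ≤ U i)) (hv i k)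
      have e2 := congrArg (QCohBase.mres L (inf_le_right : U i ⊓ U j ≤ U j)) (hv j k)
      have e3 := congrArg (QCohBase.mres L (inf_le_right : U i ⊓ U j ≤ U j)) (hv j i)
      simp only [mres_smul, mres_mres] at e1 e2 e3
      refine ((hfr j).res inf_le_right).bijective.1 ?_
      simp only [mres_mres]
      rw [mul_smul, e3, e1]
      exact e2.symm
    rw [← hk k, ← hk l]
    ring
  let σ : ∀ i, Γ(X, U i) →+* Γ((U i).toScheme, ⊤) := fun i ↦ ((U i).ι.appLE (U i) ⊤ (by simp)).hom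
  let ρ : ∀ i, R →+* Γ((U i).toScheme, ⊤) := fun i ↦ ProjUP.toGlobal ((U i).ι ≫ q)
  have hunit : ∀ i, IsUnit (σ i (v i i)) := fun i ↦ by rw [hvii, map_one]; exact isUnit_one
  let g : ∀ i, (U i).toScheme ⟶ Proj P𝒜 := fun i ↦
    ProjCoord.pt (ρ i) (fun k ↦ σ i (v i ⟨k⟩)) i.down (hunit i)
  let 𝒰 : X.OpenCover := X.openCoverOfIsOpenCover U
    (TopologicalSpace.IsOpenCover.mk (top_le_iff.mp hcov))
  let r : X ⟶ Proj P𝒜 := Scheme.Cover.glueMorphisms 𝒰 g fun i j ↦ by
    change pullback.fst (U i).ι (U j).ι ≫ g i = pullback.snd (U i).ι (U j).ι ≫ g j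
    have hcond := pullback.condition (f := (U i).ι) (g := (U j).ι)
    let w := pullback.fst (U i).ι (U j).ι ≫ (U i).ι
    have hw : ⊤ ≤ w ⁻¹ᵁ (U i ⊓ U j) := fun z _ ↦ by
      refine ⟨(pullback.fst (U i).ι (U j).ι z).2, ?_⟩
      have e : w z = (U j).ι (pullback.snd (U i).ι (U j).ι z) := congrArg (fun f ↦ f z) hcond
      show w z ∈ U j
      rw [e]
      exact (pullback.snd (U i).ι (U j).ι z).2
    have hσi : ∀ a : Γ(X, U i), (pullback.fst (U i).ι (U j).ι).appTop (σ i a) =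
        (w.appLE (U i ⊓ U j) ⊤ hw).hom (ores inf_le_left a) := fun a ↦ by
      have h : (U i).ι.appLE (U i) ⊤ (by simp) ≫ (pullback.fst (U i).ι (U j).ι).app ⊤ =
          X.presheaf.map (homOfLE (inf_le_left : U i ⊓ U j ≤ U i)).op ≫ w.appLE (U i ⊓ U j) ⊤ hw := by
        rw [Scheme.Hom.map_appLE, Scheme.Hom.app_eq_appLE]
        erw [Scheme.Hom.appLE_comp_appLE]
        rfl
      exact congr(($h).hom a)
    have hσj : ∀ a : Γ(X, U j), (pullback.snd (U i).ι (U j).ι).appTop (σ j a) =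
        (w.appLE (U i ⊓ U j) ⊤ hw).hom (ores inf_le_right a) := fun a ↦ by
      have h : (U j).ι.appLE (U j) ⊤ (by simp) ≫ (pullback.snd (U i).ι (U j).ι).app ⊤ =
          X.presheaf.map (homOfLE (inf_le_right : U i ⊓ U j ≤ U j)).op ≫ w.appLE (U i ⊓ U j) ⊤ hw := by
        rw [Scheme.Hom.map_appLE, Scheme.Hom.app_eq_appLE]
        erw [Scheme.Hom.appLE_comp_appLE]
        simp only [w, hcond]
        rfl
      exact congr(($h).hom a)
    simp only [g, pt_comp]
    have hρ : (pullback.snd (U i).ι (U j).ι).appTop.hom.comp (ρ j) =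
        (pullback.fst (U i).ι (U j).ι).appTop.hom.comp (ρ i) := by
      simp only [ρ, toGlobal_comp, ← Category.assoc, hcond]
    simp only [hρ]
    refine pt_eq _ _ _ _ _ _ _ fun k l ↦ ?_
    rw [hσi, hσi, hσj, hσj, ← map_mul, ← map_mul, hcoc i j ⟨k⟩ ⟨l⟩]
  have hgι : ∀ i, (U i).ι ≫ r = g i := fun i ↦ Scheme.Cover.ι_glueMorphisms 𝒰 _ _ i
  have hle : ∀ i, U i ≤ r ⁻¹ᵁ Proj.basicOpen P𝒜 (MvPolynomial.X i.down) := by
    intro i
    have h : (g i) ⁻¹ᵁ Proj.basicOpen P𝒜 (MvPolynomial.X i.down) = ⊤ := by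
      rw [pt_preimage, Scheme.basicOpen_of_isUnit _ (hunit i)]
    rw [← hgι, Scheme.Hom.comp_preimage] at h
    intro z hz
    show (U i).ι ⟨z, hz⟩ ∈ r ⁻¹ᵁ _
    exact h.ge (trivial : (⟨z, hz⟩ : (U i).toScheme) ∈ (⊤ : (U i).toScheme.Opens))
  refine ⟨U, hcov, v, hfr, hv, r, ?_, hle, fun i j ↦ ?_⟩
  · refine Scheme.Cover.hom_ext 𝒰 _ _ fun i ↦ ?_
    show (U i).ι ≫ r ≫ _ = (U i).ι ≫ q
    rw [← Category.assoc, hgι, pt_toSpec, toSpecΓ_SpecMap_toGlobal]
  · have hbij : Function.Injective (σ i) := by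
      have : IsIso ((U i).ι.appLE (U i) ⊤ (by simp)) := by
        rw [show (U i).ι.appLE (U i) ⊤ (by simp) = (U i).topIso.inv by simp [Scheme.Opens.topIso]; rfl]
        infer_instance
      exact ((ConcreteCategory.isIso_iff_bijective _).mp this).1
    refine hbij ?_
    have key : r.appLE (Proj.basicOpen P𝒜 (MvPolynomial.X i.down)) (U i) (hle i) ≫
        (U i).ι.appLE (U i) ⊤ (by simp) =
        (g i).appLE (Proj.basicOpen P𝒜 (MvPolynomial.X i.down)) ⊤
          (by rw [← hgι i, Scheme.Hom.comp_preimage]; exact fun z _ ↦ hle i z.2) := by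
      simp only [Scheme.Hom.appLE_comp_appLE, hgι]
    refine (congrArg (fun φ ↦ φ.hom ((Proj.awayToSection P𝒜 (MvPolynomial.X i.down)).hom
      (ratio i.down j.down))) key).trans ?_
    refine (pt_appLE _ _ _ (hunit i) _ _).trans ?_
    have := awayEval_ratio (R := R) (ρ i) (fun k ↦ σ i (v i ⟨k⟩)) i.down j.down (by rw [eval₂Hom_X']; exact hunit i)
    have h1 : σ i (v i ⟨i.down⟩) = 1 := (congrArg (σ i) (hvii i)).trans (map_one _)
    exact (mul_one _).symm.trans ((congrArg (_ * ·) h1.symm).trans this)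

end Main

end Groth.Agent.ProjUPLib
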