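import Groth.Agent.ProjUPLib.ToProj
import Groth.Agent.EGA2G.ProjSub
import Groth.Agent.EGA2G.Graded
import Groth.Agent.GenLocus.PullFrame

/-! Morphisms to `Proj` of an algebra generated in degree one. -/

set_option autoImplicit false
set_option backward.isDefEq.respectTransparency false
set_option backward.isDefEq.respectTransparency.types false
set_option linter.style.haveILetI false
set_option linter.unusedSectionVars false

noncomputable section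

universe u

open CategoryTheory Limits AlgebraicGeometry Opposite TopologicalSpace HomogeneousLocalization
open Groth.Agent.QCohBase Groth.Agent.GenLocus Groth.Agent.EGA2G

namespace Groth.Agent.ProjUPLib

variable {R A : Type u} [CommRing R] [CommRing A] [Algebra R A] (𝒜 : ℕ → Submodule R A) [GradedAlgebra 𝒜]

/-- The structure morphism of `Proj` over the ground ring. -/
abbrev baseA : Proj 𝒜 ⟶ Spec (CommRingCat.of R) :=
  Proj.toSpecZero 𝒜 ≫ Spec.map (CommRingCat.ofHom (algebraMap R (𝒜 0)))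

/-- The fraction `b / a` on `D₊(a)`. -/
def secRatio {a : A} (ha : a ∈ 𝒜 1) (b : A) : Γ(Proj 𝒜, Proj.basicOpen 𝒜 a) :=
  (Proj.awayToSection 𝒜 a).hom (dehom 𝒜 ha b)

lemma secRatio_smul_oneSec {a b : A} (ha : a ∈ 𝒜 1) (hb : b ∈ 𝒜 1) :
    secRatio 𝒜 ha b • QCohBase.mres _ (le_top : Proj.basicOpen 𝒜 a ≤ ⊤) (oneSec 𝒜 ha) =
      QCohBase.mres _ (le_top : Proj.basicOpen 𝒜 a ≤ ⊤) (oneSec 𝒜 hb) := by
  rw [secRatio, dehom_of_mem 𝒜 ha hb]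
  exact oneSec_rel 𝒜 ha hb _

lemma secRatio_mul {a b : A} (ha : a ∈ 𝒜 1) (hb : b ∈ 𝒜 1) {c : A} (hc : c ∈ 𝒜 1) :
    ores (inf_le_right : Proj.basicOpen 𝒜 a ⊓ Proj.basicOpen 𝒜 b ≤ _) (secRatio 𝒜 hb c) *
        ores (inf_le_left : Proj.basicOpen 𝒜 a ⊓ Proj.basicOpen 𝒜 b ≤ _) (secRatio 𝒜 ha b) =
      ores inf_le_left (secRatio 𝒜 ha c) := by
  refine ((isFrame_oneSec 𝒜 ha).res (inf_le_left : Proj.basicOpen 𝒜 a ⊓ Proj.basicOpen 𝒜 b ≤ _)).bijective.1 ?_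
  have e1 := congrArg (QCohBase.mres _ (inf_le_left : Proj.basicOpen 𝒜 a ⊓ Proj.basicOpen 𝒜 b ≤ _))
    (secRatio_smul_oneSec 𝒜 ha hb)
  have e2 := congrArg (QCohBase.mres _ (inf_le_left : Proj.basicOpen 𝒜 a ⊓ Proj.basicOpen 𝒜 b ≤ _))
    (secRatio_smul_oneSec 𝒜 ha hc)
  have e3 := congrArg (QCohBase.mres _ (inf_le_right : Proj.basicOpen 𝒜 a ⊓ Proj.basicOpen 𝒜 b ≤ _))
    (secRatio_smul_oneSec 𝒜 hb hc)
  simp only [mres_smul, mres_mres] at e1 e2 e3 ⊢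
  rw [mul_smul, e1, e2]
  exact e3

lemma basicOpen_secRatio {a b : A} (ha : a ∈ 𝒜 1) (hb : b ∈ 𝒜 1) :
    (Proj 𝒜).basicOpen (secRatio 𝒜 ha b) = Proj.basicOpen 𝒜 a ⊓ Proj.basicOpen 𝒜 b := by
  have hR : (⊤ : (Spec (CommRingCat.of (Away 𝒜 a))).Opens) ≤
      Proj.awayι 𝒜 a ha one_pos ⁻¹ᵁ Proj.basicOpen 𝒜 a := fun z _ ↦
    (Proj.opensRange_awayι 𝒜 a ha one_pos).le ⟨z, rfl⟩
  have hap : ((Proj.awayι 𝒜 a ha one_pos).appLE _ ⊤ hR).hom (secRatio 𝒜 ha b) =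
      (Scheme.ΓSpecIso _).inv.hom (dehom 𝒜 ha b) :=
    congr(($(awayToSection_awayι_appLE 𝒜 ha one_pos hR)).hom (dehom 𝒜 ha b))
  have helem : Away.isLocalizationElem ha hb = dehom 𝒜 ha b := by
    apply HomogeneousLocalization.val_injective
    simp [Away.isLocalizationElem, dehom_val 𝒜 ha hb]
  have hpre : Proj.awayι 𝒜 a ha one_pos ⁻¹ᵁ (Proj 𝒜).basicOpen (secRatio 𝒜 ha b) =
      Proj.awayι 𝒜 a ha one_pos ⁻¹ᵁ Proj.basicOpen 𝒜 b := by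
    rw [Proj.awayι_preimage_basicOpen 𝒜 ha one_pos hb one_pos, helem]
    refine Eq.trans ?_ (basicOpen_eq_of_affine _)
    refine Eq.trans ?_ (congrArg _ hap)
    rw [Scheme.basicOpen_appLE, top_inf_eq]
  have h := congrArg (fun W ↦ Proj.awayι 𝒜 a ha one_pos ''ᵁ W) hpre
  simp only [Scheme.Hom.image_preimage_eq_opensRange_inf, Proj.opensRange_awayι] at h
  rwa [inf_eq_right.mpr ((Proj 𝒜).basicOpen_le _)] at h

section Chart

variable {T : Scheme.{u}}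

/-- A morphism into `D₊(a)` is given by its ring map. -/
lemma eq_of_preimage_eq_top {a : A} (ha : a ∈ 𝒜 1) (g : T ⟶ Proj 𝒜)
    (hg : ⊤ ≤ g ⁻¹ᵁ Proj.basicOpen 𝒜 a) :
    g = T.toSpecΓ ≫ Spec.map (Proj.awayToSection 𝒜 a ≫ g.appLE _ ⊤ hg) ≫ Proj.awayι 𝒜 a ha one_pos := by
  have hR : Set.range g ⊆ Set.range (Proj.awayι 𝒜 a ha one_pos) := by
    rintro _ ⟨z, rfl⟩
    exact (Proj.opensRange_awayι 𝒜 a ha one_pos).ge (hg (trivial : z ∈ (⊤ : T.Opens)))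
  obtain ⟨g', rfl⟩ : ∃ g', g' ≫ Proj.awayι 𝒜 a ha one_pos = g :=
    ⟨_, IsOpenImmersion.lift_fac _ g hR⟩
  have hR' : (⊤ : (Spec (CommRingCat.of (Away 𝒜 a))).Opens) ≤
      Proj.awayι 𝒜 a ha one_pos ⁻¹ᵁ Proj.basicOpen 𝒜 a := fun z _ ↦
    (Proj.opensRange_awayι 𝒜 a ha one_pos).le ⟨z, rfl⟩
  rw [← Scheme.Hom.appLE_comp_appLE g' (Proj.awayι 𝒜 a ha one_pos) _ ⊤ ⊤ hR' (by simp),
    ← Category.assoc (Proj.awayToSection 𝒜 a), awayToSection_awayι_appLE 𝒜 ha one_pos hR',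
    ← Category.assoc T.toSpecΓ]
  congr 1
  erw [Scheme.Hom.appLE_eq_app]
  rw [Spec.map_comp, ← Category.assoc, ← Scheme.toSpecΓ_naturality, Category.assoc,
    toSpecΓ_SpecMap_ΓSpecIso_inv, Category.comp_id]

/-- The constants. -/
def constA (a : A) : R →+* Away 𝒜 a := (fromZeroRingHom 𝒜 _).comp (algebraMap R (𝒜 0))

lemma dehom_algebraMap {a : A} (ha : a ∈ 𝒜 1) (c : R) : dehom 𝒜 ha (algebraMap R A c) = constA 𝒜 a c := by
  apply HomogeneousLocalization.val_injective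
  rw [dehom_val 𝒜 ha (SetLike.algebraMap_mem_graded 𝒜 c)]
  simp [constA, fromZeroRingHom, HomogeneousLocalization.val_mk]

lemma dehom_surjective {a : A} (ha : a ∈ 𝒜 1) : Function.Surjective (dehom 𝒜 ha) := by
  intro z
  obtain ⟨n, b, hb, rfl⟩ := Away.mk_surjective 𝒜 ha z
  exact ⟨b, dehom_of_mem 𝒜 ha (n := n) (by simpa using hb)⟩

variable {κ : Type u} (e : κ → A) (he : ∀ k, e k ∈ 𝒜 1)

lemma ringHom_ext_adjoin {W : Type*} [CommRing W] (hgen : Algebra.adjoin R (Set.range e) = ⊤)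
    (φ ψ : A →+* W) (hc : ∀ c, φ (algebraMap R A c) = ψ (algebraMap R A c))
    (hk : ∀ k, φ (e k) = ψ (e k)) : φ = ψ := by
  refine RingHom.ext fun x ↦ ?_
  have hx : x ∈ Algebra.adjoin R (Set.range e) := hgen ▸ trivial
  induction hx using Algebra.adjoin_induction with
  | mem z hz => obtain ⟨k, rfl⟩ := hz; exact hk k
  | algebraMap c => exact hc c
  | add x y _ _ h h' => rw [map_add, map_add, h, h']
  | mul x y _ _ h h' => rw [map_mul, map_mul, h, h']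

/-- The value of a fraction under a morphism into `D₊(a)`. -/
def valueAt (g : T ⟶ Proj 𝒜) {a : A} (ha : a ∈ 𝒜 1) (hg : ⊤ ≤ g ⁻¹ᵁ Proj.basicOpen 𝒜 a) : A →+* Γ(T, ⊤) :=
  ((Proj.awayToSection 𝒜 a ≫ g.appLE _ ⊤ hg).hom).comp (dehom 𝒜 ha)

lemma valueAt_apply (g : T ⟶ Proj 𝒜) {a : A} (ha : a ∈ 𝒜 1) (hg : ⊤ ≤ g ⁻¹ᵁ Proj.basicOpen 𝒜 a) (b : A) :
    valueAt 𝒜 g ha hg b = (g.appLE _ ⊤ hg).hom (secRatio 𝒜 ha b) := rfl

lemma valueAt_algebraMap (g : T ⟶ Proj 𝒜) {a : A} (ha : a ∈ 𝒜 1) (hg : ⊤ ≤ g ⁻¹ᵁ Proj.basicOpen 𝒜 a)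
    (c : R) : valueAt 𝒜 g ha hg (algebraMap R A c) = ProjUP.toGlobal (g ≫ baseA 𝒜) c := by
  refine RingHom.congr_fun (f := ((valueAt 𝒜 g ha hg).comp (algebraMap R A)))
    (g := ProjUP.toGlobal (g ≫ baseA 𝒜)) (ProjCoord.ρ_eq _ _ ?_) c
  rw [toSpecΓ_SpecMap_toGlobal]
  conv_rhs => rw [eq_of_preimage_eq_top 𝒜 ha g hg]
  simp only [baseA, Category.assoc]
  rw [Proj.awayι_toSpecZero_assoc, ← Spec.map_comp, ← Spec.map_comp]
  congr 2
  ext c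
  exact congrArg ((Proj.awayToSection 𝒜 a ≫ g.appLE _ ⊤ hg).hom) (dehom_algebraMap 𝒜 ha c)

include he in
/-- Two morphisms into the same chart agree when they agree on the ratios. -/
lemma ext_chart (hgen : Algebra.adjoin R (Set.range e) = ⊤) (g g' : T ⟶ Proj 𝒜) {a : A} (ha : a ∈ 𝒜 1)
    (hg : ⊤ ≤ g ⁻¹ᵁ Proj.basicOpen 𝒜 a) (hg' : ⊤ ≤ g' ⁻¹ᵁ Proj.basicOpen 𝒜 a)
    (hb : g ≫ baseA 𝒜 = g' ≫ baseA 𝒜)
    (h : ∀ j, valueAt 𝒜 g ha hg (e j) = valueAt 𝒜 g' ha hg' (e j)) : g = g' := by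
  have h1 : valueAt 𝒜 g ha hg = valueAt 𝒜 g' ha hg' := ringHom_ext_adjoin e hgen _ _
    (fun c ↦ by rw [valueAt_algebraMap, valueAt_algebraMap, hb]) h
  have h2 : Proj.awayToSection 𝒜 a ≫ g.appLE _ ⊤ hg = Proj.awayToSection 𝒜 a ≫ g'.appLE _ ⊤ hg' := by
    refine CommRingCat.hom_ext (RingHom.ext fun z ↦ ?_)
    obtain ⟨b, rfl⟩ := dehom_surjective 𝒜 ha z
    exact RingHom.congr_fun h1 b
  rw [eq_of_preimage_eq_top 𝒜 ha g hg, eq_of_preimage_eq_top 𝒜 ha g' hg', h2]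

lemma valueAt_comp {T' : Scheme.{u}} (p : T' ⟶ T) (g : T ⟶ Proj 𝒜) {a : A} (ha : a ∈ 𝒜 1)
    (hg : ⊤ ≤ g ⁻¹ᵁ Proj.basicOpen 𝒜 a) (hpg : ⊤ ≤ (p ≫ g) ⁻¹ᵁ Proj.basicOpen 𝒜 a) :
    valueAt 𝒜 (p ≫ g) ha hpg = p.appTop.hom.comp (valueAt 𝒜 g ha hg) := by
  refine RingHom.ext fun b ↦ ?_
  rw [valueAt_apply, RingHom.comp_apply, valueAt_apply,
    ← Scheme.Hom.appLE_comp_appLE p g _ ⊤ ⊤ hg (by simp)]
  erw [Scheme.Hom.appLE_eq_app]
  rfl

/-- A unit ratio puts the morphism in the other chart. -/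
lemma le_preimage_of_isUnit (g : T ⟶ Proj 𝒜) {a b : A} (ha : a ∈ 𝒜 1) (hb : b ∈ 𝒜 1)
    (hg : ⊤ ≤ g ⁻¹ᵁ Proj.basicOpen 𝒜 a) (hu : IsUnit (valueAt 𝒜 g ha hg b)) :
    ⊤ ≤ g ⁻¹ᵁ Proj.basicOpen 𝒜 b := by
  rw [valueAt_apply] at hu
  have h := T.basicOpen_of_isUnit hu
  rw [Scheme.basicOpen_appLE, basicOpen_secRatio 𝒜 ha hb] at h
  exact fun z hz ↦ ((h.ge hz).2).2

lemma valueAt_mul (g : T ⟶ Proj 𝒜) {a b c : A} (ha : a ∈ 𝒜 1) (hb : b ∈ 𝒜 1) (hc : c ∈ 𝒜 1)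
    (hga : ⊤ ≤ g ⁻¹ᵁ Proj.basicOpen 𝒜 a) (hgb : ⊤ ≤ g ⁻¹ᵁ Proj.basicOpen 𝒜 b) :
    valueAt 𝒜 g hb hgb c * valueAt 𝒜 g ha hga b = valueAt 𝒜 g ha hga c := by
  have hab : ⊤ ≤ g ⁻¹ᵁ (Proj.basicOpen 𝒜 a ⊓ Proj.basicOpen 𝒜 b) := fun z hz ↦ ⟨hga hz, hgb hz⟩
  have h := congrArg (g.appLE _ ⊤ hab).hom (secRatio_mul 𝒜 ha hb hc)
  rw [map_mul] at h
  simp only [valueAt_apply]
  have hl : ∀ x, (g.appLE _ ⊤ hab).hom (ores inf_le_left x) = (g.appLE _ ⊤ hga).hom x := fun x ↦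
    congr(($(Scheme.Hom.map_appLE g hab (homOfLE inf_le_left).op)).hom x)
  have hr : ∀ x, (g.appLE _ ⊤ hab).hom (ores inf_le_right x) = (g.appLE _ ⊤ hgb).hom x := fun x ↦
    congr(($(Scheme.Hom.map_appLE g hab (homOfLE inf_le_right).op)).hom x)
  rwa [hl, hl, hr] at h

end Chart

section Secs

variable {X : Scheme.{u}} (r : X ⟶ Proj 𝒜)

/-- The pulled back sections. -/
def secPull {b : A} (hb : b ∈ 𝒜 1) : Γ((Scheme.Modules.pullback r).obj (Twist.twist 𝒜 1), ⊤) :=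
  GenLocus.pullSec r (Twist.twist 𝒜 1) ⊤ (oneSec 𝒜 hb)

lemma isFrame_secPull {a : A} (ha : a ∈ 𝒜 1) {V : X.Opens} (hV : V ≤ r ⁻¹ᵁ Proj.basicOpen 𝒜 a) :
    IsFrame ((Scheme.Modules.pullback r).obj (Twist.twist 𝒜 1))
      (QCohBase.mres _ (le_top : V ≤ ⊤) (secPull 𝒜 r ha)) := by
  have h := (IsFrame.pullSec r (isFrame_oneSec 𝒜 ha)).res hV
  rw [← pullSec_mres r _ (le_top : Proj.basicOpen 𝒜 a ≤ ⊤), mres_mres] at h
  exact h

lemma secPull_rel {a b : A} (ha : a ∈ 𝒜 1) (hb : b ∈ 𝒜 1) {V : X.Opens}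
    (hV : V ≤ r ⁻¹ᵁ Proj.basicOpen 𝒜 a) :
    (r.appLE _ V hV).hom (secRatio 𝒜 ha b) • QCohBase.mres _ (le_top : V ≤ ⊤) (secPull 𝒜 r ha) =
      QCohBase.mres _ (le_top : V ≤ ⊤) (secPull 𝒜 r hb) := by
  have e := congrArg (fun m ↦ QCohBase.mres _ hV (GenLocus.pullSec r (Twist.twist 𝒜 1) _ m))
    (secRatio_smul_oneSec 𝒜 ha hb)
  simp only [pullSec_smul, mres_smul] at e
  simp only [← pullSec_mres r (Twist.twist 𝒜 1) (le_top : Proj.basicOpen 𝒜 a ≤ ⊤), mres_mres] at e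
  exact e

lemma valueAt_ι {a : A} (ha : a ∈ 𝒜 1) {V : X.Opens} (hV : V ≤ r ⁻¹ᵁ Proj.basicOpen 𝒜 a)
    (hg : ⊤ ≤ (V.ι ≫ r) ⁻¹ᵁ Proj.basicOpen 𝒜 a) (b : A) :
    valueAt 𝒜 (V.ι ≫ r) ha hg b =
      (V.ι.appLE V ⊤ (by simp)).hom ((r.appLE _ V hV).hom (secRatio 𝒜 ha b)) := by
  rw [valueAt_apply, ← Scheme.Hom.appLE_comp_appLE V.ι r _ V ⊤ hV (by simp)]
  rfl

end Secs

variable {κ : Type u} (e : κ → A) (he : ∀ k, e k ∈ 𝒜 1)

include he in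
lemma le_iSup_basicOpen (hgen : Algebra.adjoin R (Set.range e) = ⊤) :
    (⊤ : (Proj 𝒜).Opens) ≤ ⨆ k, Proj.basicOpen 𝒜 (e k) := by
  refine (Proj.iSup_basicOpen_eq_top 𝒜 e ?_).ge
  refine irrelevant_le_span_of_adjoin_eq_top 𝒜 _ (by rintro _ ⟨k, rfl⟩; exact ⟨1, one_pos, he k⟩) ?_
  refine eq_top_iff.mpr fun x _ ↦ ?_
  have hx : x ∈ Algebra.adjoin R (Set.range e) := hgen ▸ trivial
  induction hx using Algebra.adjoin_induction with
  | mem z hz => exact Algebra.subset_adjoin hz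
  | algebraMap c => exact Subalgebra.algebraMap_mem _ (algebraMap R (𝒜 0) c)
  | add x y _ _ h h' => exact add_mem (h trivial) (h' trivial)
  | mul x y _ _ h h' => exact mul_mem (h trivial) (h' trivial)

/-- A morphism to `Proj` over the base is determined by the relations among the pulled back generators. -/
theorem ext_of_coeff (hgen : Algebra.adjoin R (Set.range e) = ⊤) {X : Scheme.{u}} (r r' : X ⟶ Proj 𝒜)
    (hb : r ≫ baseA 𝒜 = r' ≫ baseA 𝒜)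
    (H : ∀ x : X, ∃ V : X.Opens, x ∈ V ∧ ∃ k, V ≤ r ⁻¹ᵁ Proj.basicOpen 𝒜 (e k) ∧ ∀ j, ∃ v : Γ(X, V),
      v • QCohBase.mres _ (le_top : V ≤ ⊤) (secPull 𝒜 r (he k)) =
          QCohBase.mres _ le_top (secPull 𝒜 r (he j)) ∧
        v • QCohBase.mres _ (le_top : V ≤ ⊤) (secPull 𝒜 r' (he k)) =
          QCohBase.mres _ le_top (secPull 𝒜 r' (he j))) : r = r' := by
  refine Scheme.hom_ext_of_forall r r' fun x ↦ ?_
  obtain ⟨V, hxV, k, hV, hv⟩ := H x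
  have hV' : V ≤ r' ⁻¹ᵁ Proj.basicOpen 𝒜 (e k) := by
    intro y hy
    obtain ⟨l, hl⟩ := Opens.mem_iSup.mp (le_iSup_basicOpen 𝒜 e he hgen (trivial : r' y ∈ (⊤ : (Proj 𝒜).Opens)))
    let W := V ⊓ r' ⁻¹ᵁ Proj.basicOpen 𝒜 (e l)
    have hWl : W ≤ r' ⁻¹ᵁ Proj.basicOpen 𝒜 (e l) := inf_le_right
    obtain ⟨v, -, hvl⟩ := hv l
    have e1 := secPull_rel 𝒜 r' (he l) (he k) hWl
    have e2 := congrArg (QCohBase.mres _ (inf_le_left : W ≤ V)) hvl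
    simp only [mres_smul, mres_mres] at e2
    have hu : IsUnit ((r'.appLE _ W hWl).hom (secRatio 𝒜 (he l) (e k))) := by
      refine IsUnit.of_mul_eq_one_right (ores (inf_le_left : W ≤ V) v)
        ((isFrame_secPull 𝒜 r' (he l) hWl).bijective.1 ?_)
      simp only [mul_smul, one_smul]
      rw [e1, e2]
    have h := X.basicOpen_of_isUnit hu
    rw [Scheme.basicOpen_appLE, basicOpen_secRatio 𝒜 (he l) (he k)] at h
    exact ((h.ge (⟨hy, hl⟩ : y ∈ W)).2).2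
  refine ⟨V, hxV, ?_⟩
  refine ext_chart 𝒜 e he hgen _ _ (he k) (fun z _ ↦ hV z.2) (fun z _ ↦ hV' z.2)
    (by rw [Category.assoc, Category.assoc, hb]) fun j ↦ ?_
  obtain ⟨v, hv1, hv2⟩ := hv j
  rw [valueAt_ι 𝒜 r (he k) hV, valueAt_ι 𝒜 r' (he k) hV',
    ← (isFrame_secPull 𝒜 r (he k) hV).bijective.1 (hv1.trans (secPull_rel 𝒜 r (he k) (he j) hV).symm),
    ← (isFrame_secPull 𝒜 r' (he k) hV').bijective.1 (hv2.trans (secPull_rel 𝒜 r' (he k) (he j) hV').symm)]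

/-- A morphism to `Proj` over the base is determined by `O(1)` and the generating sections. -/
theorem ext_of_iso (hgen : Algebra.adjoin R (Set.range e) = ⊤) {X : Scheme.{u}} (r r' : X ⟶ Proj 𝒜)
    (hb : r ≫ baseA 𝒜 = r' ≫ baseA 𝒜)
    (τ : (Scheme.Modules.pullback r).obj (Twist.twist 𝒜 1) ≅ (Scheme.Modules.pullback r').obj (Twist.twist 𝒜 1))
    (hτ : ∀ j, τ.hom.app ⊤ (secPull 𝒜 r (he j)) = secPull 𝒜 r' (he j)) : r = r' := by
  refine ext_of_coeff 𝒜 e he hgen r r' hb fun x ↦ ?_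
  obtain ⟨k, hk⟩ := Opens.mem_iSup.mp (le_iSup_basicOpen 𝒜 e he hgen (trivial : r x ∈ (⊤ : (Proj 𝒜).Opens)))
  refine ⟨_, hk, k, le_rfl, fun j ↦ ⟨_, secPull_rel 𝒜 r (he k) (he j) le_rfl, ?_⟩⟩
  rw [← hτ k, ← hτ j, app_mres, app_mres, ← Scheme.Modules.Hom.app_smul,
    secPull_rel 𝒜 r (he k) (he j) le_rfl]

/-- Gluing a morphism to `Proj` from local dehomogenised evaluations. -/
theorem exists_toProjGen (hgen : Algebra.adjoin R (Set.range e) = ⊤) {X : Scheme.{u}}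
    (q : X ⟶ Spec (CommRingCat.of R)) (U : κ → X.Opens) (hcov : (⊤ : X.Opens) ≤ iSup U)
    (θ : ∀ k, A →+* Γ(X, U k))
    (hθ : ∀ k c, θ k (algebraMap R A c) = ores (le_top : U k ≤ ⊤) (ProjUP.toGlobal q c))
    (hone : ∀ k, θ k (e k) = 1)
    (hcoc : ∀ k l j, ores (inf_le_left : U k ⊓ U l ≤ U k) (θ k (e j)) * ores inf_le_right (θ l (e k)) =
      ores inf_le_right (θ l (e j))) :
    ∃ (r : X ⟶ Proj 𝒜) (_ : r ≫ baseA 𝒜 = q) (h : ∀ k, U k ≤ r ⁻¹ᵁ Proj.basicOpen 𝒜 (e k)),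
      ∀ k j, (r.appLE _ (U k) (h k)).hom (secRatio 𝒜 (he k) (e j)) = θ k (e j) := by
  let σ : ∀ k, Γ(X, U k) →+* Γ((U k).toScheme, ⊤) := fun k ↦ ((U k).ι.appLE (U k) ⊤ (by simp)).hom
  have hu : ∀ k, IsUnit (((σ k).comp (θ k)) (e k)) := fun k ↦ by
    rw [RingHom.comp_apply, hone, map_one]; exact isUnit_one
  let g : ∀ k, (U k).toScheme ⟶ Proj 𝒜 := fun k ↦ (U k).toScheme.toSpecΓ ≫
    Spec.map (CommRingCat.ofHom (ProjCoord.awayEval (𝒜 := 𝒜) ((σ k).comp (θ k)) (hu k))) ≫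
      Proj.awayι 𝒜 (e k) (he k) one_pos
  have hgk : ∀ k, ⊤ ≤ g k ⁻¹ᵁ Proj.basicOpen 𝒜 (e k) := fun k z _ ↦
    (Proj.opensRange_awayι 𝒜 (e k) (he k) one_pos).le ⟨_, rfl⟩
  have hgval : ∀ k, valueAt 𝒜 (g k) (he k) (hgk k) = (σ k).comp (θ k) := by
    intro k
    have hR : (⊤ : (Spec (CommRingCat.of (Away 𝒜 (e k)))).Opens) ≤
        Proj.awayι 𝒜 (e k) (he k) one_pos ⁻¹ᵁ Proj.basicOpen 𝒜 (e k) := fun z _ ↦
      (Proj.opensRange_awayι 𝒜 (e k) (he k) one_pos).le ⟨z, rfl⟩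
    have key : Proj.awayToSection 𝒜 (e k) ≫ (g k).appLE _ ⊤ (hgk k) =
        CommRingCat.ofHom (ProjCoord.awayEval (𝒜 := 𝒜) ((σ k).comp (θ k)) (hu k)) := by
      simp only [g, ← Category.assoc]
      rw [← Scheme.Hom.appLE_comp_appLE _ _ _ ⊤ ⊤ hR (by simp), ← Category.assoc,
        awayToSection_awayι_appLE _ _ _ hR]
      erw [Scheme.Hom.appLE_eq_app]
      simp
    have h1 : ∀ {n : ℕ} {b : A}, b ∈ 𝒜 n →
        valueAt 𝒜 (g k) (he k) (hgk k) b = (σ k) (θ k b) := by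
      intro n b hb
      have h := ProjCoord.awayEval_mk (𝒜 := 𝒜) ((σ k).comp (θ k)) (hu k) (he k) n b
        (by rw [smul_eq_mul, mul_one]; exact hb)
      rw [RingHom.comp_apply, RingHom.comp_apply, hone, map_one, one_pow, mul_one,
        ← dehom_of_mem 𝒜 (he k) hb] at h
      exact (congr(($key).hom (dehom 𝒜 (he k) b))).trans h
    exact ringHom_ext_adjoin e hgen _ _ (fun c ↦ h1 (SetLike.algebraMap_mem_graded 𝒜 c)) fun j ↦ h1 (he j)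
  have hgbase : ∀ k, g k ≫ baseA 𝒜 = (U k).ι ≫ q := by
    intro k
    rw [← toSpecΓ_SpecMap_toGlobal (g k ≫ baseA 𝒜), ← toSpecΓ_SpecMap_toGlobal ((U k).ι ≫ q)]
    congr 3
    refine RingHom.ext fun c ↦ ?_
    rw [← valueAt_algebraMap 𝒜 (g k) (he k) (hgk k), hgval, RingHom.comp_apply, hθ,
      ← toGlobal_comp, RingHom.comp_apply]
    have h : X.presheaf.map (homOfLE (le_top : U k ≤ ⊤)).op ≫ (U k).ι.appLE (U k) ⊤ (by simp) =
        (U k).ι.appTop := by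
      rw [Scheme.Hom.map_appLE]
      simp [Scheme.Hom.appLE]
      exact Category.comp_id _
    exact congr(($h).hom (ProjUP.toGlobal q c))
  let 𝒰 : X.OpenCover := X.openCoverOfIsOpenCover U
    (TopologicalSpace.IsOpenCover.mk (top_le_iff.mp hcov))
  let r : X ⟶ Proj 𝒜 := Scheme.Cover.glueMorphisms 𝒰 g fun i j ↦ by
    change pullback.fst (U i).ι (U j).ι ≫ g i = pullback.snd (U i).ι (U j).ι ≫ g j
    have hcond := pullback.condition (f := (U i).ι) (g := (U j).ι)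
    let w := pullback.fst (U i).ι (U j).ι ≫ (U i).ι
    have hw : ⊤ ≤ w ⁻¹ᵁ (U i ⊓ U j) := fun z _ ↦ by
      refine ⟨(pullback.fst (U i).ι (U j).ι z).2, ?_⟩
      have e : w z = (U j).ι (pullback.snd (U i).ι (U j).ι z) := congrArg (fun f ↦ f z) hcond
      show w z ∈ U j
      rw [e]
      exact (pullback.snd (U i).ι (U j).ι z).2
    have hσi : ∀ a : Γ(X, U i), (pullback.fst (U i).ι (U j).ι).appTop (σ i a) =
        (w.appLE (U i ⊓ U j) ⊤ hw).hom (ores inf_le_left a) := fun a ↦ by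
      have h : (U i).ι.appLE (U i) ⊤ (by simp) ≫ (pullback.fst (U i).ι (U j).ι).app ⊤ =
          X.presheaf.map (homOfLE (inf_le_left : U i ⊓ U j ≤ U i)).op ≫ w.appLE (U i ⊓ U j) ⊤ hw := by
        rw [Scheme.Hom.map_appLE, Scheme.Hom.app_eq_appLE]
        erw [Scheme.Hom.appLE_comp_appLE]
        rfl
      exact congr(($h).hom a)
    have hσj : ∀ a : Γ(X, U j), (pullback.snd (U i).ι (U j).ι).appTop (σ j a) =
        (w.appLE (U i ⊓ U j) ⊤ hw).hom (ores inf_le_right a) := fun a ↦ by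
      have h : (U j).ι.appLE (U j) ⊤ (by simp) ≫ (pullback.snd (U i).ι (U j).ι).app ⊤ =
          X.presheaf.map (homOfLE (inf_le_right : U i ⊓ U j ≤ U j)).op ≫ w.appLE (U i ⊓ U j) ⊤ hw := by
        rw [Scheme.Hom.map_appLE, Scheme.Hom.app_eq_appLE]
        erw [Scheme.Hom.appLE_comp_appLE]
        simp only [w, hcond]
        rfl
      exact congr(($h).hom a)
    have hvi : ∀ h b, valueAt 𝒜 (pullback.fst (U i).ι (U j).ι ≫ g i) (he i) h b =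
        (w.appLE (U i ⊓ U j) ⊤ hw).hom (ores inf_le_left (θ i b)) := fun h b ↦ by
      rw [valueAt_comp 𝒜 _ _ (he i) (hgk i) h, RingHom.comp_apply, hgval]
      exact hσi _
    have hvj : ∀ h b, valueAt 𝒜 (pullback.snd (U i).ι (U j).ι ≫ g j) (he j) h b =
        (w.appLE (U i ⊓ U j) ⊤ hw).hom (ores inf_le_right (θ j b)) := fun h b ↦ by
      rw [valueAt_comp 𝒜 _ _ (he j) (hgk j) h, RingHom.comp_apply, hgval]
      exact hσj _
    have hf : ⊤ ≤ (pullback.fst (U i).ι (U j).ι ≫ g i) ⁻¹ᵁ Proj.basicOpen 𝒜 (e i) := fun z hz ↦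
      hgk i (trivial : pullback.fst (U i).ι (U j).ι z ∈ (⊤ : (U i).toScheme.Opens))
    have hs : ⊤ ≤ (pullback.snd (U i).ι (U j).ι ≫ g j) ⁻¹ᵁ Proj.basicOpen 𝒜 (e j) := fun z hz ↦
      hgk j (trivial : pullback.snd (U i).ι (U j).ι z ∈ (⊤ : (U j).toScheme.Opens))
    have hunit : IsUnit (valueAt 𝒜 (pullback.snd (U i).ι (U j).ι ≫ g j) (he j) hs (e i)) := by
      refine IsUnit.of_mul_eq_one_right ((w.appLE (U i ⊓ U j) ⊤ hw).hom (ores inf_le_left (θ i (e j)))) ?_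
      rw [hvj, ← map_mul, hcoc i j j, hone, map_one, map_one]
    have hsi := le_preimage_of_isUnit 𝒜 _ (he j) (he i) hs hunit
    refine ext_chart 𝒜 e he hgen _ _ (he i) hf hsi ?_ fun k ↦ ?_
    · exact (Category.assoc _ _ _).trans ((congrArg (pullback.fst _ _ ≫ ·) (hgbase i)).trans
        ((reassoc_of% hcond) q |>.trans ((congrArg (pullback.snd _ _ ≫ ·) (hgbase j)).symm.trans
          (Category.assoc _ _ _).symm)))
    · refine hunit.mul_left_injective ?_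
      show _ * _ = _ * _
      rw [valueAt_mul 𝒜 _ (he j) (he i) (he k) hs hsi, hvi, hvj, ← map_mul, hcoc i j k, hvj]
  have hgι : ∀ i, (U i).ι ≫ r = g i := fun i ↦ Scheme.Cover.ι_glueMorphisms 𝒰 _ _ i
  have hle : ∀ i, U i ≤ r ⁻¹ᵁ Proj.basicOpen 𝒜 (e i) := by
    intro i z hz
    have h : g i ⟨z, hz⟩ ∈ Proj.basicOpen 𝒜 (e i) :=
      hgk i (x := (⟨z, hz⟩ : (U i).toScheme)) trivial
    rw [← hgι] at h
    exact h
  refine ⟨r, ?_, hle, fun i j ↦ ?_⟩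
  · refine Scheme.Cover.hom_ext 𝒰 _ _ fun i ↦ ?_
    show (U i).ι ≫ r ≫ _ = (U i).ι ≫ q
    rw [← Category.assoc, hgι, hgbase]
  · have hbij : Function.Injective (σ i) := by
      have : IsIso ((U i).ι.appLE (U i) ⊤ (by simp)) := by
        rw [show (U i).ι.appLE (U i) ⊤ (by simp) = (U i).topIso.inv by simp [Scheme.Opens.topIso]; rfl]
        infer_instance
      exact ((ConcreteCategory.isIso_iff_bijective _).mp this).1
    refine hbij ?_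
    rw [← RingHom.comp_apply (σ i) (θ i), ← hgval i]
    have h2 : ∀ (g' : (U i).toScheme ⟶ Proj 𝒜) (_ : (U i).ι ≫ r = g') (hg' : ⊤ ≤ g' ⁻¹ᵁ Proj.basicOpen 𝒜 (e i)),
        σ i ((r.appLE _ (U i) (hle i)).hom (secRatio 𝒜 (he i) (e j))) = valueAt 𝒜 g' (he i) hg' (e j) := by
      rintro _ rfl hg'
      exact (valueAt_ι 𝒜 r (he i) (hle i) hg' (e j)).symm
    exact h2 _ (hgι i) _

end Groth.Agent.ProjUPLib
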