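import Groth.Agent.ProjUPLib.TwistN
import Groth.Agent.ProjUPLib.General

/-! Restriction of frames, loci of degree one sections. -/

set_option autoImplicit false
set_option backward.isDefEq.respectTransparency false
set_option backward.isDefEq.respectTransparency.types false
set_option linter.style.haveILetI false
set_option linter.unusedSectionVars false

noncomputable section

universe u

open CategoryTheory Limits AlgebraicGeometry Opposite TopologicalSpace
open Groth.Agent.QCohBase Groth.Agent.GenLocus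

namespace Groth.Agent.ProjUPLib

/-- Frames restrict along open immersions. -/
theorem exists_isFrame_restrict {X Y : Scheme.{u}} (j : Y ⟶ X) [IsOpenImmersion j] {M : X.Modules}
    {V : X.Opens} {a : Γ(M, V)} (ha : IsFrame M a) :
    ∃ b : Γ(M.restrict j, j ⁻¹ᵁ V), IsFrame (M.restrict j) b := by
  have hle : j ''ᵁ (j ⁻¹ᵁ V) ≤ V := j.image_preimage_le V
  refine ⟨(M.restrictAppIso j (j ⁻¹ᵁ V)).inv (QCohBase.mres M hle a), fun W hW ↦ ?_⟩
  have hW' : j ''ᵁ W ≤ V := (j.image_mono hW).trans hle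
  have hb := (ConcreteCategory.isIso_iff_bijective (M.restrictAppIso j W).hom).mp inferInstance
  have key : (⇑(M.restrictAppIso j W).hom ∘ fun r : Γ(Y, W) ↦ r • QCohBase.mres (M.restrict j) hW
      ((M.restrictAppIso j (j ⁻¹ᵁ V)).inv (QCohBase.mres M hle a))) =
      (fun r ↦ r • QCohBase.mres M hW' a) ∘ ⇑(j.appIso W).inv := funext fun r ↦ by
    simp only [Function.comp_apply]
    rw [Scheme.Modules.smul_restrictAppIso_hom_apply]
    congr 1
    refine Eq.trans (b := QCohBase.mres M (j.image_mono hW) (QCohBase.mres M hle a)) rfl ?_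
    rw [mres_mres]
  rw [← Function.Bijective.of_comp_iff' hb, key]
  exact (ha _ hW').comp ((ConcreteCategory.isIso_iff_bijective (j.appIso W).inv).mp inferInstance)

theorem genLocus_comp_iso {X : Scheme.{u}} {L L' : X.Modules} (s : Coh.structureModule X ⟶ L) (e : L ≅ L') :
    CohB1.genLocus L' (s ≫ e.hom) = CohB1.genLocus L s := by
  simp only [CohB1.genLocus, Functor.map_comp, isIso_comp_right_iff]

variable {R A : Type u} [CommRing R] [CommRing A] [Algebra R A] (𝒜 : ℕ → Submodule R A) [GradedAlgebra 𝒜]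

/-- Nonvanishing loci of degree one elements. -/
theorem genLocus_oneSec (hcov : (⨆ f : 𝒜 1, Proj.basicOpen 𝒜 (f : A)) = ⊤) {f : A} (hf : f ∈ 𝒜 1) :
    CohB1.genLocus _ (homOfSection (Twist.twist 𝒜 1) (oneSec 𝒜 hf)) = Proj.basicOpen 𝒜 f := by
  refine le_antisymm (fun x hx ↦ ?_) (fun x hx ↦ (mem_genLocus_iff _).mpr
    ⟨_, hx, by rw [sect_homOfSection]; exact isFrame_oneSec 𝒜 hf⟩)
  obtain ⟨g, hg⟩ := Opens.mem_iSup.mp (hcov.ge (trivial : x ∈ (⊤ : (Proj 𝒜).Opens)))
  have h := genLocus_inf_eq_basicOpen (homOfSection (Twist.twist 𝒜 1) (oneSec 𝒜 hf))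
    (isFrame_oneSec 𝒜 g.2) (f := secRatio 𝒜 g.2 f)
    ((secRatio_smul_oneSec 𝒜 g.2 hf).trans (sect_homOfSection _ _ _).symm)
  rw [basicOpen_secRatio 𝒜 g.2 hf] at h
  exact (h.le ⟨hx, hg⟩).2

end Groth.Agent.ProjUPLib
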