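import Groth.Agent.ProjUPLib.Good

/-! High twists of an ample module are very ample. -/

set_option autoImplicit false
set_option backward.isDefEq.respectTransparency false
set_option backward.isDefEq.respectTransparency.types false
set_option linter.unusedSectionVars false

noncomputable section

universe u

open CategoryTheory Limits AlgebraicGeometry Opposite TopologicalSpace
open Groth.Agent.QCohBase Groth.Agent.GenLocus

namespace Groth.Agent.ProjUPLib

variable {X S : Scheme.{u}} {L L' : X.Modules}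

lemma loc_sect {P : X.Modules} (c : Coh.structureModule X ⟶ P) :
    loc P (sect c ⊤) = CohB1.genLocus P c := by
  refine Opens.ext (Set.ext fun x ↦ ?_)
  refine (mem_genLocus_iff _).trans (Iff.trans ?_ (mem_genLocus_iff _).symm)
  refine exists_congr fun U ↦ and_congr_right' ?_
  rw [sect_homOfSection, mres_sect]

/-- Finitely many affine loci of one power, covering, on which two modules are trivial. -/
theorem exists_affine_cover_of_ample (q : X ⟶ S) (hL : CohB1.IsAmple L) (hL' : PicF.IsInvertible L') :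
    ∃ (d : ℕ) (_ : 0 < d) (ι : Type u) (_ : Fintype ι) (c : ι → Γ(CohB1.tensorPow L d, ⊤)),
      (∀ k, IsAffineOpen (loc _ (c k))) ∧ (∀ x : X, ∃ k, x ∈ loc _ (c k)) ∧
      (∀ k, ∃ V : S.Opens, IsAffineOpen V ∧ loc _ (c k) ≤ q ⁻¹ᵁ V) ∧
      (∀ k, (∃ e : Γ(L, loc _ (c k)), IsFrame L e) ∧ ∃ e : Γ(L', loc _ (c k)), IsFrame L' e) := by
  classical
  choose V hV hqV using fun x : X ↦ (Opens.isBasis_iff_nbhd.1 S.isBasis_affineOpens) (show q x ∈ (⊤ : S.Opens) from trivial)
  choose U hU hxU hUV e he using fun x : X ↦ exists_isFrame hL.1 (W := q ⁻¹ᵁ V x) (x := x) (hqV x).1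
  choose U' hU' hxU' hle e' he' using fun x : X ↦ exists_isFrame hL' (hxU x)
  choose n s hxs hsle hs using fun x : X ↦ exists_affine_genLocus_le hL (hxU' x)
  haveI := hL.2.1
  obtain ⟨t, ht⟩ := CompactSpace.elim_nhds_subcover (fun x ↦ (CohB1.genLocus _ (s x) : Set X))
    (fun x ↦ (CohB1.genLocus _ (s x)).2.mem_nhds (hxs x))
  let d := ∏ x ∈ t, (n x + 1)
  have hd : 0 < d := Finset.prod_pos fun x _ ↦ Nat.succ_pos _
  choose c hc using fun k : t ↦ exists_same_genLocus hL.1 hd (Finset.dvd_prod_of_mem (fun x ↦ n x + 1) k.2) (s k.1)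
  have hloc : ∀ k : t, loc _ (sect (c k) ⊤) = CohB1.genLocus _ (s k.1) := fun k ↦ (loc_sect _).trans (hc k)
  refine ⟨d, hd, t, inferInstance, fun k ↦ sect (c k) ⊤, fun k ↦ ?_, fun x ↦ ?_, fun k ↦ ?_, fun k ↦ ?_⟩
  · rw [hloc k]; exact hs k.1
  · have : x ∈ ⋃ i ∈ t, (CohB1.genLocus _ (s i) : Set X) := by rw [ht]; trivial
    obtain ⟨i, hi, hxi⟩ := Set.mem_iUnion₂.mp this
    exact ⟨⟨i, hi⟩, (hloc ⟨i, hi⟩).ge hxi⟩
  · exact ⟨V k.1, hV k.1, ((hloc k).trans_le (hsle k.1)).trans ((hle k.1).trans (hUV k.1))⟩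
  · have h1 : loc _ (sect (c k) ⊤) ≤ U' k.1 := (hloc k).trans_le (hsle k.1)
    exact ⟨⟨_, (he k.1).res (h1.trans (hle k.1))⟩, _, (he' k.1).res h1⟩

/-- Regrouping. -/
def twistRegroupIso (L L' : X.Modules) (d N r : ℕ) :
    CohB1.tensorMod (CohB1.tensorMod (CohB1.tensorPow L r) L') (CohB1.tensorPow (CohB1.tensorPow L d) N) ≅
      CohB1.tensorMod (CohB1.tensorPow L (d * N + r)) L' :=
  TensorMod.tensorIso (Iso.refl _) (TensorMod.tensorPowMulIso L d N) ≪≫ TensorMod.commIso _ _ ≪≫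
    (TensorMod.assocIso _ _ _).symm ≪≫ TensorMod.tensorIso (TensorMod.tensorPowAddIso L (d * N) r).symm (Iso.refl _)

/-- For `L` ample and `L'` invertible, `L^n ⊗ L'` has good sections for large `n`. -/
theorem eventually_good (q : X ⟶ S) [LocallyOfFiniteType q]
    (hL : CohB1.IsAmple L) (hL' : PicF.IsInvertible L') :
    ∀ᶠ n in Filter.atTop, HasGoodSections q (CohB1.tensorMod (CohB1.tensorPow L n) L') := by
  haveI := hL.2.1
  haveI := isSeparated_of_isAmple hL
  obtain ⟨d, hd, ι, _, c, haff, hcov, hbase, htriv⟩ := exists_affine_cover_of_ample q hL hL'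
  have H : ∀ r : Fin d, ∀ᶠ N in Filter.atTop, HasGoodSections q
      (CohB1.tensorMod (CohB1.tensorMod (CohB1.tensorPow L r) L') (CohB1.tensorPow (CohB1.tensorPow L d) N)) := fun r ↦
    eventually_hasGoodSections q (TensorMod.isInvertible_tensorPow hL.1 d)
      (TensorMod.isInvertible_tensorMod (TensorMod.isInvertible_tensorPow hL.1 _) hL') c haff hcov hbase fun k ↦ by
        obtain ⟨⟨e, he⟩, e', he'⟩ := htriv k
        exact ⟨_, (he.framePow r).tmul he'⟩
  obtain ⟨N₀, hN₀⟩ := Filter.eventually_atTop.1 (Filter.eventually_all.2 H)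
  refine Filter.eventually_atTop.2 ⟨d * N₀, fun n hn ↦ ?_⟩
  have h1 : N₀ ≤ n / d := (Nat.le_div_iff_mul_le hd).2 (by rwa [mul_comm] at hn)
  have h2 : d * (n / d) + n % d = n := Nat.div_add_mod n d
  rw [← h2]
  exact (hN₀ _ h1 ⟨n % d, Nat.mod_lt n hd⟩).of_iso (twistRegroupIso L L' d (n / d) (n % d))

/-- For `L` ample and `L'` invertible, `L^n ⊗ L'` is very ample for large `n`. -/
theorem eventually_veryAmple (q : X ⟶ S) [LocallyOfFiniteType q]
    (hL : CohB1.IsAmple L) (hL' : PicF.IsInvertible L') :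
    ∀ᶠ n in Filter.atTop, RelAmple.IsRelVeryAmplePn q (CohB1.tensorMod (CohB1.tensorPow L n) L') :=
  (eventually_good q hL hL').mono fun _ h ↦ h.isRelVeryAmplePn

/-- For `L` ample, `L^n` is very ample for large `n`. -/
theorem eventually_veryAmple_pow (q : X ⟶ S) [LocallyOfFiniteType q] (hL : CohB1.IsAmple L) :
    ∀ᶠ n in Filter.atTop, RelAmple.IsRelVeryAmplePn q (CohB1.tensorPow L n) :=
  (eventually_veryAmple q hL (PicLoc.isInvertible_structureModule X)).mono fun _ h ↦
    isRelVeryAmplePn_of_iso q (TensorMod.unitRightIso _) h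

end Groth.Agent.ProjUPLib
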