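import Groth.Agent.GenLocus.Extend
import Groth.Agent.GenLocus.PullTensor

/-! Extending sections of invertible modules across the zero locus of a section. -/

set_option autoImplicit false
set_option backward.isDefEq.respectTransparency false
set_option backward.isDefEq.respectTransparency.types false
set_option linter.style.haveILetI false

noncomputable section

universe u

open CategoryTheory Limits AlgebraicGeometry Opposite TopologicalSpace
open Groth.Agent.QCohBase Groth.Agent.GenLocus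

namespace Groth.Agent.ProjUPLib

variable {X : Scheme.{u}} {L M : X.Modules}

/-- A section of `M` on `X_σ` times a large power of `σ` extends. -/
theorem eventually_extend (hL : PicF.IsInvertible L) (hM : PicF.IsInvertible M) [CompactSpace X]
    [QuasiSeparatedSpace X] (σ : Γ(L, ⊤)) (m : Γ(M, CohB1.genLocus L (homOfSection L σ))) :
    ∀ᶠ N in Filter.atTop, ∃ c : Γ(CohB1.tensorMod M (CohB1.tensorPow L N), ⊤),
      QCohBase.mres _ (le_top : CohB1.genLocus L (homOfSection L σ) ≤ ⊤) c =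
        SecTwist.tmul _ _ _ m (GenLocus.framePow (QCohBase.mres L le_top σ) N) := by
  classical
  let D := CohB1.genLocus L (homOfSection L σ)
  choose A₀ hA₀ hxA₀ _ e₀ he₀ using fun x : X ↦ exists_isFrame hL (W := ⊤) (x := x) trivial
  choose A hA hxA hAle e' he' using fun x : X ↦ exists_isFrame hM (hxA₀ x)
  let e : ∀ x, Γ(L, A x) := fun x ↦ QCohBase.mres L (hAle x) (e₀ x)
  have he : ∀ x, IsFrame L (e x) := fun x ↦ (he₀ x).res (hAle x)
  obtain ⟨t, ht⟩ := CompactSpace.elim_nhds_subcover (fun x ↦ (A x : Set X))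
    (fun x ↦ (A x).2.mem_nhds (hxA x))
  have hcov : (⊤ : X.Opens) ≤ ⨆ i : t, A i.1 := fun x _ ↦ by
    have : x ∈ ⋃ i ∈ t, (A i : Set X) := by rw [ht]; trivial
    obtain ⟨i, hi, hxi⟩ := Set.mem_iUnion₂.mp this
    exact Opens.mem_iSup.mpr ⟨⟨i, hi⟩, hxi⟩
  choose g hg hgW using fun i : t ↦ genLocus_inf_frame (homOfSection L σ) (he i.1)
  simp only [sect_homOfSection] at hg
  have hD : ∀ i : t, X.basicOpen (g i) ≤ D := fun i ↦ (hgW i).ge.trans inf_le_left
  choose f hf using fun i : t ↦ ((he' i.1).res (X.basicOpen_le (g i))).bijective.2 (QCohBase.mres M (hD i) m)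
  have hlift : ∀ i : t, ∀ᶠ k in Filter.atTop, ∃ a : Γ(X, A i.1),
      ores (X.basicOpen_le (g i)) a = ores (X.basicOpen_le (g i)) (g i) ^ k * f i := fun i ↦ by
    have := (hA i.1).isLocalization_basicOpen (g i)
    obtain ⟨⟨a, ⟨_, k, rfl⟩⟩, ha⟩ := IsLocalization.surj (Submonoid.powers (g i)) (f i)
    refine Filter.eventually_atTop.2 ⟨k, fun l hl ↦ ⟨g i ^ (l - k) * a, ?_⟩⟩
    have ha' : f i * ores (X.basicOpen_le (g i)) (g i) ^ k = ores (X.basicOpen_le (g i)) a := by
      rw [← map_pow]; exact ha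
    rw [map_mul, map_pow, ← ha']
    rw [← mul_assoc, mul_comm (_ ^ (l - k)), mul_assoc, ← pow_add, Nat.sub_add_cancel hl, mul_comm]
  obtain ⟨k, hk⟩ := (Filter.eventually_all.2 hlift).exists
  choose a ha using hk
  let I : t → t → X.Opens := fun i j ↦ A i.1 ⊓ A j.1
  have hIi : ∀ i j, I i j ≤ A i.1 := fun i j ↦ inf_le_left
  have hIj : ∀ i j, I i j ≤ A j.1 := fun i j ↦ inf_le_right
  choose v hv using fun i j : t ↦ ((he i.1).res (hIi i j)).bijective.2 (QCohBase.mres L (hIj i j) (e j.1))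
  choose w hw using fun i j : t ↦ ((he' i.1).res (hIi i j)).bijective.2 (QCohBase.mres M (hIj i j) (e' j.1))
  have hgv : ∀ i j, ores (hIi i j) (g i) = ores (hIj i j) (g j) * v i j := fun i j ↦ by
    refine ((he i.1).res (hIi i j)).bijective.1 ?_
    simp only [mul_smul, hv]
    rw [← mres_smul, ← mres_smul, hg, hg, mres_mres, mres_mres]
  let d : ∀ i j, Γ(X, I i j) := fun i j ↦
    ores (hIi i j) (a i) - v i j ^ k * w i j * ores (hIj i j) (a j)
  have hd : ∀ i j, ∀ᶠ l in Filter.atTop, ores (hIi i j) (g i) ^ l * d i j = 0 := fun i j ↦ by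
    have hc : IsCompact ((A i.1 : Set X) ∩ (A j.1 : Set X)) :=
      QuasiSeparatedSpace.inter_isCompact (A i.1 : Set X) (A j.1 : Set X) (A i.1).isOpen (hA i.1).isCompact (A j.1).isOpen (hA j.1).isCompact
    obtain ⟨l, hl⟩ := exists_pow_mul_eq_zero_of_res_basicOpen_eq_zero_of_isCompact X hc (d i j)
      (ores (hIi i j) (g i)) (by
        set E := X.basicOpen (ores (hIi i j) (g i)) with hEdef
        have hle : E ≤ I i j := X.basicOpen_le _
        have hDi : E ≤ X.basicOpen (g i) := by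
          rw [hEdef, basicOpen_ores]; exact inf_le_right
        have hDj : E ≤ X.basicOpen (g j) := fun x hx ↦ by
          have h1 : x ∈ D ⊓ A j.1 := ⟨hD i (hDi hx), hIj i j (hle hx)⟩
          rwa [hgW j] at h1
        show ores hle (d i j) = 0
        have h1 : ores (hle.trans (hIi i j)) (a i) = ores (hle.trans (hIi i j)) (g i) ^ k * ores hDi (f i) := by
          have := congrArg (ores hDi) (ha i); simpa only [map_mul, map_pow, ores_ores] using this
        have h2 : ores (hle.trans (hIj i j)) (a j) = ores (hle.trans (hIj i j)) (g j) ^ k * ores hDj (f j) := by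
          have := congrArg (ores hDj) (ha j); simpa only [map_mul, map_pow, ores_ores] using this
        have h3 : ores (hle.trans (hIi i j)) (g i) = ores (hle.trans (hIj i j)) (g j) * ores hle (v i j) := by
          have := congrArg (ores hle) (hgv i j); simpa only [map_mul, ores_ores] using this
        have h4 : ores hDi (f i) = ores hle (w i j) * ores hDj (f j) := by
          refine ((he' i.1).res (hle.trans (hIi i j))).bijective.1 ?_
          have e1 := congrArg (QCohBase.mres M hDi) (hf i)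
          have e2 := congrArg (QCohBase.mres M hDj) (hf j)
          have e3 := congrArg (QCohBase.mres M hle) (hw i j)
          simp only [mres_smul, mres_mres] at e1 e2 e3 ⊢
          rw [mul_comm, mul_smul, e3, e1, e2]
        simp only [d, map_sub, map_mul, map_pow, ores_ores, h1, h2, h3, h4]
        ring)
    refine Filter.eventually_atTop.2 ⟨l, fun l' hl' ↦ ?_⟩
    rw [← Nat.sub_add_cancel hl', pow_add, mul_assoc, hl, mul_zero]
  obtain ⟨l₀, hl₀⟩ := Filter.eventually_atTop.1 (Filter.eventually_all.2 fun z : t × t ↦ hd z.1 z.2)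
  refine Filter.eventually_atTop.2 ⟨l₀ + k, fun N hN ↦ ?_⟩
  obtain ⟨l, hl, rfl⟩ : ∃ l, l₀ ≤ l ∧ N = l + k := ⟨N - k, by omega, by omega⟩
  let P := CohB1.tensorMod M (CohB1.tensorPow L (l + k))
  let τ₀ : ∀ i : t, Γ(P, A i.1) := fun i ↦
    (g i ^ l * a i) • SecTwist.tmul _ _ _ (e' i.1) (GenLocus.framePow (e i.1) (l + k))
  have hres : ∀ (i : t) {W : X.Opens} (h : W ≤ A i.1), QCohBase.mres P h (τ₀ i) =
      (ores h (g i) ^ l * ores h (a i)) •
        SecTwist.tmul _ _ _ (QCohBase.mres M h (e' i.1)) (GenLocus.framePow (QCohBase.mres L h (e i.1)) (l + k)) := by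
    intro i W h
    show QCohBase.mres P h ((g i ^ l * a i) • _) = _
    rw [mres_smul, map_mul, map_pow, ← framePow_res h]
    congr 1
    exact SecTwist.map_tmul _ _ (homOfLE h) _ _
  have hσ : ∀ i j : t, QCohBase.mres P (hIi i j) (τ₀ i) = QCohBase.mres P (hIj i j) (τ₀ j) := fun i j ↦ by
    rw [hres i (hIi i j), hres j (hIj i j), ← hv i j, ← hw i j, framePow_smul, tmul_smul_smul, smul_smul]
    congr 1
    have := hl₀ l hl (i, j)
    simp only [d, mul_sub, sub_eq_zero] at this
    rw [this, hgv i j, mul_pow, pow_add]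
    ring
  obtain ⟨τ, hτ, -⟩ := TopCat.Sheaf.existsUnique_gluing' ⟨P.presheaf, P.isSheaf⟩ (fun i : t ↦ A i.1) ⊤
    (fun i ↦ homOfLE le_top) hcov τ₀ hσ
  refine ⟨τ, eq_of_iSup_le P (fun i : t ↦ X.basicOpen (g i)) hD ?_ _ _ fun i ↦ ?_⟩
  · intro x hx
    obtain ⟨i, hi⟩ := Opens.mem_iSup.mp (hcov (Set.mem_univ x : x ∈ (⊤ : X.Opens)))
    exact Opens.mem_iSup.mpr ⟨i, (hgW i).le ⟨hx, hi⟩⟩
  have h1 : QCohBase.mres P (le_top : A i.1 ≤ ⊤) τ = τ₀ i := hτ i
  rw [mres_mres]
  refine Eq.trans ?_ (SecTwist.map_tmul _ _ (homOfLE (hD i)) _ _).symm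
  rw [← mres_mres P (le_top : A i.1 ≤ ⊤) (X.basicOpen_le (g i)) τ, h1, hres i (X.basicOpen_le (g i))]
  show _ = SecTwist.tmul _ _ _ (QCohBase.mres M (hD i) m) (QCohBase.mres _ (hD i) _)
  rw [framePow_res, ← hf i]
  conv_rhs => rw [mres_mres L _ _ σ, ← mres_mres L (le_top : A i.1 ≤ ⊤) (X.basicOpen_le (g i)) σ]
  rw [
    ← hg i, mres_smul, framePow_smul, tmul_smul_smul, ha i, pow_add]
  congr 1
  ring

end Groth.Agent.ProjUPLib
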