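import Groth.Agent.ProjUPLib.Immersion
import Groth.Agent.ProjUPLib.ExtendMod
import Groth.Agent.GenLocus.Rel

/-! Very ample twists. -/

set_option autoImplicit false
set_option backward.isDefEq.respectTransparency false
set_option backward.isDefEq.respectTransparency.types false
set_option linter.unusedSectionVars false

noncomputable section

universe u

open CategoryTheory Limits AlgebraicGeometry Opposite TopologicalSpace
open Groth.Agent.QCohBase Groth.Agent.GenLocus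

namespace Groth.Agent.ProjUPLib

variable {X S : Scheme.{u}}

lemma loc_tmul {L M : X.Modules} (hL : PicF.IsInvertible L) (hM : PicF.IsInvertible M) (a : Γ(L, ⊤)) (b : Γ(M, ⊤)) :
    loc (CohB1.tensorMod L M) (SecTwist.tmul L M ⊤ a b) = loc L a ⊓ loc M b := by
  have key : ∀ U : X.Opens, sect (homOfSection (CohB1.tensorMod L M) (SecTwist.tmul L M ⊤ a b)) U =
      sect (SecTwist.tmulHom (homOfSection L a) (homOfSection M b)) U := fun U ↦ by
    refine Eq.trans ?_ (SecTwist.val_tmulHom (homOfSection L a) (homOfSection M b) U).symm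
    rw [sect_homOfSection]
    refine (SecTwist.map_tmul L M (homOfLE le_top) a b).trans ?_
    exact congrArg₂ (SecTwist.tmul L M U) (sect_homOfSection L a U).symm (sect_homOfSection M b U).symm
  refine Eq.trans ?_ (genLocus_tmulHom hL hM (homOfSection L a) (homOfSection M b))
  refine Opens.ext (Set.ext fun x ↦ ?_)
  refine (mem_genLocus_iff _).trans (Iff.trans ?_ (mem_genLocus_iff _).symm)
  exact exists_congr fun U ↦ and_congr_right' (by rw [key U])

/-- The functions of the base together with finitely many functions generate the ring of an affine open. -/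
lemma exists_ring_generators (q : X ⟶ S) [LocallyOfFiniteType q] {V : S.Opens} (hV : IsAffineOpen V)
    {U : X.Opens} (hU : IsAffineOpen U) (hle : U ≤ q ⁻¹ᵁ V) :
    ∃ G : Finset Γ(X, U), Subring.closure
      ((Set.range fun c : Γ(S, V) ↦ (q.appLE V U hle).hom c) ∪ G) = ⊤ := by
  let φ : Γ(S, V) →+* Γ(X, U) := (q.appLE V U hle).hom
  have hφ : φ.FiniteType := q.finiteType_appLE hV hU hle
  algebraize [φ]
  obtain ⟨G, hG⟩ := Algebra.FiniteType.out (R := Γ(S, V)) (A := Γ(X, U))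
  refine ⟨G, eq_top_iff.mpr fun z _ ↦ ?_⟩
  have hz : z ∈ Algebra.adjoin Γ(S, V) (G : Set Γ(X, U)) := by rw [hG]; exact Algebra.mem_top
  rw [← Subalgebra.mem_toSubring, Algebra.adjoin_eq_ring_closure] at hz
  exact hz

variable [CompactSpace X] [QuasiSeparatedSpace X]

/-- Sections of high twists realising an immersion. -/
theorem eventually_exists_good (q : X ⟶ S) [LocallyOfFiniteType q] {L0 M : X.Modules}
    (hL : PicF.IsInvertible L0) (hM : PicF.IsInvertible M) {ι : Type u} [Fintype ι] (c : ι → Γ(L0, ⊤))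
    (haff : ∀ k, IsAffineOpen (loc L0 (c k))) (hcov : ∀ x : X, ∃ k, x ∈ loc L0 (c k))
    (hbase : ∀ k, ∃ V : S.Opens, IsAffineOpen V ∧ loc L0 (c k) ≤ q ⁻¹ᵁ V)
    (htriv : ∀ k, ∃ e : Γ(M, loc L0 (c k)), IsFrame M e) :
    ∀ᶠ N in Filter.atTop, ∃ (κ : Type u) (_ : Fintype κ)
      (t : κ → Γ(CohB1.tensorMod (CohB1.tensorMod M (CohB1.tensorPow L0 N)) L0, ⊤)),
        ∀ x : X, ∃ j, x ∈ loc (CohB1.tensorMod (CohB1.tensorMod M (CohB1.tensorPow L0 N)) L0) (t j) ∧
          GenAt q _ t j := by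
  classical
  choose e he using htriv
  choose V hV hUV using hbase
  choose G hG using fun k ↦ exists_ring_generators q (hV k) (haff k) (hUV k)
  let κ := Σ k, Option (G k)
  let g : ∀ j : κ, Γ(X, loc L0 (c j.1)) := fun j ↦ j.2.elim 1 (fun a ↦ a.1)
  filter_upwards [Filter.eventually_all.2 fun j : κ ↦ eventually_extend hL hM (c j.1) (g j • e j.1)] with N hN
  choose d hd using hN
  let P := CohB1.tensorMod (CohB1.tensorMod M (CohB1.tensorPow L0 N)) L0
  have hMN : PicF.IsInvertible (CohB1.tensorMod M (CohB1.tensorPow L0 N)) :=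
    TensorMod.isInvertible_tensorMod hM (TensorMod.isInvertible_tensorPow hL N)
  let t : κ → Γ(P, ⊤) := fun j ↦ SecTwist.tmul _ _ ⊤ (d j) (c j.1)
  refine ⟨κ, inferInstance, t, fun x ↦ ?_⟩
  obtain ⟨k, hk⟩ := hcov x
  have hres : ∀ j : κ, QCohBase.mres P (le_top : loc L0 (c j.1) ≤ ⊤) (t j) =
      g j • SecTwist.tmul _ _ _ (SecTwist.tmul _ _ _ (e j.1) (framePow (QCohBase.mres L0 le_top (c j.1)) N))
        (QCohBase.mres L0 le_top (c j.1)) := fun j ↦ by
    refine (SecTwist.map_tmul _ _ (homOfLE le_top) (d j) (c j.1)).trans ?_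
    show SecTwist.tmul _ _ _ (QCohBase.mres _ le_top (d j)) (QCohBase.mres L0 le_top (c j.1)) = _
    rw [hd j, tmul_smul_left, tmul_smul_left]
  let j₀ : κ := ⟨k, none⟩
  have hf : IsFrame P (QCohBase.mres P (le_top : loc L0 (c k) ≤ ⊤) (t j₀)) := by
    rw [hres j₀]
    show IsFrame P ((1 : Γ(X, loc L0 (c k))) • _)
    rw [one_smul]
    exact ((he k).tmul ((isFrame_loc (c k)).framePow N)).tmul (isFrame_loc (c k))
  have hloc : loc P (t j₀) = loc L0 (c k) :=
    le_antisymm ((loc_tmul hMN hL _ _).trans_le inf_le_right) (le_loc hf)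
  refine ⟨j₀, hloc.ge hk, ?_⟩
  refine ⟨V k, hV k, ?_⟩
  have key : ∀ U : X.Opens, U = loc L0 (c k) → ∃ h : U ≤ q ⁻¹ᵁ V k, IsAffineOpen U ∧
      Subring.closure ((Set.range fun b : Γ(S, V k) ↦ (q.appLE (V k) U h).hom b) ∪
        {v | ∃ j, v • QCohBase.mres P (le_top : U ≤ ⊤) (t j₀) = QCohBase.mres P le_top (t j)}) = ⊤ := by
    rintro U rfl
    refine ⟨hUV k, haff k, top_le_iff.mp ((hG k).ge.trans (Subring.closure_mono (Set.union_subset_union_right _ ?_)))⟩
    intro a ha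
    refine ⟨⟨k, some ⟨a, ha⟩⟩, ?_⟩
    rw [hres j₀, hres ⟨k, some ⟨a, ha⟩⟩, smul_smul]
    congr 1
    exact mul_one a
  exact key _ hloc

omit [CompactSpace X] [QuasiSeparatedSpace X] in
theorem isRelVeryAmplePn_of_iso (q : X ⟶ S) {L L' : X.Modules} (e : L ≅ L') (h : RelAmple.IsRelVeryAmplePn q L) :
    RelAmple.IsRelVeryAmplePn q L' := by
  obtain ⟨n, i, h1, h2, ⟨φ⟩⟩ := h
  exact ⟨n, i, h1, h2, ⟨e.symm ≪≫ φ⟩⟩

omit [CompactSpace X] [QuasiSeparatedSpace X] in
/-- Up to isomorphism, `P` has finitely many sections realising an immersion. -/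
def HasGoodSections (q : X ⟶ S) (P : X.Modules) : Prop :=
  ∃ (Q : X.Modules) (_ : PicF.IsInvertible Q) (_ : Q ≅ P) (κ : Type u) (_ : Fintype κ) (t : κ → Γ(Q, ⊤)),
    ∀ x : X, ∃ j, x ∈ loc Q (t j) ∧ GenAt q Q t j

omit [CompactSpace X] [QuasiSeparatedSpace X] in
theorem HasGoodSections.of_iso {q : X ⟶ S} {P P' : X.Modules} (e : P ≅ P') (h : HasGoodSections q P) :
    HasGoodSections q P' := by
  obtain ⟨Q, hQ, φ, rest⟩ := h
  exact ⟨Q, hQ, φ ≪≫ e, rest⟩

omit [CompactSpace X] [QuasiSeparatedSpace X] in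
theorem HasGoodSections.isRelVeryAmplePn {q : X ⟶ S} {P : X.Modules} (h : HasGoodSections q P) :
    RelAmple.IsRelVeryAmplePn q P := by
  obtain ⟨Q, hQ, φ, κ, _, t, ht⟩ := h
  exact isRelVeryAmplePn_of_iso q φ (isRelVeryAmplePn_of_sections q hQ t ht)

theorem eventually_hasGoodSections (q : X ⟶ S) [LocallyOfFiniteType q] {L0 M : X.Modules}
    (hL : PicF.IsInvertible L0) (hM : PicF.IsInvertible M) {ι : Type u} [Fintype ι] (c : ι → Γ(L0, ⊤))
    (haff : ∀ k, IsAffineOpen (loc L0 (c k))) (hcov : ∀ x : X, ∃ k, x ∈ loc L0 (c k))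
    (hbase : ∀ k, ∃ V : S.Opens, IsAffineOpen V ∧ loc L0 (c k) ≤ q ⁻¹ᵁ V)
    (htriv : ∀ k, ∃ e : Γ(M, loc L0 (c k)), IsFrame M e) :
    ∀ᶠ N in Filter.atTop, HasGoodSections q (CohB1.tensorMod M (CohB1.tensorPow L0 N)) := by
  obtain ⟨N₀, hN₀⟩ := Filter.eventually_atTop.1 (eventually_exists_good q hL hM c haff hcov hbase htriv)
  refine Filter.eventually_atTop.2 ⟨N₀ + 1, fun N hN ↦ ?_⟩
  obtain ⟨m, hm, rfl⟩ : ∃ m, N₀ ≤ m ∧ N = m + 1 := ⟨N - 1, by omega, by omega⟩
  exact ⟨_, TensorMod.isInvertible_tensorMod (TensorMod.isInvertible_tensorMod hM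
    (TensorMod.isInvertible_tensorPow hL m)) hL, TensorMod.assocIso M (CohB1.tensorPow L0 m) L0, hN₀ m hm⟩

theorem eventually_isRelVeryAmplePn (q : X ⟶ S) [LocallyOfFiniteType q] {L0 M : X.Modules}
    (hL : PicF.IsInvertible L0) (hM : PicF.IsInvertible M) {ι : Type u} [Fintype ι] (c : ι → Γ(L0, ⊤))
    (haff : ∀ k, IsAffineOpen (loc L0 (c k))) (hcov : ∀ x : X, ∃ k, x ∈ loc L0 (c k))
    (hbase : ∀ k, ∃ V : S.Opens, IsAffineOpen V ∧ loc L0 (c k) ≤ q ⁻¹ᵁ V)
    (htriv : ∀ k, ∃ e : Γ(M, loc L0 (c k)), IsFrame M e) :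
    ∀ᶠ N in Filter.atTop, RelAmple.IsRelVeryAmplePn q (CohB1.tensorMod M (CohB1.tensorPow L0 N)) :=
  (eventually_hasGoodSections q hL hM c haff hcov hbase htriv).mono fun _ h ↦ h.isRelVeryAmplePn

end Groth.Agent.ProjUPLib
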