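import Groth.Agent.S3572
import Groth.Agent.ProjUPLib.AmpleO1
import Groth.Agent.ProjUPLib.Gen
import Groth.Agent.GenLocus.Ops
import Groth.Prelude.Def_LCI2

/-! Immersions into projective space given by sections. -/

set_option autoImplicit false
set_option backward.isDefEq.respectTransparency false
set_option backward.isDefEq.respectTransparency.types false
set_option linter.style.haveILetI false
set_option linter.unusedSectionVars false

noncomputable section

universe u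

open CategoryTheory Limits AlgebraicGeometry Opposite TopologicalSpace
open Groth.Agent.QCohBase Groth.Agent.GenLocus

namespace Groth.Agent.ProjUPLib

variable {X : Scheme.{u}} {L : X.Modules}

/-- The locus where a global section generates. -/
abbrev loc (L : X.Modules) (σ : Γ(L, ⊤)) : X.Opens := CohB1.genLocus L (homOfSection L σ)

lemma isFrame_loc (σ : Γ(L, ⊤)) : IsFrame L (QCohBase.mres L (le_top : loc L σ ≤ ⊤) σ) := by
  have := isFrame_sect_genLocus (homOfSection L σ)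
  rwa [sect_homOfSection] at this

lemma le_loc {σ : Γ(L, ⊤)} {U : X.Opens} (h : IsFrame L (QCohBase.mres L (le_top : U ≤ ⊤) σ)) :
    U ≤ loc L σ := fun _ hx ↦
  (mem_genLocus_iff _).mpr ⟨U, hx, by rwa [sect_homOfSection]⟩

/-- Sections whose loci cover generate. -/
theorem generatedBy_of_cover {ι : Type*} (s : ι → Γ(L, ⊤)) (h : ∀ x : X, ∃ k, x ∈ loc L (s k)) :
    ProjUP.GeneratedBy L s := by
  intro x
  obtain ⟨k, hk⟩ := h x
  refine eq_top_iff.mpr fun z _ ↦ ?_
  obtain ⟨V, hxV, t, rfl⟩ := L.presheaf.exists_germ_eq z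
  obtain ⟨c, hc⟩ := (isFrame_loc (s k) (loc L (s k) ⊓ V) inf_le_left).2 (QCohBase.mres L inf_le_right t)
  rw [← AssPts.germ_mres L x (inf_le_right : loc L (s k) ⊓ V ≤ V) ⟨hk, hxV⟩ t, ← hc, AssPts.germ_smul',
    AssPts.germ_mres, AssPts.germ_mres]
  exact Submodule.smul_mem _ _ (Submodule.subset_span ⟨k, rfl⟩)

variable {S : Scheme.{u}} (q : X ⟶ S)

/-- The locus of `σ` is affine, lies over the open `V` and its ring is generated over `Γ(S, V)` by the
ratios `s j / σ`. -/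
def GenSec (V : S.Opens) (L : X.Modules) {ι : Type*} (s : ι → Γ(L, ⊤)) (σ : Γ(L, ⊤)) : Prop :=
  ∃ h : loc L σ ≤ q ⁻¹ᵁ V, IsAffineOpen (loc L σ) ∧
    Subring.closure ((Set.range fun c : Γ(S, V) ↦ (q.appLE V (loc L σ) h).hom c) ∪
      {v | ∃ j, v • QCohBase.mres L (le_top : loc L σ ≤ ⊤) σ = QCohBase.mres L le_top (s j)}) = ⊤

/-- `GenSec` over some affine open of the base. -/
abbrev GenAt (L : X.Modules) {ι : Type*} (s : ι → Γ(L, ⊤)) (k : ι) : Prop :=
  ∃ V : S.Opens, IsAffineOpen V ∧ GenSec q V L s (s k)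

/-- The intersection of inverse images of affine opens in a product of schemes. -/
lemma isAffineOpen_preimage_inf {A B T P : Scheme.{u}} [IsAffine T] {f : A ⟶ T} {g : B ⟶ T} {p₁ : P ⟶ A}
    {p₂ : P ⟶ B} (h : IsPullback p₁ p₂ f g) {U : A.Opens} {V : B.Opens} (hU : IsAffineOpen U)
    (hV : IsAffineOpen V) : IsAffineOpen (p₁ ⁻¹ᵁ U ⊓ p₂ ⁻¹ᵁ V) := by
  haveI : IsAffine U := hU
  haveI : IsAffine V := hV
  let m : pullback (U.ι ≫ f) (V.ι ≫ g) ⟶ pullback f g :=
    pullback.map _ _ f g U.ι V.ι (𝟙 T) (by simp) (by simp)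
  let m' := m ≫ h.isoPullback.inv
  have hr : Set.range m' = ((p₁ ⁻¹ᵁ U ⊓ p₂ ⁻¹ᵁ V : P.Opens) : Set P) := by
    have e0 : Set.range m = (pullback.fst f g) ⁻¹' Set.range U.ι ∩ (pullback.snd f g) ⁻¹' Set.range V.ι :=
      Scheme.Pullback.range_map _ _ _ _ _ _ _ _ _
    simp only [m', Scheme.Hom.comp_base, TopCat.coe_comp, Set.range_comp, e0, Scheme.Opens.range_ι]
    ext z
    constructor
    · rintro ⟨w, ⟨h1, h2⟩, rfl⟩
      refine ⟨?_, ?_⟩
      · show p₁ (h.isoPullback.inv w) ∈ U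
        rw [← Scheme.Hom.comp_apply, h.isoPullback_inv_fst]; exact h1
      · show p₂ (h.isoPullback.inv w) ∈ V
        rw [← Scheme.Hom.comp_apply, h.isoPullback_inv_snd]; exact h2
    · rintro ⟨h1, h2⟩
      refine ⟨h.isoPullback.hom z, ⟨?_, ?_⟩, ?_⟩
      · show pullback.fst f g (h.isoPullback.hom z) ∈ U
        rw [← Scheme.Hom.comp_apply, h.isoPullback_hom_fst]; exact h1
      · show pullback.snd f g (h.isoPullback.hom z) ∈ V
        rw [← Scheme.Hom.comp_apply, h.isoPullback_hom_snd]; exact h2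
      · show h.isoPullback.inv (h.isoPullback.hom z) = z
        rw [← Scheme.Hom.comp_apply, Iso.hom_inv_id]; rfl
  have := isAffineOpen_opensRange m'
  rwa [show m'.opensRange = p₁ ⁻¹ᵁ U ⊓ p₂ ⁻¹ᵁ V from Opens.ext hr] at this

theorem exists_immersion_of_sections_fin (hL : PicF.IsInvertible L) {n : ℕ}
    (s : Fin (n + 1) → Γ(L, ⊤)) (h : ∀ x : X, ∃ k, x ∈ loc L (s k) ∧ GenAt q L s k) :
    ∃ i : X ⟶ CohB1.ProjSpaceOver n S, IsImmersion i ∧
      i ≫ pullback.snd (CohB1.ProjSpace.toSpec n (ULift.{u} ℤ)) (specULiftZIsTerminal.from S) = q ∧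
      Nonempty (L ≅ (Scheme.Modules.pullback i).obj (Twist.twistOver n S 1)) ∧
      ((∀ k, GenSec q ⊤ L s (s k)) → IsAffine S → IsClosedImmersion i) := by
  let Z := ULift.{u} ℤ
  let 𝒜 := CohB1.polyGrading n Z
  have hgen := generatedBy_of_cover s fun x ↦ let ⟨k, hk, _⟩ := h x; ⟨k, hk⟩
  obtain ⟨r, τ, hτ⟩ : ∃ (r : X ⟶ Proj 𝒜) (τ : (Scheme.Modules.pullback r).obj (Twist.twist 𝒜 1) ≅ L),
      ∀ j, τ.hom.app ⊤ (secPull 𝒜 r (ProjCoord.X_mem (R := Z) j)) = s j := by
    obtain ⟨r, -, τ, hτ⟩ := S3572.result n (specULiftZIsTerminal.from X) L hL s hgen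
    exact ⟨r, τ, hτ⟩
  let e : ULift.{u} (Fin (n + 1)) → MvPolynomial (Fin (n + 1)) Z := fun i ↦ MvPolynomial.X i.down
  have he : ∀ i, e i ∈ 𝒜 1 := fun i ↦ ProjCoord.X_mem i.down
  have hτ' : ∀ k, τ.hom.app ⊤ (secPull 𝒜 r (he k)) = s k.down := fun k ↦ hτ k.down
  -- loci are preimages of the standard charts
  have hloc : ∀ k, r ⁻¹ᵁ Proj.basicOpen 𝒜 (e k) = loc L (s k.down) := by
    intro k
    refine le_antisymm (le_loc ?_) fun x hx ↦ ?_
    · have hf := isFrame_secPull 𝒜 r (he k) (le_refl (r ⁻¹ᵁ Proj.basicOpen 𝒜 (e k)))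
      intro W hW
      rw [← hτ' k, mres_mres, app_mres]
      have hb : Function.Bijective (τ.hom.app W) :=
        (ConcreteCategory.isIso_iff_bijective _).mp (Scheme.Modules.Hom.isIso_iff_isIso_app.mp inferInstance W)
      have := hb.comp (hf W hW)
      simp only [mres_mres] at this
      convert this using 1
      exact funext fun a ↦ (app_smul' τ.hom a _).symm
    · obtain ⟨l, hl⟩ := Opens.mem_iSup.mp
        (le_iSup_basicOpen 𝒜 e he (adjoin_range_X n Z) (trivial : r x ∈ (⊤ : (Proj 𝒜).Opens)))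
      let W := loc L (s k.down) ⊓ r ⁻¹ᵁ Proj.basicOpen 𝒜 (e l)
      have hWl : W ≤ r ⁻¹ᵁ Proj.basicOpen 𝒜 (e l) := inf_le_right
      have e1 := congrArg (τ.hom.app W) (secPull_rel 𝒜 r (he l) (he k) hWl)
      rw [app_smul', ← app_mres, ← app_mres, hτ', hτ'] at e1
      obtain ⟨c, hc⟩ := ((isFrame_loc (s k.down)) W inf_le_left).2 (QCohBase.mres L le_top (s l.down))
      simp only [mres_mres] at hc
      have hfl : IsFrame L (QCohBase.mres L (le_top : W ≤ ⊤) (s l.down)) := by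
        intro V hV
        have hb : Function.Bijective (τ.hom.app V) :=
          (ConcreteCategory.isIso_iff_bijective _).mp (Scheme.Modules.Hom.isIso_iff_isIso_app.mp inferInstance V)
        have := hb.comp ((isFrame_secPull 𝒜 r (he l) hWl) V hV)
        simp only [mres_mres] at this ⊢
        convert this using 1
        refine funext fun a ↦ ?_
        show _ = τ.hom.app V (a • _)
        rw [app_smul', ← app_mres, hτ']
      have hu : IsUnit ((r.appLE _ W hWl).hom (secRatio 𝒜 (he l) (e k))) := by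
        refine IsUnit.of_mul_eq_one_right c (hfl.bijective.1 ?_)
        simp only [mul_smul, one_smul]
        rw [e1, hc]
      have h' := X.basicOpen_of_isUnit hu
      rw [Scheme.basicOpen_appLE, basicOpen_secRatio 𝒜 (he l) (he k)] at h'
      exact ((h'.ge (⟨hx, hl⟩ : x ∈ W)).2).2
  let p₁ := pullback.fst (CohB1.ProjSpace.toSpec n Z) (specULiftZIsTerminal.from S)
  let p₂ := pullback.snd (CohB1.ProjSpace.toSpec n Z) (specULiftZIsTerminal.from S)
  let i : X ⟶ CohB1.ProjSpaceOver n S := pullback.lift r q (specULiftZIsTerminal.hom_ext _ _)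
  have hi₁ : i ≫ p₁ = r := pullback.lift_fst _ _ _
  have hi₂ : i ≫ p₂ = q := pullback.lift_snd _ _ _
  let W : Fin (n + 1) → S.Opens → (CohB1.ProjSpaceOver n S).Opens := fun k V ↦
    p₁ ⁻¹ᵁ Proj.basicOpen 𝒜 (e ⟨k⟩) ⊓ p₂ ⁻¹ᵁ V
  have hWaff : ∀ k {V}, IsAffineOpen V → IsAffineOpen (W k V) := fun k V hV ↦
    isAffineOpen_preimage_inf (IsPullback.of_hasPullback _ _)
      (Proj.isAffineOpen_basicOpen 𝒜 (e ⟨k⟩) (he ⟨k⟩) one_pos) hV
  have hiW : ∀ k {V}, loc L (s k) ≤ q ⁻¹ᵁ V → i ⁻¹ᵁ W k V = loc L (s k) := fun k V hV ↦ by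
    have : i ⁻¹ᵁ W k V = r ⁻¹ᵁ Proj.basicOpen 𝒜 (e ⟨k⟩) ⊓ q ⁻¹ᵁ V := by rw [← hi₁, ← hi₂]; rfl
    rw [this, hloc ⟨k⟩]
    exact inf_eq_left.mpr hV
  have hcl : ∀ k {V}, IsAffineOpen V → GenSec q V L s (s k) → IsClosedImmersion (i ∣_ W k V) := by
    rintro k V hV ⟨hle, haff, hgens⟩
    have hk' := (hiW k hle).ge
    have hsurj : Function.Surjective (i.appLE (W k V) (loc L (s k)) hk') := by
      intro z
      have hz : z ∈ (i.appLE (W k V) (loc L (s k)) hk').hom.range := by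
        refine Subring.closure_le.mpr ?_ (hgens.ge (Subring.mem_top z))
        rintro v (⟨c, rfl⟩ | ⟨j, hj⟩)
        · refine ⟨(p₂.appLE V (W k V) inf_le_right).hom c, ?_⟩
          refine (congr(($(Scheme.Hom.appLE_comp_appLE i p₂ V (W k V) (loc L (s k)) inf_le_right hk')).hom c)).trans ?_
          simp only [hi₂]
        · refine ⟨(p₁.appLE (Proj.basicOpen 𝒜 (e ⟨k⟩)) (W k V) inf_le_left).hom (secRatio 𝒜 (he ⟨k⟩) (e ⟨j⟩)), ?_⟩
          refine (congr(($(Scheme.Hom.appLE_comp_appLE i p₁ (Proj.basicOpen 𝒜 (e ⟨k⟩)) (W k V) (loc L (s k)) inf_le_left hk')).hom _)).trans ?_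
          simp only [hi₁]
          have e1 := congrArg (τ.hom.app _) (secPull_rel 𝒜 r (he ⟨k⟩) (he ⟨j⟩) (hloc ⟨k⟩).ge)
          rw [app_smul', ← app_mres, ← app_mres, hτ', hτ'] at e1
          exact (isFrame_loc (s k)).bijective.1 (e1.trans hj.symm)
      exact hz
    haveI : IsAffine (W k V) := hWaff k hV
    haveI : IsAffine (loc L (s k)) := haff
    have hres : IsClosedImmersion (i.resLE (W k V) (loc L (s k)) hk') := by
      refine IsClosedImmersion.of_surjective_of_isAffine _ ?_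
      rw [show (i.resLE (W k V) (loc L (s k)) hk').appTop = _ from Scheme.Hom.resLE_app_top i hk']
      simp only [CommRingCat.hom_comp, RingHom.coe_comp]
      refine ((ConcreteCategory.isIso_iff_bijective _).mp inferInstance).2.comp (hsurj.comp ?_)
      exact ((ConcreteCategory.isIso_iff_bijective _).mp inferInstance).2
    rw [← Scheme.Hom.resLE_eq_morphismRestrict]
    exact (Scheme.Hom.resLE_congr i le_rfl rfl (hiW k hle) (P := @IsClosedImmersion)).mpr hres
  have hiso : Nonempty (L ≅ (Scheme.Modules.pullback i).obj (Twist.twistOver n S 1)) :=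
    ⟨τ.symm ≪≫ (Scheme.Modules.pullbackCongr hi₁.symm).app _ ≪≫
      ((Scheme.Modules.pullbackComp i p₁).app _).symm⟩
  let K := {z : Fin (n + 1) × S.Opens // IsAffineOpen z.2 ∧ GenSec q z.2 L s (s z.1)}
  let Wt : (CohB1.ProjSpaceOver n S).Opens := ⨆ k : K, W k.1.1 k.1.2
  have htop : i ⁻¹ᵁ Wt = ⊤ := top_le_iff.mp fun x _ ↦ by
    obtain ⟨k, hxk, V, hV, hk⟩ := h x
    exact Opens.mem_iSup.mpr ⟨⟨(k, V), hV, hk⟩, (hiW k hk.1).ge hxk⟩
  have hWt : IsClosedImmersion (i ∣_ Wt) := by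
    refine IsZariskiLocalAtTarget.of_iSup_eq_top (P := @IsClosedImmersion)
      (fun k : K ↦ Wt.ι ⁻¹ᵁ W k.1.1 k.1.2) (top_le_iff.mp fun z _ ↦ ?_) fun k ↦ ?_
    · obtain ⟨k, hk⟩ := Opens.mem_iSup.mp z.2
      exact Opens.mem_iSup.mpr ⟨k, hk⟩
    · refine (MorphismProperty.arrow_mk_iso_iff @IsClosedImmersion (morphismRestrictRestrict i Wt _)).mpr ?_
      have : Wt.ι ''ᵁ (Wt.ι ⁻¹ᵁ W k.1.1 k.1.2) = W k.1.1 k.1.2 := by
        rw [Scheme.Hom.image_preimage_eq_opensRange_inf, Scheme.Opens.opensRange_ι]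
        exact inf_eq_right.mpr (le_iSup (fun k : K ↦ W k.1.1 k.1.2) k)
      rw [this]
      exact hcl k.1.1 k.2.1 k.2.2
  have hfac : i = (X.isoOfEq htop ≪≫ X.topIso).inv ≫ (i ∣_ Wt) ≫ Wt.ι := by
    rw [morphismRestrict_ι, Iso.eq_inv_comp]
    simp
  refine ⟨i, ?_, hi₂, hiso, fun hall hS ↦ ?_⟩
  · rw [hfac]
    infer_instance
  · have : Wt = ⊤ := top_le_iff.mp fun z _ ↦ by
      obtain ⟨k, hk⟩ := Opens.mem_iSup.mp
        (le_iSup_basicOpen 𝒜 e he (adjoin_range_X n Z) (trivial : p₁ z ∈ (⊤ : (Proj 𝒜).Opens)))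
      exact Opens.mem_iSup.mpr ⟨⟨(k.down, ⊤), isAffineOpen_top S, hall _⟩, hk, trivial⟩
    haveI : IsIso Wt.ι := by rw [this]; exact (Scheme.topIso _).isIso_hom
    rw [hfac]
    infer_instance

/-- Reindexing. -/
theorem exists_immersion_of_sections (hL : PicF.IsInvertible L) {ι : Type*} [Fintype ι]
    (s : ι → Γ(L, ⊤)) (h : ∀ x : X, ∃ k, x ∈ loc L (s k) ∧ GenAt q L s k) :
    ∃ (n : ℕ) (i : X ⟶ CohB1.ProjSpaceOver n S), IsImmersion i ∧
      i ≫ pullback.snd (CohB1.ProjSpace.toSpec n (ULift.{u} ℤ)) (specULiftZIsTerminal.from S) = q ∧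
      Nonempty (L ≅ (Scheme.Modules.pullback i).obj (Twist.twistOver n S 1)) ∧
      ((∀ k, GenSec q ⊤ L s (s k)) → IsAffine S → IsClosedImmersion i) := by
  classical
  let φ : Option ι ≃ Fin (Fintype.card ι + 1) :=
    (Fintype.equivFinOfCardEq (Fintype.card_option (α := ι)))
  let s' : Fin (Fintype.card ι + 1) → Γ(L, ⊤) := fun j ↦ (φ.symm j).elim 0 s
  have hsome : ∀ k V, GenSec q V L s (s k) → GenSec q V L s' (s' (φ (some k))) := by
    intro k V hk
    have e1 : s' (φ (some k)) = s k := by simp [s']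
    rw [e1]
    obtain ⟨hle, haff, hg⟩ := hk
    refine ⟨hle, haff, top_le_iff.mp (hg.ge.trans (Subring.closure_mono (Set.union_subset_union_right _ ?_)))⟩
    rintro v ⟨j, hj⟩
    exact ⟨φ (some j), by simp [s', hj]⟩
  obtain ⟨i, hi, hiq, hiso, hcl⟩ := exists_immersion_of_sections_fin q hL s' fun x ↦ by
    obtain ⟨k, hxk, V, hV, hk⟩ := h x
    exact ⟨φ (some k), by simpa [s'] using hxk, V, hV, hsome k V hk⟩
  refine ⟨_, i, hi, hiq, hiso, fun hall hS ↦ hcl (fun j ↦ ?_) hS⟩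
  obtain ⟨o, rfl⟩ := φ.surjective j
  cases o with
  | some k => exact hsome k ⊤ (hall k)
  | none =>
    have e1 : s' (φ none) = 0 := by simp [s']
    have hbot : loc L (0 : Γ(L, ⊤)) = ⊥ := by
      refine bot_unique fun x hx ↦ ?_
      obtain ⟨U, hxU, hU⟩ := (mem_genLocus_iff _).mp hx
      have h0 : sect (homOfSection L (0 : Γ(L, ⊤))) U = 0 := by rw [sect_homOfSection, map_zero]
      rw [h0] at hU
      have h10 : (1 : Γ(X, U)) = 0 := hU.bijective.1 (by simp)
      have h2 := congrArg (X.presheaf.germ U x hxU) h10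
      rw [map_one, map_zero] at h2
      exact absurd h2 one_ne_zero
    rw [e1]
    refine ⟨le_top, by rw [hbot]; exact isAffineOpen_bot X, eq_top_iff.mpr fun z _ ↦ ?_⟩
    haveI : Subsingleton Γ(X, loc L (0 : Γ(L, ⊤))) := by rw [hbot]; infer_instance
    rw [Subsingleton.elim z 0]
    exact zero_mem _

theorem isRelVeryAmplePn_of_sections (hL : PicF.IsInvertible L) {ι : Type*} [Fintype ι]
    (s : ι → Γ(L, ⊤)) (h : ∀ x : X, ∃ k, x ∈ loc L (s k) ∧ GenAt q L s k) :
    RelAmple.IsRelVeryAmplePn q L := by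
  obtain ⟨n, i, hi, hiq, hiso, -⟩ := exists_immersion_of_sections q hL s h
  exact ⟨n, i, hi, hiq, hiso⟩

end Groth.Agent.ProjUPLib
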