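import Groth.Agent.S3584
import Groth.Agent.TensorMod.Basic
import Groth.Agent.ProjUPLib.Gen
import Groth.Agent.GenLocus.Rel

/-! Very ample implies ample. -/

set_option autoImplicit false
set_option backward.isDefEq.respectTransparency false
set_option backward.isDefEq.respectTransparency.types false

noncomputable section

universe u

open CategoryTheory Limits AlgebraicGeometry Opposite TopologicalSpace
open Groth.Agent.GenLocus Groth.Agent.EGA2G

namespace Groth.Agent.ProjUPLib

theorem isAmple_twist_polyGrading (n : ℕ) (R : Type u) [CommRing R] :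
    CohB1.IsAmple (Twist.twist (CohB1.polyGrading n R) 1) := by
  classical
  let e : ULift.{u} (Fin (n + 1)) → MvPolynomial (Fin (n + 1)) R := fun i ↦ MvPolynomial.X i.down
  refine S3584.result (R := R) (CohB1.polyGrading n R) (Finset.univ.image e) (fun f hf ↦ ?_) (le_antisymm ?_ ?_)
  · obtain ⟨i, -, rfl⟩ := Finset.mem_image.mp hf
    exact ProjCoord.X_mem i.down
  · refine irrelevant_le_span_of_adjoin_eq_top _ _ ?_ ?_
    · intro f hf
      obtain ⟨i, -, rfl⟩ := Finset.mem_image.mp hf
      exact ⟨1, one_pos, ProjCoord.X_mem i.down⟩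
    · rw [Finset.coe_image, Finset.coe_univ, Set.image_univ]
      refine eq_top_iff.mpr fun x _ ↦ ?_
      have hx : x ∈ Algebra.adjoin R (Set.range e) := adjoin_range_X n R ▸ trivial
      induction hx using Algebra.adjoin_induction with
      | mem z hz => exact Algebra.subset_adjoin hz
      | algebraMap c => exact Subalgebra.algebraMap_mem _ (algebraMap R (CohB1.polyGrading n R 0) c)
      | add a b _ _ ha hb => exact add_mem (ha trivial) (hb trivial)
      | mul a b _ _ ha hb => exact mul_mem (ha trivial) (hb trivial)
  · refine Ideal.span_le.mpr fun f hf ↦ ?_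
    obtain ⟨i, -, rfl⟩ := Finset.mem_image.mp hf
    exact HomogeneousIdeal.mem_irrelevant_of_mem _ one_pos (ProjCoord.X_mem i.down)

theorem isAmple_twistOver (n : ℕ) (S : Scheme.{u}) [IsAffine S] :
    CohB1.IsAmple (Twist.twistOver n S 1) := by
  haveI : IsAffineHom (specULiftZIsTerminal.from S) := isAffineHom_of_isAffine _
  haveI : IsAffineHom (pullback.fst (CohB1.ProjSpace.toSpec n (ULift.{u} ℤ)) (specULiftZIsTerminal.from S)) :=
    MorphismProperty.pullback_fst _ _ inferInstance
  exact isAmple_pullback_of_isAffineHom _ (isAmple_twist_polyGrading n _)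

/-- Very ample implies ample over an affine base. -/
theorem isAmple_of_isRelVeryAmplePn {X S : Scheme.{u}} [IsAffine S] [CompactSpace X] (q : X ⟶ S) {L : X.Modules}
    (h : RelAmple.IsRelVeryAmplePn q L) : CohB1.IsAmple L := by
  obtain ⟨n, i, hi, -, ⟨φ⟩⟩ := h
  exact isAmple_of_iso φ.symm (isAmple_pullback_of_isEmbedding i i.isEmbedding (isAmple_twistOver n S))

end Groth.Agent.ProjUPLib
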