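import Groth.Agent.ProjUPLib.FiniteGen
import Groth.Agent.ProjUPLib.AmpleO1
import Groth.Agent.ProjUPLib.TwistN

/-! `O(1)` on Proj of an algebra with finitely many degree one generators; Serre's theorem. -/

set_option autoImplicit false
set_option backward.isDefEq.respectTransparency false
set_option backward.isDefEq.respectTransparency.types false
set_option linter.style.haveILetI false
set_option linter.unusedSectionVars false

noncomputable section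

universe u

open CategoryTheory Limits AlgebraicGeometry Opposite TopologicalSpace
open Groth.Agent.QCohBase Groth.Agent.GenLocus

namespace Groth.Agent.ProjUPLib

variable {R A : Type u} [CommRing R] [CommRing A] [Algebra R A] (𝒜 : ℕ → Submodule R A) [GradedAlgebra 𝒜]
variable (s : Finset A) (hs1 : ∀ f ∈ s, f ∈ 𝒜 1)
  (hs : (HomogeneousIdeal.irrelevant 𝒜).toIdeal = Ideal.span (s : Set A))

include hs in
lemma exists_mem_gens (x : ProjectiveSpectrum 𝒜) : ∃ f ∈ s, f ∉ x.asHomogeneousIdeal := by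
  by_contra hne
  push Not at hne
  refine x.not_irrelevant_le ?_
  intro b hb
  exact (Ideal.span_le.mpr fun g hg ↦ hne g hg) (hs.le hb)

include hs1 hs in
lemma iSup_basicOpen_one : (⨆ f : 𝒜 1, Proj.basicOpen 𝒜 (f : A)) = ⊤ :=
  top_le_iff.mp fun x _ ↦ by
    obtain ⟨f, hf, hfx⟩ := exists_mem_gens 𝒜 s hs x
    exact Opens.mem_iSup.mpr ⟨⟨f, hs1 f hf⟩, hfx⟩

include hs1 hs in
theorem isAmple_twist_one : CohB1.IsAmple (Twist.twist 𝒜 1) := by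
  have hcov := iSup_basicOpen_one 𝒜 s hs1 hs
  refine ⟨isInvertible_twist 𝒜 1 hcov, ⟨?_⟩, fun x ↦ ?_⟩
  · have : (Set.univ : Set (Proj 𝒜)) = ⋃ f : s, (Proj.basicOpen 𝒜 (f : A) : Set (Proj 𝒜)) := by
      refine (Set.eq_univ_of_forall fun x ↦ ?_).symm
      obtain ⟨f, hf, hfx⟩ := exists_mem_gens 𝒜 s hs x
      exact Set.mem_iUnion.mpr ⟨⟨f, hf⟩, hfx⟩
    rw [this]
    exact isCompact_iUnion fun f ↦ (Proj.isAffineOpen_basicOpen 𝒜 (f : A) (hs1 _ f.2) one_pos).isCompact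
  · obtain ⟨f, hf, hfx⟩ := exists_mem_gens 𝒜 s hs x
    refine ⟨0, homOfSection (Twist.twist 𝒜 1) (oneSec 𝒜 (hs1 f hf)) ≫ (TensorMod.tensorPowOneIso _).symm.hom, ?_⟩
    rw [genLocus_comp_iso, genLocus_oneSec 𝒜 hcov]
    exact ⟨hfx, Proj.isAffineOpen_basicOpen 𝒜 f (hs1 f hf) one_pos⟩

include hs1 hs in
theorem eventually_quotient_of_free (F : (Proj 𝒜).Modules) (hF : Coh.IsCoh F) :
    ∀ᶠ n : ℕ in Filter.atTop,
      ∃ (k : ℕ) (p : FlatMod.freeMod (Proj 𝒜) k ⟶ Twist.twistBy 𝒜 F (n : ℤ)), Epi p := by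
  refine (eventually_exists_epi_free (isAmple_twist_one 𝒜 s hs1 hs) hF).mono fun n hn ↦ ?_
  obtain ⟨e⟩ := nonempty_tensorPow_iso 𝒜 (iSup_basicOpen_one 𝒜 s hs1 hs) n
  exact exists_epi_free_of_iso (TensorMod.tensorIso (Iso.refl F) e.symm) hn

include hs1 hs in
theorem eventually_quotient_of_twists (F : (Proj 𝒜).Modules) (hF : Coh.IsCoh F) :
    ∀ᶠ n : ℕ in Filter.atTop,
      ∃ (k : ℕ) (p : (∐ fun _ : Fin k => Twist.twist 𝒜 (-(n : ℤ))) ⟶ F), Epi p := by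
  refine (eventually_quotient_of_free 𝒜 s hs1 hs F hF).mono fun n hn ↦ ?_
  obtain ⟨k, p, hp⟩ := exists_epi_coproduct_tensor (Twist.twist 𝒜 (-(n : ℤ))) hn
  haveI := isIso_mulMap 𝒜 (n : ℤ) (-(n : ℤ)) (iSup_basicOpen_one 𝒜 s hs1 hs)
  let e : CohB1.tensorMod (Twist.twistBy 𝒜 F (n : ℤ)) (Twist.twist 𝒜 (-(n : ℤ))) ≅ F :=
    TensorMod.assocIso _ _ _ ≪≫ TensorMod.tensorIso (Iso.refl F)
      (asIso (mulMap 𝒜 (n : ℤ) (-(n : ℤ))) ≪≫ eqToIso (by rw [add_neg_cancel]) ≪≫ (unitIso 𝒜).symm) ≪≫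
      TensorMod.unitRightIso F
  exact ⟨k, p ≫ e.hom, @epi_comp _ _ _ _ _ _ hp _ inferInstance⟩

include hs1 hs in
theorem twist_quotient_of_free (n : ℕ) :
    ∃ (k : ℕ) (p : FlatMod.freeMod (Proj 𝒜) k ⟶ Twist.twist 𝒜 (n : ℤ)), Epi p := by
  let σ : s → Γ(Twist.twist 𝒜 (n : ℤ), ⊤) := fun f ↦
    fracSec 𝒜 n ⊤ (⟨(f : A) ^ n, by simpa using SetLike.pow_mem_graded n (hs1 _ f.2)⟩ : 𝒜 n)
      (⟨1, SetLike.GradedOne.one_mem⟩ : 𝒜 0)
      (fun x h ↦ x.1.isPrime.ne_top ((Ideal.eq_top_iff_one _).mpr h)) (by simp)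
  refine exists_epi_free_of_generatedBy σ (generatedBy_of_cover σ fun x ↦ ?_)
  obtain ⟨f, hf, hfx⟩ := exists_mem_gens 𝒜 s hs x
  refine ⟨⟨f, hf⟩, le_loc (U := Proj.basicOpen 𝒜 f) ?_ hfx⟩
  have h := isFrame_fracSec 𝒜 n (Proj.basicOpen 𝒜 f)
    (⟨f ^ n, by simpa using SetLike.pow_mem_graded n (hs1 _ hf)⟩ : 𝒜 n) (⟨1, SetLike.GradedOne.one_mem⟩ : 𝒜 0)
    (fun y h ↦ y.1.isPrime.ne_top ((Ideal.eq_top_iff_one _).mpr h))
    (fun y h ↦ y.2 (y.1.isPrime.mem_of_pow_mem n h)) (by simp)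
  convert h using 1
  exact tval_ext 𝒜 fun y ↦ rfl

end Groth.Agent.ProjUPLib
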