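import Groth.Agent.ProjUPLib.AmpleTwist
import Groth.Agent.ProjUPLib.ExtendQCoh
import Groth.Agent.ProjUPLib.RelAmpleBC

/-! A relatively ample module twisted by an ample module of the base. -/

set_option autoImplicit false
set_option backward.isDefEq.respectTransparency false
set_option backward.isDefEq.respectTransparency.types false
set_option linter.style.haveILetI false

noncomputable section

universe u

open CategoryTheory Limits AlgebraicGeometry Opposite TopologicalSpace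
open Groth.Agent.QCohBase Groth.Agent.GenLocus

namespace Groth.Agent.ProjUPLib

variable {X Y : Scheme.{u}}

/-- A section of a restriction, seen on the open. -/
theorem exists_section_of_restrict {M : X.Modules} (W : X.Opens)
    (s : Coh.structureModule W.toScheme ⟶ M.restrict W.ι) :
    ∃ τ : Γ(M, W), ∀ (V : W.toScheme.Opens) (h : W.ι ''ᵁ V ≤ W),
      IsFrame M (QCohBase.mres M h τ) ↔ IsFrame (M.restrict W.ι) (sect s V) := by
  have htop : W ≤ W.ι ''ᵁ ⊤ := W.ι_image_top.ge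
  refine ⟨QCohBase.mres M htop ((M.restrictAppIso W.ι ⊤).hom (sect s ⊤)), fun V h ↦ ?_⟩
  have hsect : ∀ (V : W.toScheme.Opens) (h : W.ι ''ᵁ V ≤ W),
      QCohBase.mres M h (QCohBase.mres M htop ((M.restrictAppIso W.ι ⊤).hom (sect s ⊤))) =
        (M.restrictAppIso W.ι V).hom (sect s V) := fun V h ↦ by
    rw [mres_mres, ← mres_sect s (le_top : V ≤ ⊤)]
    rfl
  rw [hsect V h]
  have hsm : ∀ (V' : W.toScheme.Opens) (hV' : V' ≤ V),
      (fun r : Γ(X, W.ι ''ᵁ V') ↦ r • QCohBase.mres M (W.ι.image_mono hV') ((M.restrictAppIso W.ι V).hom (sect s V))) =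
      fun r : Γ(X, W.ι ''ᵁ V') ↦ (M.restrictAppIso W.ι V').hom
        ((show Γ(W.toScheme, V') from r) • QCohBase.mres (M.restrict W.ι) hV' (sect s V)) := fun V' hV' ↦ funext fun r ↦ by
    rw [Scheme.Modules.smul_restrictAppIso_hom_apply, Scheme.Opens.ι_appIso]
    rfl
  constructor
  · intro hf V' hV'
    have := hf (W.ι ''ᵁ V') (W.ι.image_mono hV')
    rw [hsm V' hV'] at this
    exact this
  · intro hf V' hV'
    obtain ⟨V'', rfl⟩ : ∃ V'' : W.toScheme.Opens, W.ι ''ᵁ V'' = V' :=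
      ⟨W.ι ⁻¹ᵁ V', (W.ι.image_preimage_eq_opensRange_inf V').trans
        (by rw [Scheme.Opens.opensRange_ι]; exact inf_eq_right.mpr (hV'.trans h))⟩
    have := hf V'' ((W.ι.image_le_image_iff _ _).mp hV')
    rw [hsm V'' ((W.ι.image_le_image_iff _ _).mp hV')]
    exact this

/-- Cancel a frame from a frame of a tensor product. -/
lemma isFrame_left_of_tmul {M N : X.Modules} (hM : PicF.IsInvertible M) {V : X.Opens} {m : Γ(M, V)}
    {b : Γ(N, V)} (hb : IsFrame N b) (h : IsFrame (CohB1.tensorMod M N) (SecTwist.tmul M N V m b))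
    {x : X} (hx : x ∈ V) : ∃ (V' : X.Opens) (hV' : V' ≤ V), x ∈ V' ∧ IsFrame M (QCohBase.mres M hV' m) := by
  obtain ⟨U, -, hxU, hUV, e, he⟩ := exists_isFrame hM hx
  obtain ⟨c, hc⟩ := he.bijective.2 (QCohBase.mres M hUV m)
  simp only at hc
  refine ⟨U, hUV, hxU, ?_⟩
  rw [← hc]
  refine he.smul_unit ((he.tmul (hb.res hUV)).isUnit_of_smul (f := c) ?_)
  rw [← tmul_smul_left, hc]
  have := h.res hUV
  rwa [show QCohBase.mres (CohB1.tensorMod M N) hUV (SecTwist.tmul M N V m b) = _ from SecTwist.map_tmul M N (homOfLE hUV) m b] at this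

/-- An affine locus inside the locus of `σ` is a locus of a section of a high twist. -/
theorem eventually_exists_loc_eq [CompactSpace X] [QuasiSeparatedSpace X] {M K : X.Modules}
    (hM : PicF.IsInvertible M) (hK : PicF.IsInvertible K) (σ : Γ(K, ⊤))
    (s : Coh.structureModule (loc K σ).toScheme ⟶ M.restrict (loc K σ).ι) :
    ∀ᶠ N in Filter.atTop, ∃ τ : Γ(CohB1.tensorMod (CohB1.tensorMod M (CohB1.tensorPow K N)) K, ⊤),
      loc _ τ = (loc K σ).ι ''ᵁ CohB1.genLocus _ s := by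
  haveI : M.IsQuasicoherent := TensorMod.isQCoh_of_isInvertible hM
  obtain ⟨m, hm⟩ := exists_section_of_restrict (loc K σ) s
  filter_upwards [eventually_extend_qcoh hK σ m] with N ⟨c, hc⟩
  have hMN : PicF.IsInvertible (CohB1.tensorMod M (CohB1.tensorPow K N)) :=
    TensorMod.isInvertible_tensorMod hM (TensorMod.isInvertible_tensorPow hK N)
  refine ⟨SecTwist.tmul _ _ ⊤ c σ, ?_⟩
  rw [loc_tmul hMN hK]
  have hb : IsFrame _ (framePow (QCohBase.mres K (le_top : (loc K σ) ≤ ⊤) σ) N) := (isFrame_loc σ).framePow N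
  have hWU : (loc K σ).ι ''ᵁ CohB1.genLocus _ s ≤ (loc K σ) := ((loc K σ).ι.image_le_opensRange _).trans_eq (loc K σ).opensRange_ι
  refine le_antisymm (fun x hx ↦ ?_) (le_inf (le_loc ?_) hWU)
  · obtain ⟨hxc, hxU⟩ := hx
    have h1 := (isFrame_loc c).res (inf_le_left : loc _ c ⊓ (loc K σ) ≤ loc _ c)
    rw [mres_mres, ← mres_mres _ (le_top : (loc K σ) ≤ ⊤) (inf_le_right : loc _ c ⊓ (loc K σ) ≤ (loc K σ)), hc] at h1
    rw [show QCohBase.mres (CohB1.tensorMod M (CohB1.tensorPow K N)) (inf_le_right : loc _ c ⊓ (loc K σ) ≤ (loc K σ)) (SecTwist.tmul M (CohB1.tensorPow K N) (loc K σ) m _) = _ from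
      SecTwist.map_tmul M (CohB1.tensorPow K N) (homOfLE inf_le_right) m _] at h1
    obtain ⟨V', hV', hxV', hfr⟩ := isFrame_left_of_tmul hM (hb.res inf_le_right) h1 ⟨hxc, hxU⟩
    refine ⟨⟨x, hxU⟩, (mem_genLocus_iff s).mpr ⟨(loc K σ).ι ⁻¹ᵁ V', hxV', ?_⟩, rfl⟩
    have hle : (loc K σ).ι ''ᵁ ((loc K σ).ι ⁻¹ᵁ V') ≤ (loc K σ) := ((loc K σ).ι.image_le_opensRange _).trans_eq (loc K σ).opensRange_ι
    refine (hm _ hle).mp ?_
    have := hfr.res ((loc K σ).ι.image_preimage_le V')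
    erw [mres_mres, mres_mres] at this
    exact this
  · rw [← mres_mres _ (le_top : (loc K σ) ≤ ⊤) hWU, hc]
    rw [show QCohBase.mres (CohB1.tensorMod M (CohB1.tensorPow K N)) hWU (SecTwist.tmul M (CohB1.tensorPow K N) (loc K σ) m _) = _ from
      SecTwist.map_tmul M (CohB1.tensorPow K N) (homOfLE hWU) m _]
    exact ((hm _ hWU).mpr (isFrame_sect_genLocus s)).tmul (hb.res hWU)

/-- `L` relatively ample, `K` ample on the base: `L ⊗ f^*K^n` is ample for large `n`. -/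
theorem eventually_isAmple_twist (f : X ⟶ Y) {L : X.Modules} (hL : RelAmple.IsRelAmple f L)
    (hLi : PicF.IsInvertible L) {K : Y.Modules} (hK : CohB1.IsAmple K) :
    ∀ᶠ n in Filter.atTop,
      CohB1.IsAmple (CohB1.tensorMod L ((Scheme.Modules.pullback f).obj (CohB1.tensorPow K n))) := by
  classical
  haveI := hK.2.1
  haveI := isSeparated_of_isAmple hK
  haveI := hL.1
  haveI : CompactSpace X := QuasiCompact.compactSpace_of_compactSpace f
  haveI : IsSeparated f := by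
    refine IsZariskiLocalAtTarget.of_iSup_eq_top (P := @IsSeparated)
      (fun V : Y.affineOpens ↦ V.1) (iSup_affineOpens_eq_top Y) fun V ↦ ?_
    haveI : (f ⁻¹ᵁ V.1).toScheme.IsSeparated := isSeparated_of_isAmple (hL.2 V)
    infer_instance
  haveI : QuasiSeparatedSpace X := quasiSeparatedSpace_of_quasiSeparated f
  obtain ⟨m, hm, ι, _, c, haff, hcov, -, -⟩ := exists_affine_cover_of_ample (𝟙 Y) hK hK.1
  let K' := (Scheme.Modules.pullback f).obj (CohB1.tensorPow K m)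
  have hK' : PicF.IsInvertible K' := isInvertible_pullback f (TensorMod.isInvertible_tensorPow hK.1 m)
  let σ : ι → Γ(K', ⊤) := fun k ↦ sect (pullHom f (homOfSection _ (c k))) ⊤
  have hσ : ∀ k, loc K' (σ k) = f ⁻¹ᵁ loc _ (c k) := fun k ↦
    (loc_sect _).trans (genLocus_pullHom f (TensorMod.isInvertible_tensorPow hK.1 m) _)
  have hamp : ∀ k, CohB1.IsAmple (L.restrict (loc K' (σ k)).ι) := fun k ↦
    (isAmple_restrict_congr L (hσ k)).2 (hL.2 ⟨_, haff k⟩)
  choose k hk using fun x : X ↦ hcov (f x)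
  have hxk : ∀ x, x ∈ loc K' (σ (k x)) := fun x ↦ (hσ (k x)).ge (hk x)
  choose a s hxs hs using fun x : X ↦ (hamp (k x)).2.2 ⟨x, hxk x⟩
  obtain ⟨t, ht⟩ := CompactSpace.elim_nhds_subcover
    (fun x ↦ ((loc K' (σ (k x))).ι ''ᵁ CohB1.genLocus _ (s x) : Set X))
    (fun x ↦ ((loc K' (σ (k x))).ι ''ᵁ CohB1.genLocus _ (s x)).2.mem_nhds ⟨_, hxs x, rfl⟩)
  let A := m * ∏ x ∈ t, (a x + 1)
  have hA : 0 < A := Nat.mul_pos hm (Finset.prod_pos fun x _ ↦ Nat.succ_pos _)
  choose s' hs' using fun x : t ↦ exists_same_genLocus (hamp (k x.1)).1 hA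
    (Dvd.dvd.mul_left (Finset.dvd_prod_of_mem (fun x ↦ a x + 1) x.2) m) (s x.1)
  obtain ⟨N₀, hN₀⟩ := Filter.eventually_atTop.1 (Filter.eventually_all.2 fun x : t ↦
    eventually_exists_loc_eq (TensorMod.isInvertible_tensorPow hLi A) hK' (σ (k x.1))
      (s' x ≫ (TensorMod.tensorPowCongr ((Scheme.Modules.restrictFunctorIsoPullback _).app L) A ≪≫
        (pullPowIso _ hLi A).symm ≪≫ ((Scheme.Modules.restrictFunctorIsoPullback _).app _).symm).hom))
  refine Filter.eventually_atTop.2 ⟨N₀ + 1, fun n hn ↦ ?_⟩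
  have hT : PicF.IsInvertible (CohB1.tensorMod L ((Scheme.Modules.pullback f).obj (CohB1.tensorPow K n))) :=
    TensorMod.isInvertible_tensorMod hLi (isInvertible_pullback f (TensorMod.isInvertible_tensorPow hK.1 n))
  obtain ⟨q, hq⟩ : ∃ q, A = m * q := ⟨_, rfl⟩
  have hq0 : 0 < q := by rcases Nat.eq_zero_or_pos q with rfl | h <;> simp_all
  obtain ⟨N, hN, hN'⟩ : ∃ N, N₀ ≤ N ∧ n * q = N + 1 := by
    have : n ≤ n * q := Nat.le_mul_of_pos_right n hq0
    exact ⟨n * q - 1, by omega, by omega⟩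
  have hexp : n * A = m * (N + 1) := by rw [hq, ← hN', Nat.mul_left_comm]
  let e : CohB1.tensorMod (CohB1.tensorMod (CohB1.tensorPow L A) (CohB1.tensorPow K' N)) K' ≅
      CohB1.tensorPow (CohB1.tensorMod L ((Scheme.Modules.pullback f).obj (CohB1.tensorPow K n))) A :=
    TensorMod.assocIso (CohB1.tensorPow L A) (CohB1.tensorPow K' N) K' ≪≫ TensorMod.tensorIso (Iso.refl _)
      ((pullPowIso f (TensorMod.isInvertible_tensorPow hK.1 m) (N + 1)).symm ≪≫
        (Scheme.Modules.pullback f).mapIso (TensorMod.tensorPowMulIso K m (N + 1) ≪≫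
          eqToIso (congrArg (CohB1.tensorPow K) hexp.symm) ≪≫ (TensorMod.tensorPowMulIso K n A).symm) ≪≫
        pullPowIso f (TensorMod.isInvertible_tensorPow hK.1 n) A) ≪≫
      (tensorPowTensorIso _ _ A).symm
  refine ⟨hT, inferInstance, fun y ↦ ?_⟩
  have : y ∈ ⋃ i ∈ t, ((loc K' (σ (k i))).ι ''ᵁ CohB1.genLocus _ (s i) : Set X) := by rw [ht]; trivial
  obtain ⟨x, hx, hy⟩ := Set.mem_iUnion₂.mp this
  obtain ⟨τ, hτ⟩ := hN₀ N hN ⟨x, hx⟩
  rw [genLocus_comp_iso, hs' ⟨x, hx⟩] at hτ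
  refine ⟨A - 1, homOfSection _ τ ≫ (e ≪≫ eqToIso (congrArg (CohB1.tensorPow _) (show A = A - 1 + 1 by omega))).hom, ?_⟩
  rw [Groth.Agent.GenLocus.genLocus_comp_iso]
  refine ⟨hτ.ge hy, ?_⟩
  show IsAffineOpen (loc _ τ)
  rw [hτ]
  exact (hs x).image_of_isOpenImmersion _

end Groth.Agent.ProjUPLib
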