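import Groth.Agent.ProjUPLib.TwistAmple
import Groth.Agent.ProjUPLib.ExtendQCoh
import Groth.Agent.QCohBase.CohProps
import Groth.Agent.AssPts.Basic

/-! Global generation of high twists of coherent modules. -/

set_option autoImplicit false
set_option backward.isDefEq.respectTransparency false
set_option backward.isDefEq.respectTransparency.types false

noncomputable section

universe u

open CategoryTheory Limits AlgebraicGeometry Opposite TopologicalSpace
open Groth.Agent.QCohBase Groth.Agent.GenLocus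
open scoped TensorProduct

namespace Groth.Agent.ProjUPLib

variable {X : Scheme.{u}} {M N : X.Modules}

/-- The span in the stalk of the germs of a family of sections. -/
abbrev germSpan (M : X.Modules) {U : X.Opens} (x : X) (hx : x ∈ U) {ι : Type*} (s : ι → Γ(M, U)) :
    Submodule (X.presheaf.stalk x) (M.presheaf.stalk x) :=
  Submodule.span (X.presheaf.stalk x) (Set.range fun i ↦ M.presheaf.germ U x hx (s i))

lemma germ_tmul_res {V W : X.Opens} {x : X} (h : W ≤ V) (hxW : x ∈ W) (a : Γ(M, V)) (b : Γ(N, V)) :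
    (CohB1.tensorMod M N).presheaf.germ W x hxW (SecTwist.tmul M N W (QCohBase.mres M h a) (QCohBase.mres N h b)) =
      (CohB1.tensorMod M N).presheaf.germ V x (h hxW) (SecTwist.tmul M N V a b) :=
  (congrArg ((CohB1.tensorMod M N).presheaf.germ W x hxW) (SecTwist.map_tmul M N (homOfLE h) a b).symm).trans
    (AssPts.germ_mres (CohB1.tensorMod M N) x h hxW _)

/-- Tensor products of spanning families span. -/
theorem germSpan_tmul_eq_top {U : X.Opens} {x : X} (hx : x ∈ U) {ι κ : Type*} (s : ι → Γ(M, U))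
    (t : κ → Γ(N, U)) (hs : germSpan M x hx s = ⊤) (ht : germSpan N x hx t = ⊤) :
    germSpan (CohB1.tensorMod M N) x hx (fun p : ι × κ ↦ SecTwist.tmul M N U (s p.1) (t p.2)) = ⊤ := by
  classical
  let S := germSpan (CohB1.tensorMod M N) x hx (fun p : ι × κ ↦ SecTwist.tmul M N U (s p.1) (t p.2))
  have key : ∀ z ∈ germSpan M x hx s, ∀ w ∈ germSpan N x hx t, ∀ (V : X.Opens) (hxV : x ∈ V) (a : Γ(M, V)) (b : Γ(N, V)),
      M.presheaf.germ V x hxV a = z → N.presheaf.germ V x hxV b = w →
        (CohB1.tensorMod M N).presheaf.germ V x hxV (SecTwist.tmul M N V a b) ∈ S := by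
    intro z hz w hw
    -- shrink to compare representatives
    have bil : ∀ (V : X.Opens) (hxV : x ∈ V) (a : Γ(M, V)) (b : Γ(N, V)) (V' : X.Opens) (hxV' : x ∈ V')
        (a' : Γ(M, V')) (b' : Γ(N, V')), M.presheaf.germ V x hxV a = M.presheaf.germ V' x hxV' a' →
        N.presheaf.germ V x hxV b = N.presheaf.germ V' x hxV' b' →
        (CohB1.tensorMod M N).presheaf.germ V x hxV (SecTwist.tmul M N V a b) =
          (CohB1.tensorMod M N).presheaf.germ V' x hxV' (SecTwist.tmul M N V' a' b') := by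
      intro V hxV a b V' hxV' a' b' ha hb
      obtain ⟨W, hxW, i, j, hW⟩ := TopCat.Presheaf.germ_eq M.presheaf x hxV hxV' a a' ha
      obtain ⟨W', hxW', i', j', hW'⟩ := TopCat.Presheaf.germ_eq N.presheaf x hxV hxV' b b' hb
      have h1 : W ⊓ W' ≤ V := inf_le_left.trans i.le
      have h2 : W ⊓ W' ≤ V' := inf_le_left.trans j.le
      rw [← germ_tmul_res h1 ⟨hxW, hxW'⟩ a b, ← germ_tmul_res h2 ⟨hxW, hxW'⟩ a' b']
      congr 2
      · have := congrArg (QCohBase.mres M (inf_le_left : W ⊓ W' ≤ W)) (show QCohBase.mres M i.le a = QCohBase.mres M j.le a' from hW)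
        simpa only [mres_mres] using this
      · have := congrArg (QCohBase.mres N (inf_le_right : W ⊓ W' ≤ W')) (show QCohBase.mres N i'.le b = QCohBase.mres N j'.le b' from hW')
        simpa only [mres_mres] using this
    induction hz using Submodule.span_induction with
    | mem z hz =>
      obtain ⟨i, rfl⟩ := hz
      induction hw using Submodule.span_induction with
      | mem w hw =>
        obtain ⟨j, rfl⟩ := hw
        intro V hxV a b ha hb
        rw [bil V hxV a b U hx (s i) (t j) ha hb]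
        exact Submodule.subset_span ⟨(i, j), rfl⟩
      | zero =>
        intro V hxV a b ha hb
        rw [bil V hxV a b U hx (s i) 0 ha (by rw [hb, map_zero])]
        have h0 : SecTwist.tmul M N U (s i) (0 : Γ(N, U)) = 0 := (tmulBi M N U (s i)).map_zero
        rw [h0, map_zero]
        exact S.zero_mem
      | add w₁ w₂ _ _ h₁ h₂ =>
        intro V hxV a b ha hb
        obtain ⟨V₁, hx₁, b₁, rfl⟩ := N.presheaf.exists_germ_eq w₁
        obtain ⟨V₂, hx₂, b₂, rfl⟩ := N.presheaf.exists_germ_eq w₂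
        let W := V ⊓ (V₁ ⊓ V₂)
        have hxW : x ∈ W := ⟨hxV, hx₁, hx₂⟩
        have e1 : W ≤ V₁ := inf_le_right.trans inf_le_left
        have e2 : W ≤ V₂ := inf_le_right.trans inf_le_right
        rw [bil V hxV a b W hxW (QCohBase.mres M inf_le_left a) (QCohBase.mres N e1 b₁ + QCohBase.mres N e2 b₂)
          (by rw [AssPts.germ_mres]) (by rw [hb, map_add, AssPts.germ_mres, AssPts.germ_mres])]
        have hadd : SecTwist.tmul M N W (QCohBase.mres M (inf_le_left : W ≤ V) a) (QCohBase.mres N e1 b₁ + QCohBase.mres N e2 b₂) =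
            SecTwist.tmul M N W (QCohBase.mres M inf_le_left a) (QCohBase.mres N e1 b₁) +
              SecTwist.tmul M N W (QCohBase.mres M inf_le_left a) (QCohBase.mres N e2 b₂) :=
          (tmulBi M N W _).map_add _ _
        rw [hadd, map_add]
        exact S.add_mem (h₁ W hxW _ _ (by rw [AssPts.germ_mres, ha]) (by rw [AssPts.germ_mres]))
          (h₂ W hxW _ _ (by rw [AssPts.germ_mres, ha]) (by rw [AssPts.germ_mres]))
      | smul c w _ h₁ =>
        intro V hxV a b ha hb
        obtain ⟨V₁, hx₁, b₁, rfl⟩ := N.presheaf.exists_germ_eq w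
        obtain ⟨V₂, hx₂, r, rfl⟩ := X.presheaf.exists_germ_eq c
        let W := V ⊓ (V₁ ⊓ V₂)
        have hxW : x ∈ W := ⟨hxV, hx₁, hx₂⟩
        have e1 : W ≤ V₁ := inf_le_right.trans inf_le_left
        have e2 : W ≤ V₂ := inf_le_right.trans inf_le_right
        have hr : X.presheaf.germ W x hxW (ores e2 r) = X.presheaf.germ V₂ x hx₂ r :=
          TopCat.Presheaf.germ_res_apply X.presheaf (homOfLE e2) x hxW r
        rw [bil V hxV a b W hxW (QCohBase.mres M inf_le_left a) (ores e2 r • QCohBase.mres N e1 b₁)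
          (by rw [AssPts.germ_mres]) (by rw [hb, AssPts.germ_smul', hr, AssPts.germ_mres]),
          tmul_smul_right, AssPts.germ_smul', hr]
        exact S.smul_mem _ (h₁ W hxW _ _ (by rw [AssPts.germ_mres, ha]) (by rw [AssPts.germ_mres]))
    | zero =>
      intro V hxV a b ha hb
      rw [bil V hxV a b V hxV 0 b (by rw [ha, map_zero]) rfl]
      have h0 : SecTwist.tmul M N V (0 : Γ(M, V)) b = 0 := ((tmulBi M N V).flip b).map_zero
      rw [h0, map_zero]
      exact S.zero_mem
    | add z₁ z₂ _ _ h₁ h₂ =>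
      intro V hxV a b ha hb
      obtain ⟨V₁, hx₁, a₁, rfl⟩ := M.presheaf.exists_germ_eq z₁
      obtain ⟨V₂, hx₂, a₂, rfl⟩ := M.presheaf.exists_germ_eq z₂
      let W := V ⊓ (V₁ ⊓ V₂)
      have hxW : x ∈ W := ⟨hxV, hx₁, hx₂⟩
      have e1 : W ≤ V₁ := inf_le_right.trans inf_le_left
      have e2 : W ≤ V₂ := inf_le_right.trans inf_le_right
      rw [bil V hxV a b W hxW (QCohBase.mres M e1 a₁ + QCohBase.mres M e2 a₂) (QCohBase.mres N inf_le_left b)
        (by rw [ha, map_add, AssPts.germ_mres, AssPts.germ_mres]) (by rw [AssPts.germ_mres])]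
      have hadd : SecTwist.tmul M N W (QCohBase.mres M e1 a₁ + QCohBase.mres M e2 a₂) (QCohBase.mres N (inf_le_left : W ≤ V) b) =
          SecTwist.tmul M N W (QCohBase.mres M e1 a₁) (QCohBase.mres N inf_le_left b) +
            SecTwist.tmul M N W (QCohBase.mres M e2 a₂) (QCohBase.mres N inf_le_left b) :=
        ((tmulBi M N W).flip _).map_add _ _
      rw [hadd, map_add]
      exact S.add_mem (h₁ W hxW _ _ (by rw [AssPts.germ_mres]) (by rw [AssPts.germ_mres, hb]))
        (h₂ W hxW _ _ (by rw [AssPts.germ_mres]) (by rw [AssPts.germ_mres, hb]))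
    | smul c z _ h₁ =>
      intro V hxV a b ha hb
      obtain ⟨V₁, hx₁, a₁, rfl⟩ := M.presheaf.exists_germ_eq z
      obtain ⟨V₂, hx₂, r, rfl⟩ := X.presheaf.exists_germ_eq c
      let W := V ⊓ (V₁ ⊓ V₂)
      have hxW : x ∈ W := ⟨hxV, hx₁, hx₂⟩
      have e1 : W ≤ V₁ := inf_le_right.trans inf_le_left
      have e2 : W ≤ V₂ := inf_le_right.trans inf_le_right
      have hr : X.presheaf.germ W x hxW (ores e2 r) = X.presheaf.germ V₂ x hx₂ r :=
        TopCat.Presheaf.germ_res_apply X.presheaf (homOfLE e2) x hxW r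
      rw [bil V hxV a b W hxW (ores e2 r • QCohBase.mres M e1 a₁) (QCohBase.mres N inf_le_left b)
        (by rw [ha, AssPts.germ_smul', hr, AssPts.germ_mres]) (by rw [AssPts.germ_mres]),
        tmul_smul_left, AssPts.germ_smul', hr]
      exact S.smul_mem _ (h₁ W hxW _ _ (by rw [AssPts.germ_mres]) (by rw [AssPts.germ_mres, hb]))
  refine eq_top_iff.mpr fun z _ ↦ ?_
  obtain ⟨V, hxV, σ, rfl⟩ := (CohB1.tensorMod M N).presheaf.exists_germ_eq z
  obtain ⟨W, hW, y, hxW, hy⟩ := locallySurjective_toT (M := M) (N := N) σ hxV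
  rw [← AssPts.germ_mres (CohB1.tensorMod M N) x hW hxW σ, ← hy]
  clear hy
  induction y using TensorProduct.induction_on with
  | zero =>
    have h0 : toT M N W 0 = 0 := map_zero ((SecTwist.toTensor M N).app (op W)).hom
    erw [h0, map_zero]
    exact S.zero_mem
  | tmul a b => exact key _ (hs ▸ trivial) _ (ht ▸ trivial) W hxW a b rfl rfl
  | add p q hp hq =>
    have h0 : toT M N W (p + q) = toT M N W p + toT M N W q := map_add ((SecTwist.toTensor M N).app (op W)).hom p q
    erw [h0, map_add]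
    exact S.add_mem hp hq

/-- Generators of the sections on an affine open generate the stalks. -/
theorem germSpan_eq_top_of_generators [M.IsQuasicoherent] {U : X.Opens} (hU : IsAffineOpen U) {x : X}
    (hx : x ∈ U) {ι : Type*} (m : ι → Γ(M, U)) (hm : Submodule.span Γ(X, U) (Set.range m) = ⊤) :
    germSpan M x hx m = ⊤ := by
  refine eq_top_iff.mpr fun z _ ↦ ?_
  obtain ⟨g, s, hg, hs⟩ := AssPts.exists_germ_smul_eq M hU x hx z
  have hu := (AssPts.notMem_prime_iff hU x hx g).mp hg
  have hmem : M.presheaf.germ U x hx s ∈ germSpan M x hx m := by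
    have : s ∈ Submodule.span Γ(X, U) (Set.range m) := hm ▸ trivial
    clear hs
    induction this using Submodule.span_induction with
    | mem y hy => obtain ⟨i, rfl⟩ := hy; exact Submodule.subset_span ⟨i, rfl⟩
    | zero => rw [map_zero]; exact Submodule.zero_mem _
    | add a b _ _ ha hb => rw [map_add]; exact Submodule.add_mem _ ha hb
    | smul r y _ hy => rw [AssPts.germ_smul']; exact Submodule.smul_mem _ _ hy
  rw [← hs] at hmem
  exact (Submodule.smul_mem_iff_of_isUnit _ hu).mp hmem

/-- High twists of a coherent module by an ample one are globally generated. -/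
theorem eventually_isGloballyGenerated {L F : X.Modules} (hL : CohB1.IsAmple L) (hF : Coh.IsCoh F) :
    ∀ᶠ n in Filter.atTop, Curv2.IsGloballyGenerated (CohB1.tensorMod F (CohB1.tensorPow L n)) := by
  classical
  haveI := hL.2.1
  haveI := isSeparated_of_isAmple hL
  haveI : F.IsQuasicoherent := hF.1
  obtain ⟨d, hd, ι, _, c, haff, hcov, -, -⟩ := exists_affine_cover_of_ample (𝟙 X) hL (PicLoc.isInvertible_structureModule X)
  choose G hG using fun k ↦ (isFiniteType_toFinite hF (haff k)).fg_top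
  let κ := Σ k, G k
  obtain ⟨N₀, hN₀⟩ := Filter.eventually_atTop.1 (Filter.eventually_all.2 fun j : κ ↦
    eventually_extend_qcoh (TensorMod.isInvertible_tensorPow hL.1 d) (c j.1) (j.2.1 : Γ(F, loc _ (c j.1))))
  obtain ⟨m₀, hm₀⟩ := Filter.eventually_atTop.1 (eventually_good (𝟙 X) hL (PicLoc.isInvertible_structureModule X))
  refine Filter.eventually_atTop.2 ⟨m₀ + d * N₀, fun n hn ↦ ?_⟩
  have h1 : N₀ ≤ (n - m₀) / d := (Nat.le_div_iff_mul_le hd).2 (by rw [mul_comm]; omega)
  generalize hN : (n - m₀) / d = N at h1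
  have h2 : n = d * N + (m₀ + (n - m₀) % d) := by
    have := Nat.div_add_mod (n - m₀) d; rw [hN] at this; omega
  generalize hm : m₀ + (n - m₀) % d = m at h2
  obtain ⟨Q, hQ, φ, μ, _, t, ht⟩ := hm₀ m (by omega)
  choose e he using hN₀ N h1
  let P := CohB1.tensorMod F (CohB1.tensorPow (CohB1.tensorPow L d) N)
  have hgen : ProjUP.GeneratedBy (CohB1.tensorMod P Q) (fun p : κ × μ ↦ SecTwist.tmul P Q ⊤ (e p.1) (t p.2)) := by
    intro x
    refine germSpan_tmul_eq_top (U := ⊤) (x := x) trivial e t ?_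
      (generatedBy_of_cover t (fun y ↦ let ⟨j, hj, _⟩ := ht y; ⟨j, hj⟩) x)
    obtain ⟨k, hk⟩ := hcov x
    let b := framePow (QCohBase.mres _ (le_top : loc _ (c k) ≤ ⊤) (c k)) N
    have hb : IsFrame _ b := (isFrame_loc (c k)).framePow N
    have hbspan : germSpan _ x hk (fun _ : Unit ↦ b) = ⊤ := by
      refine eq_top_iff.mpr fun z _ ↦ ?_
      obtain ⟨V, hxV, w, rfl⟩ := TopCat.Presheaf.exists_germ_eq (CohB1.tensorPow (CohB1.tensorPow L d) N).presheaf z
      obtain ⟨r, hr⟩ := (hb (loc _ (c k) ⊓ V) inf_le_left).2 (QCohBase.mres _ inf_le_right w)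
      rw [← AssPts.germ_mres _ x (inf_le_right : loc _ (c k) ⊓ V ≤ V) ⟨hk, hxV⟩ w, ← hr, AssPts.germ_smul', AssPts.germ_mres]
      exact Submodule.smul_mem _ _ (Submodule.subset_span ⟨(), rfl⟩)
    have hgens := germSpan_tmul_eq_top hk (fun g : G k ↦ (g.1 : Γ(F, loc _ (c k)))) (fun _ : Unit ↦ b)
      (germSpan_eq_top_of_generators (haff k) hk _ (by rw [Subtype.range_coe_subtype, Finset.setOfPred_mem]; exact hG k))
      hbspan
    refine top_le_iff.mp (hgens.ge.trans (Submodule.span_le.mpr ?_))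
    rintro _ ⟨p, rfl⟩
    refine Submodule.subset_span ⟨⟨k, p.1⟩, ?_⟩
    refine (AssPts.germ_mres P x (le_top : loc _ (c k) ≤ ⊤) hk _).symm.trans ?_
    exact congrArg _ (he ⟨k, p.1⟩)
  refine isGloballyGenerated_of_iso ?_ (isGloballyGenerated_of_generatedBy _ hgen)
  rw [h2]
  exact TensorMod.tensorIso (TensorMod.tensorIso (Iso.refl _) (TensorMod.tensorPowMulIso L d N))
      (φ ≪≫ TensorMod.unitRightIso _) ≪≫ TensorMod.assocIso _ _ _ ≪≫
    TensorMod.tensorIso (Iso.refl _) (TensorMod.tensorPowAddIso L (d * N) m).symm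

end Groth.Agent.ProjUPLib
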