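import Groth.Agent.ProjUPLib.AmpleTwist
import Groth.Agent.ProjUPLib.GlobGen

/-! Consequences of good sections. -/

set_option autoImplicit false
set_option backward.isDefEq.respectTransparency false
set_option backward.isDefEq.respectTransparency.types false

noncomputable section

universe u

open CategoryTheory Limits AlgebraicGeometry Opposite TopologicalSpace
open Groth.Agent.QCohBase Groth.Agent.GenLocus

namespace Groth.Agent.ProjUPLib

variable {X S : Scheme.{u}} {q : X ⟶ S} {P : X.Modules}

theorem isGloballyGenerated_of_iso {M M' : X.Modules} (e : M ≅ M') (h : Curv2.IsGloballyGenerated M) :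
    Curv2.IsGloballyGenerated M' := by
  obtain ⟨ι, p, hp⟩ := h
  haveI := hp
  exact ⟨ι, p ≫ e.hom, epi_comp _ _⟩

theorem HasGoodSections.isGloballyGenerated (h : HasGoodSections q P) : Curv2.IsGloballyGenerated P := by
  obtain ⟨Q, hQ, φ, κ, _, t, ht⟩ := h
  exact isGloballyGenerated_of_iso φ (isGloballyGenerated_of_generatedBy t
    (generatedBy_of_cover t fun x ↦ let ⟨j, hj, _⟩ := ht x; ⟨j, hj⟩))

theorem HasGoodSections.isAmple [CompactSpace X] (h : HasGoodSections q P) : CohB1.IsAmple P := by
  obtain ⟨Q, hQ, φ, κ, _, t, ht⟩ := h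
  refine isAmple_of_iso φ ⟨hQ, inferInstance, fun x ↦ ?_⟩
  obtain ⟨j, hj, V, -, -, haff, -⟩ := ht x
  refine ⟨0, homOfSection Q (t j) ≫ (TensorMod.tensorPowOneIso Q).symm.hom, ?_⟩
  rw [Groth.Agent.GenLocus.genLocus_comp_iso]
  exact ⟨hj, haff⟩

end Groth.Agent.ProjUPLib
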