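import Groth.Agent.GrTildeLib.Twist
import Groth.Agent.ProjUPLib.SpanGerms
import Groth.Agent.ProjUPLib.QProjAmple
import Groth.Agent.EGA2G.Graded
import Mathlib.AlgebraicGeometry.ProjectiveSpectrum.Proper

/-! `O(N)` on Proj of a finitely generated graded algebra, covered in degree `N`. -/

set_option autoImplicit false
set_option backward.isDefEq.respectTransparency false
set_option backward.isDefEq.respectTransparency.types false
set_option linter.style.haveILetI false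
set_option linter.unusedSectionVars false

noncomputable section

universe u

open CategoryTheory Limits AlgebraicGeometry Opposite TopologicalSpace HomogeneousLocalization
open Groth.Agent.QCohBase Groth.Agent.GenLocus Groth.Agent.GrTildeLib

namespace Groth.Agent.ProjUPLib

variable {R A : Type u} [CommRing R] [CommRing A] [Algebra R A] (𝒜 : ℕ → Submodule R A) [GradedAlgebra 𝒜]

section Generators

variable {ι : Type*} [Fintype ι] {f : ι → A} {deg : ι → ℕ} (hdeg : ∀ i, 0 < deg i) (hf : ∀ i, f i ∈ 𝒜 (deg i))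
  (hgen : Algebra.adjoin R (Set.range f) = ⊤)

include hf hgen in
/-- Homogeneous elements are combinations over `R` of monomials of their degree. -/
theorem mem_span_monomials_base {k : ℕ} {y : A} (hy : y ∈ 𝒜 k) :
    y ∈ Submodule.span R {m : A | ∃ a : ι → ℕ, ∑ i, a i * deg i = k ∧ m = ∏ i, f i ^ a i} := by
  classical
  have hy' : y ∈ Subalgebra.toSubmodule (Algebra.adjoin R (Set.range f)) := by rw [hgen]; trivial
  rw [Algebra.adjoin_eq_span] at hy'
  suffices key : ∀ z ∈ Submodule.span R (Submonoid.closure (Set.range f) : Set A),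
      (DirectSum.decompose 𝒜 z k : A) ∈
        Submodule.span R {m : A | ∃ a : ι → ℕ, ∑ i, a i * deg i = k ∧ m = ∏ i, f i ^ a i} by
    have := key y hy'
    rwa [DirectSum.decompose_of_mem_same 𝒜 hy] at this
  intro z hz
  induction hz using Submodule.span_induction with
  | mem m hm =>
    have hm' : ∃ a : ι → ℕ, m = ∏ i, f i ^ a i := by
      induction hm using Submonoid.closure_induction with
      | mem z hz =>
        obtain ⟨j, rfl⟩ := hz
        exact ⟨Pi.single j 1, by simp [Pi.single_apply, pow_ite, Finset.prod_ite_eq']⟩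
      | one => exact ⟨0, by simp⟩
      | mul p q _ _ hp hq =>
        obtain ⟨a, rfl⟩ := hp
        obtain ⟨b, rfl⟩ := hq
        exact ⟨a + b, by simp [pow_add, Finset.prod_mul_distrib]⟩
    obtain ⟨a, rfl⟩ := hm'
    have hmem : ∏ i, f i ^ a i ∈ 𝒜 (∑ i, a i * deg i) := by
      refine SetLike.prod_mem_graded _ _ _ fun i _ => ?_
      simpa using SetLike.pow_mem_graded (a i) (hf i)
    rw [EGA2G.decompose_coe_of_mem 𝒜 hmem]
    split_ifs with hk
    · exact Submodule.subset_span ⟨a, hk, rfl⟩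
    · exact zero_mem _
  | zero => simp
  | add b c _ _ hb hc =>
    rw [DirectSum.decompose_add, DirectSum.add_apply, Submodule.coe_add]
    exact add_mem hb hc
  | smul c z _ hz =>
    rw [DirectSum.decompose_smul, DFinsupp.smul_apply, Submodule.coe_smul]
    exact Submodule.smul_mem _ c hz

include hdeg hf hgen in
theorem algebraMap_zero_surjective : Function.Surjective (algebraMap R (𝒜 0)) := fun c ↦ by
  have h := mem_span_monomials_base 𝒜 hf hgen c.2
  have : (c : A) ∈ Submodule.span R ({1} : Set A) := by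
    refine Submodule.span_mono ?_ h
    rintro _ ⟨a, ha, rfl⟩
    refine Finset.prod_eq_one fun i _ ↦ ?_
    have : a i * deg i = 0 := Finset.sum_eq_zero_iff.mp ha i (Finset.mem_univ i)
    rw [(Nat.mul_eq_zero.mp this).resolve_right (hdeg i).ne', pow_zero]
  obtain ⟨r, hr⟩ := Submodule.mem_span_singleton.mp this
  exact ⟨r, Subtype.ext ((Algebra.algebraMap_eq_smul_one r).trans hr)⟩

include hdeg hf hgen in
theorem exists_mem_generators (x : ProjectiveSpectrum 𝒜) : ∃ i, f i ∉ x.asHomogeneousIdeal := by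
  by_contra hne
  push Not at hne
  refine x.not_irrelevant_le ?_
  intro b hb
  refine (Ideal.span_le.mpr (Set.range_subset_iff.mpr hne))
    (EGA2G.irrelevant_le_span_of_adjoin_eq_top 𝒜 _ (by rintro _ ⟨i, rfl⟩; exact ⟨_, hdeg i, hf i⟩) ?_ hb)
  refine eq_top_iff.mpr fun z _ ↦ ?_
  have hz : z ∈ Algebra.adjoin R (Set.range f) := hgen ▸ trivial
  induction hz using Algebra.adjoin_induction with
  | mem z hz => exact Algebra.subset_adjoin hz
  | algebraMap c => exact Subalgebra.algebraMap_mem _ (algebraMap R (𝒜 0) c)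
  | add a b _ _ ha hb => exact add_mem (ha trivial) (hb trivial)
  | mul a b _ _ ha hb => exact mul_mem (ha trivial) (hb trivial)

include hdeg hf hgen in
theorem isProper_structure :
    IsProper (Proj.toSpecZero 𝒜 ≫ Spec.map (CommRingCat.ofHom (algebraMap R (𝒜 0)))) := by
  classical
  haveI : Algebra.FiniteType (𝒜 0) A := by
    refine ⟨⟨Finset.univ.image f, eq_top_iff.mpr fun z _ ↦ ?_⟩⟩
    have hz : z ∈ Algebra.adjoin R (Set.range f) := hgen ▸ trivial
    rw [Finset.coe_image, Finset.coe_univ, Set.image_univ]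
    induction hz using Algebra.adjoin_induction with
    | mem z hz => exact Algebra.subset_adjoin hz
    | algebraMap c => exact Subalgebra.algebraMap_mem _ (algebraMap R (𝒜 0) c)
    | add a b _ _ ha hb => exact add_mem (ha trivial) (hb trivial)
    | mul a b _ _ ha hb => exact mul_mem (ha trivial) (hb trivial)
  haveI : IsClosedImmersion (Spec.map (CommRingCat.ofHom (algebraMap R (𝒜 0)))) :=
    IsClosedImmersion.spec_of_surjective _ (algebraMap_zero_surjective 𝒜 hdeg hf hgen)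
  infer_instance

end Generators

/-- The global section `b / 1` of `O(N)`. -/
abbrev gsec {N : ℕ} (b : 𝒜 N) : Γ(Twist.twist 𝒜 (N : ℤ), ⊤) := Twist.globalOf 𝒜 b

lemma isFrame_gsec {N : ℕ} (b : 𝒜 N) :
    IsFrame (Twist.twist 𝒜 (N : ℤ)) (QCohBase.mres _ (le_top : Proj.basicOpen 𝒜 b.1 ≤ ⊤) (gsec 𝒜 b)) := by
  have h := isFrame_fracSec 𝒜 N (Proj.basicOpen 𝒜 b.1) b (⟨1, SetLike.GradedOne.one_mem⟩ : 𝒜 0)
    (fun y h ↦ y.1.isPrime.ne_top ((Ideal.eq_top_iff_one _).mpr h)) (fun y ↦ y.2) (by simp)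
  convert h using 1
  exact tval_ext 𝒜 fun y ↦ rfl

lemma tval_gsec {N : ℕ} (b : 𝒜 N) {U : (Proj 𝒜).Opens} (h : U ≤ ⊤) (x : U) :
    tval 𝒜 (QCohBase.mres _ h (gsec 𝒜 b)) x =
      (Localization.mk b.1 ⟨1, fun h => x.1.isPrime.ne_top ((Ideal.eq_top_iff_one _).mpr h)⟩ : Twist.Loc 𝒜 x.1) := rfl

lemma awayToSection_smul_gsec {d : ℕ} {g : A} (hg : g ∈ 𝒜 d) {N : ℕ} (k : ℕ) (a : A) (ha : a ∈ 𝒜 (k • d))
    (b b' : 𝒜 N) (h : a * b.1 = g ^ k * b'.1) :
    (Proj.awayToSection 𝒜 g).hom (Away.mk 𝒜 hg k a ha) •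
      QCohBase.mres (Twist.twist 𝒜 (N : ℤ)) (le_top : Proj.basicOpen 𝒜 g ≤ ⊤) (gsec 𝒜 b) =
      QCohBase.mres (Twist.twist 𝒜 (N : ℤ)) le_top (gsec 𝒜 b') := by
  refine tval_ext 𝒜 fun x ↦ ?_
  rw [tval_smul, tval_gsec, tval_gsec]
  erw [val_awayToSection]
  rw [Localization.mk_mul, Localization.mk_eq_mk_iff, Localization.r_iff_exists]
  exact ⟨1, by simp [h]⟩

variable {N : ℕ} (hN : 0 < N) (hcov : ∀ x : ProjectiveSpectrum 𝒜, ∃ g : 𝒜 N, g.1 ∉ x.asHomogeneousIdeal)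

include hcov in
theorem isInvertible_twist_of_cover : PicF.IsInvertible (Twist.twist 𝒜 (N : ℤ)) :=
  isInvertible_of_local_frames fun x ↦ by
    obtain ⟨g, hg⟩ := hcov x
    exact ⟨_, hg, _, isFrame_gsec 𝒜 g⟩

include hN hcov in
theorem loc_gsec (b : 𝒜 N) : loc (Twist.twist 𝒜 (N : ℤ)) (gsec 𝒜 b) = Proj.basicOpen 𝒜 b.1 := by
  refine le_antisymm (fun x hx ↦ ?_) (le_loc (isFrame_gsec 𝒜 b))
  obtain ⟨g, hg⟩ := hcov x
  have hb : b.1 ∈ 𝒜 (1 • N) := by rw [one_smul]; exact b.2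
  have h := genLocus_inf_eq_basicOpen (homOfSection (Twist.twist 𝒜 (N : ℤ)) (gsec 𝒜 b)) (isFrame_gsec 𝒜 g)
    (f := (Proj.awayToSection 𝒜 g.1).hom (Away.mk 𝒜 g.2 1 b.1 hb))
    ((awayToSection_smul_gsec 𝒜 g.2 1 b.1 hb g b (by ring)).trans (sect_homOfSection _ _ _).symm)
  rw [basicOpen_awayToSection 𝒜 hN g.2 one_pos hb] at h
  exact (h.le ⟨hx, hg⟩).2

include hcov in
theorem generatedBy_gsec : ProjUP.GeneratedBy (Twist.twist 𝒜 (N : ℤ)) (fun b : 𝒜 N ↦ gsec 𝒜 b) :=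
  generatedBy_of_cover _ fun x ↦ by
    obtain ⟨g, hg⟩ := hcov x
    exact ⟨g, le_loc (isFrame_gsec 𝒜 g) hg⟩

include hN hcov in
theorem isAmple_twist_of_cover [CompactSpace (Proj 𝒜)] : CohB1.IsAmple (Twist.twist 𝒜 (N : ℤ)) := by
  refine ⟨isInvertible_twist_of_cover 𝒜 hcov, inferInstance, fun x ↦ ?_⟩
  obtain ⟨g, hg⟩ := hcov x
  refine ⟨0, homOfSection (Twist.twist 𝒜 (N : ℤ)) (gsec 𝒜 g) ≫ (TensorMod.tensorPowOneIso _).symm.hom, ?_⟩
  rw [genLocus_comp_iso]
  have h : CohB1.genLocus _ (homOfSection (Twist.twist 𝒜 (N : ℤ)) (gsec 𝒜 g)) = Proj.basicOpen 𝒜 g.1 :=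
    loc_gsec 𝒜 hN hcov g
  rw [h]
  exact ⟨hg, Proj.isAffineOpen_basicOpen 𝒜 g.1 g.2 hN⟩

include hN in
theorem compactSpace_of_finite {κ : Type*} [Finite κ] (g : κ → 𝒜 N)
    (h : ∀ x : ProjectiveSpectrum 𝒜, ∃ k, (g k).1 ∉ x.asHomogeneousIdeal) : CompactSpace (Proj 𝒜) := by
  refine ⟨?_⟩
  have : (Set.univ : Set (Proj 𝒜)) = ⋃ k, (Proj.basicOpen 𝒜 (g k).1 : Set (Proj 𝒜)) := by
    refine (Set.eq_univ_of_forall fun x ↦ ?_).symm
    obtain ⟨k, hk⟩ := h x
    exact Set.mem_iUnion.mpr ⟨k, hk⟩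
  rw [this]
  exact isCompact_iUnion fun k ↦ (Proj.isAffineOpen_basicOpen 𝒜 _ (g k).2 hN).isCompact

lemma structure_appLE {d : ℕ} (hd : 0 < d) {g : A} (hg : g ∈ 𝒜 d)
    (e : Proj.basicOpen 𝒜 g ≤ (Proj.toSpecZero 𝒜 ≫ Spec.map (CommRingCat.ofHom (algebraMap R (𝒜 0)))) ⁻¹ᵁ ⊤)
    (r : R) :
    ((Proj.toSpecZero 𝒜 ≫ Spec.map (CommRingCat.ofHom (algebraMap R (𝒜 0)))).appLE ⊤ (Proj.basicOpen 𝒜 g) e).hom
      ((Scheme.ΓSpecIso (CommRingCat.of R)).inv r) =
      (Proj.awayToSection 𝒜 g).hom (fromZeroRingHom 𝒜 (Submonoid.powers g) (algebraMap R (𝒜 0) r)) := by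
  haveI : IsIso (Proj.awayToSection 𝒜 g) := (Proj.basicOpenIsoAway 𝒜 g hg hd).isIso_hom
  have hR : (⊤ : (Spec (CommRingCat.of (Away 𝒜 g))).Opens) ≤
      Proj.awayι 𝒜 g hg hd ⁻¹ᵁ Proj.basicOpen 𝒜 g := fun z _ ↦
    (Proj.opensRange_awayι 𝒜 g hg hd).le ⟨z, rfl⟩
  have h0 := awayToSection_awayι_appLE 𝒜 hg hd hR
  haveI : IsIso ((Proj.awayι 𝒜 g hg hd).appLE (Proj.basicOpen 𝒜 g) ⊤ hR) := by
    rw [← IsIso.eq_inv_comp] at h0; rw [h0]; infer_instance
  refine ((ConcreteCategory.isIso_iff_bijective ((Proj.awayι 𝒜 g hg hd).appLE (Proj.basicOpen 𝒜 g) ⊤ hR)).mp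
    inferInstance).1 ?_
  refine Eq.trans ?_ (congr(($h0).hom (fromZeroRingHom 𝒜 (Submonoid.powers g) (algebraMap R (𝒜 0) r)))).symm
  have h1 := Scheme.Hom.appLE_comp_appLE (Proj.awayι 𝒜 g hg hd)
    (Proj.toSpecZero 𝒜 ≫ Spec.map (CommRingCat.ofHom (algebraMap R (𝒜 0)))) ⊤ (Proj.basicOpen 𝒜 g) ⊤ e hR
  refine (congr(($h1).hom ((Scheme.ΓSpecIso (CommRingCat.of R)).inv r))).trans ?_
  have h2 : Proj.awayι 𝒜 g hg hd ≫ (Proj.toSpecZero 𝒜 ≫ Spec.map (CommRingCat.ofHom (algebraMap R (𝒜 0)))) =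
      Spec.map (CommRingCat.ofHom ((fromZeroRingHom 𝒜 (Submonoid.powers g)).comp (algebraMap R (𝒜 0)))) := by
    rw [← Category.assoc, Proj.awayι_toSpecZero, ← Spec.map_comp]
    rfl
  have h3 : ∀ (φ : Spec (CommRingCat.of (Away 𝒜 g)) ⟶ Spec (CommRingCat.of R))
      (e' : (⊤ : (Spec (CommRingCat.of (Away 𝒜 g))).Opens) ≤ φ ⁻¹ᵁ ⊤),
      φ = Spec.map (CommRingCat.ofHom ((fromZeroRingHom 𝒜 (Submonoid.powers g)).comp (algebraMap R (𝒜 0)))) →
      (φ.appLE ⊤ ⊤ e').hom ((Scheme.ΓSpecIso (CommRingCat.of R)).inv r) =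
        (Scheme.ΓSpecIso (CommRingCat.of (Away 𝒜 g))).inv
          (fromZeroRingHom 𝒜 (Submonoid.powers g) (algebraMap R (𝒜 0) r)) := by
    rintro φ e' rfl
    let φ := Spec.map (CommRingCat.ofHom ((fromZeroRingHom 𝒜 (Submonoid.powers g)).comp (algebraMap R (𝒜 0))))
    have h4 : φ.appLE ⊤ ⊤ e' = φ.appTop := φ.appLE_eq_app
    refine (congr(($h4).hom ((Scheme.ΓSpecIso (CommRingCat.of R)).inv r))).trans ?_
    exact (congr($(Scheme.ΓSpecIso_inv_naturality (CommRingCat.ofHom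
      ((fromZeroRingHom 𝒜 (Submonoid.powers g)).comp (algebraMap R (𝒜 0))))).hom r)).symm
  exact h3 _ _ h2

variable {κ : Type u} [Fintype κ] (c : κ → 𝒜 N)

include hN hcov in
/-- The ring of `D₊(c k)` is generated by the ratios, when enough products of the `c j` are available. -/
theorem genSec_gsec (k : κ) (H : ∀ (m : ℕ) (a : A), a ∈ 𝒜 (m • N) →
      ∃ l, (c k).1 ^ l * a ∈ Submodule.span R (Set.range fun j ↦ (c j).1) ^ (l + m)) :
    GenSec (Proj.toSpecZero 𝒜 ≫ Spec.map (CommRingCat.ofHom (algebraMap R (𝒜 0)))) ⊤ (Twist.twist 𝒜 (N : ℤ))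
      (fun j ↦ gsec 𝒜 (c j)) (gsec 𝒜 (c k)) := by
  set q := Proj.toSpecZero 𝒜 ≫ Spec.map (CommRingCat.ofHom (algebraMap R (𝒜 0))) with hq
  have hloc := loc_gsec 𝒜 hN hcov (c k)
  refine ⟨le_top, hloc ▸ Proj.isAffineOpen_basicOpen 𝒜 _ (c k).2 hN, ?_⟩
  suffices key : ∀ (D : (Proj 𝒜).Opens) (h : D ≤ q ⁻¹ᵁ ⊤), D = Proj.basicOpen 𝒜 (c k).1 →
      Subring.closure ((Set.range fun r : Γ(Spec (CommRingCat.of R), ⊤) ↦ (q.appLE ⊤ D h).hom r) ∪
        {v | ∃ j, v • QCohBase.mres (Twist.twist 𝒜 (N : ℤ)) (le_top : D ≤ ⊤) (gsec 𝒜 (c k)) =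
          QCohBase.mres (Twist.twist 𝒜 (N : ℤ)) le_top (gsec 𝒜 (c j))}) = ⊤ from key _ le_top hloc
  rintro D hD rfl
  refine eq_top_iff.mpr fun v _ ↦ ?_
  haveI : IsIso (Proj.awayToSection 𝒜 (c k).1) := (Proj.basicOpenIsoAway 𝒜 _ (c k).2 hN).isIso_hom
  obtain ⟨w, rfl⟩ := ((ConcreteCategory.isIso_iff_bijective (Proj.awayToSection 𝒜 (c k).1)).mp inferInstance).2 v
  obtain ⟨m, a, ha, rfl⟩ := Away.mk_surjective 𝒜 (c k).2 w
  set S := Subring.closure ((Set.range fun r : Γ(Spec (CommRingCat.of R), ⊤) ↦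
      (q.appLE ⊤ (Proj.basicOpen 𝒜 (c k).1) hD).hom r) ∪
    {v | ∃ j, v • QCohBase.mres (Twist.twist 𝒜 (N : ℤ)) (le_top : Proj.basicOpen 𝒜 (c k).1 ≤ ⊤) (gsec 𝒜 (c k)) =
      QCohBase.mres (Twist.twist 𝒜 (N : ℤ)) le_top (gsec 𝒜 (c j))})
  let S' : Subring (Away 𝒜 (c k).1) := S.comap (Proj.awayToSection 𝒜 (c k).1).hom
  show Away.mk 𝒜 (c k).2 m a ha ∈ S'
  have hone : ∀ j, Away.mk 𝒜 (c k).2 1 (c j).1 (by rw [one_smul]; exact (c j).2) ∈ S' := fun j ↦
    Subring.subset_closure (Or.inr ⟨j, awayToSection_smul_gsec 𝒜 (c k).2 1 _ _ (c k) (c j) (by ring)⟩)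
  have hscal : ∀ r : R, fromZeroRingHom 𝒜 (Submonoid.powers (c k).1) (algebraMap R (𝒜 0) r) ∈ S' := fun r ↦
    Subring.subset_closure (Or.inl ⟨_, structure_appLE 𝒜 hN (c k).2 hD r⟩)
  have key : ∀ (K : ℕ) (z : A), z ∈ Submodule.span R (Set.range fun j ↦ (c j).1) ^ K →
      ∃ hz : z ∈ 𝒜 (K • N), Away.mk 𝒜 (c k).2 K z hz ∈ S' := by
    intro K z hz
    induction hz using Submodule.pow_induction_on_left' with
    | algebraMap r =>
      refine ⟨by simpa using (algebraMap R (𝒜 0) r).2, ?_⟩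
      convert hscal r using 1
      refine HomogeneousLocalization.val_injective _ ?_
      rw [Away.val_mk]
      refine Localization.mk_eq_mk_iff.mpr (Localization.r_iff_exists.mpr ⟨1, ?_⟩)
      simp
    | add x y i _ _ hx hy =>
      obtain ⟨hx1, hx2⟩ := hx
      obtain ⟨hy1, hy2⟩ := hy
      refine ⟨add_mem hx1 hy1, ?_⟩
      convert add_mem hx2 hy2 using 1
      refine HomogeneousLocalization.val_injective _ ?_
      rw [HomogeneousLocalization.val_add, Away.val_mk, Away.val_mk, Away.val_mk, Localization.add_mk_self]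
    | mem_mul x hx i y _ hy =>
      obtain ⟨hy1, hy2⟩ := hy
      induction hx using Submodule.span_induction with
      | mem x hx =>
        obtain ⟨j, rfl⟩ := hx
        refine ⟨by rw [succ_nsmul']; exact SetLike.mul_mem_graded (c j).2 hy1, ?_⟩
        convert mul_mem (hone j) hy2 using 1
        refine HomogeneousLocalization.val_injective _ ?_
        rw [HomogeneousLocalization.val_mul, Away.val_mk, Away.val_mk, Away.val_mk, Localization.mk_mul]
        refine Localization.mk_eq_mk_iff.mpr (Localization.r_iff_exists.mpr ⟨1, ?_⟩)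
        simp [pow_succ]; ring
      | zero =>
        refine ⟨by rw [zero_mul]; exact zero_mem _, ?_⟩
        convert zero_mem S'
        refine HomogeneousLocalization.val_injective _ ?_
        rw [Away.val_mk, HomogeneousLocalization.val_zero]
        simp [Localization.mk_zero]
      | add x x' _ _ hx hx' =>
        obtain ⟨h1, h2⟩ := hx
        obtain ⟨h1', h2'⟩ := hx'
        refine ⟨by rw [add_mul]; exact add_mem h1 h1', ?_⟩
        convert add_mem h2 h2' using 1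
        refine HomogeneousLocalization.val_injective _ ?_
        rw [HomogeneousLocalization.val_add, Away.val_mk, Away.val_mk, Away.val_mk, Localization.add_mk_self, add_mul]
      | smul r x _ hx =>
        obtain ⟨h1, h2⟩ := hx
        refine ⟨by rw [smul_mul_assoc]; exact Submodule.smul_mem _ r h1, ?_⟩
        convert mul_mem (hscal r) h2 using 1
        refine HomogeneousLocalization.val_injective _ ?_
        rw [HomogeneousLocalization.val_mul, Away.val_mk, Away.val_mk]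
        refine Eq.trans ?_ (Localization.mk_mul _ _ _ _).symm
        refine Localization.mk_eq_mk_iff.mpr (Localization.r_iff_exists.mpr ⟨1, ?_⟩)
        simp [Algebra.smul_def, mul_assoc]
  obtain ⟨l, hl⟩ := H m a ha
  obtain ⟨hz, hmem⟩ := key _ _ hl
  convert hmem using 1
  refine HomogeneousLocalization.val_injective _ ?_
  rw [Away.val_mk, Away.val_mk]
  refine Localization.mk_eq_mk_iff.mpr (Localization.r_iff_exists.mpr ⟨1, ?_⟩)
  simp [pow_add]; ring

include hN hcov in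
theorem exists_closedImmersion
    (hp : IsProper (Proj.toSpecZero 𝒜 ≫ Spec.map (CommRingCat.ofHom (algebraMap R (𝒜 0)))))
    (hc : ∀ x : ProjectiveSpectrum 𝒜, ∃ k, (c k).1 ∉ x.asHomogeneousIdeal ∧ ∀ (m : ℕ) (a : A), a ∈ 𝒜 (m • N) →
      ∃ l, (c k).1 ^ l * a ∈ Submodule.span R (Set.range fun j ↦ (c j).1) ^ (l + m)) :
    ∃ (n : ℕ) (i : Proj 𝒜 ⟶ CohB1.ProjSpaceOver n (Spec (CommRingCat.of R))), IsClosedImmersion i ∧
      i ≫ pullback.snd (CohB1.ProjSpace.toSpec n (ULift.{u} ℤ)) (specULiftZIsTerminal.from (Spec (CommRingCat.of R))) =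
        Proj.toSpecZero 𝒜 ≫ Spec.map (CommRingCat.ofHom (algebraMap R (𝒜 0))) ∧
      Nonempty (Twist.twist 𝒜 (N : ℤ) ≅
        (Scheme.Modules.pullback i).obj (Twist.twistOver n (Spec (CommRingCat.of R)) 1)) := by
  obtain ⟨n, i, hi, hiq, hiso, -⟩ := exists_immersion_of_sections
    (Proj.toSpecZero 𝒜 ≫ Spec.map (CommRingCat.ofHom (algebraMap R (𝒜 0))))
    (isInvertible_twist_of_cover 𝒜 hcov) (fun j ↦ gsec 𝒜 (c j)) fun x ↦ by
      obtain ⟨k, hk, H⟩ := hc x
      exact ⟨k, (loc_gsec 𝒜 hN hcov (c k)).ge hk, ⊤, isAffineOpen_top _, genSec_gsec 𝒜 hN hcov c k H⟩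
  haveI := hi
  haveI := isProper_toBase.{u} n (Spec (CommRingCat.of R))
  haveI : IsProper (i ≫ pullback.snd (CohB1.ProjSpace.toSpec n (ULift.{u} ℤ))
      (specULiftZIsTerminal.from (Spec (CommRingCat.of R)))) := by rw [hiq]; exact hp
  exact ⟨n, i, isClosedImmersion_of_proper i (pullback.snd (CohB1.ProjSpace.toSpec n (ULift.{u} ℤ))
    (specULiftZIsTerminal.from (Spec (CommRingCat.of R)))), hiq, hiso⟩

end Groth.Agent.ProjUPLib
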