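import Groth.Agent.ProjUPLib.WeightedLcm

/-! Generation of `O(n)` for large `n`. -/

set_option autoImplicit false
set_option backward.isDefEq.respectTransparency false
set_option backward.isDefEq.respectTransparency.types false
set_option linter.style.haveILetI false
set_option linter.unusedSectionVars false

noncomputable section

universe u

open CategoryTheory Limits AlgebraicGeometry Opposite TopologicalSpace HomogeneousLocalization
open Groth.Agent.QCohBase Groth.Agent.GenLocus Groth.Agent.GrTildeLib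

namespace Groth.Agent.ProjUPLib

variable {R A : Type u} [CommRing R] [CommRing A] [Algebra R A] (𝒜 : ℕ → Submodule R A) [GradedAlgebra 𝒜]
variable {s : ℕ} {f : Fin s → A} {deg : Fin s → ℕ} (hdeg : ∀ i, 0 < deg i) (hf : ∀ i, f i ∈ 𝒜 (deg i))
  (hgen : Algebra.adjoin R (Set.range f) = ⊤)

include hdeg in
lemma sum_mod_le (i : Fin s) (α : Fin s → ℕ) :
    ∑ j ∈ Finset.univ.erase i, α j % (Finset.univ.lcm deg / deg j) * deg j ≤
      (s - 1) * (Finset.univ.lcm deg - 1) := by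
  set L := Finset.univ.lcm deg
  have hL : 0 < L := lcm_deg_pos hdeg
  refine (Finset.sum_le_card_nsmul _ _ (L - 1) fun j _ ↦ ?_).trans (by simp)
  have h1 : α j % (L / deg j) < L / deg j :=
    Nat.mod_lt _ (Nat.div_pos (Nat.le_of_dvd hL (Finset.dvd_lcm (Finset.mem_univ j))) (hdeg j))
  have h2 : (α j % (L / deg j) + 1) * deg j ≤ L / deg j * deg j := Nat.mul_le_mul_right _ h1
  rw [div_mul_deg (deg := deg) j, add_mul, one_mul] at h2
  have := hdeg j
  omega

include hdeg hf in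
/-- A monomial over a power of `f i` is a function times a global monomial. -/
theorem exists_eq_smul_gsec {n : ℕ} (hn : (s - 1) * (Finset.univ.lcm deg - 1) ≤ n) (i : Fin s) (k : ℕ)
    (α : Fin s → ℕ) (hα : ∑ j, α j * deg j = n + k * deg i) :
    ∃ (c : Γ(Proj 𝒜, Proj.basicOpen 𝒜 (f i))) (b : 𝒜 n), ∀ x : Proj.basicOpen 𝒜 (f i),
      (Localization.mk (∏ j, f j ^ α j) ⟨f i ^ k, fun h ↦ x.2 (x.1.isPrime.mem_of_pow_mem k h)⟩ : Twist.Loc 𝒜 x.1) =
        tval 𝒜 (c • QCohBase.mres (Twist.twist 𝒜 (n : ℤ)) le_top (gsec 𝒜 b)) x := by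
  classical
  set L := Finset.univ.lcm deg
  let q : Fin s → ℕ := fun j ↦ α j / (L / deg j)
  let r : Fin s → ℕ := fun j ↦ α j % (L / deg j)
  have hdec : ∀ j, α j * deg j = q j * L + r j * deg j := fun j ↦ by
    conv_lhs => rw [← Nat.div_add_mod (α j) (L / deg j)]
    simp only [q, r]
    have := div_mul_deg (deg := deg) j
    rw [add_mul, mul_comm (L / deg j), mul_assoc, this]
  have hR : ∑ j ∈ Finset.univ.erase i, r j * deg j ≤ n := (sum_mod_le hdeg i α).trans hn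
  obtain ⟨P, hP⟩ : ∃ P, P = ∑ j ∈ Finset.univ.erase i, q j := ⟨_, rfl⟩
  obtain ⟨Rm, hRm⟩ : ∃ Rm, Rm = ∑ j ∈ Finset.univ.erase i, r j * deg j := ⟨_, rfl⟩
  have hsum : ∑ j, α j * deg j = α i * deg i + (P * L + Rm) := by
    rw [← Finset.add_sum_erase _ _ (Finset.mem_univ i), hP, hRm, Finset.sum_mul, ← Finset.sum_add_distrib]
    exact congrArg _ (Finset.sum_congr rfl fun j _ ↦ hdec j)
  have hLi : L / deg i * deg i = L := div_mul_deg (deg := deg) i
  have hbig : k ≤ α i + P * (L / deg i) := by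
    refine Nat.le_of_mul_le_mul_right ?_ (hdeg i)
    rw [add_mul, mul_assoc, hLi]
    omega
  obtain ⟨β, hβ⟩ : ∃ β, α i + P * (L / deg i) = β + k := ⟨α i + P * (L / deg i) - k, by omega⟩
  have hβn : Rm + β * deg i = n := by
    have h1 : (α i + P * (L / deg i)) * deg i = (β + k) * deg i := by rw [hβ]
    rw [add_mul, add_mul, mul_assoc, hLi] at h1
    omega
  have hb : (∏ j ∈ Finset.univ.erase i, f j ^ r j) * f i ^ β ∈ 𝒜 n := by
    have h := SetLike.mul_mem_graded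
      (SetLike.prod_mem_graded (A := 𝒜) (fun j ↦ r j * deg j) (fun j ↦ f j ^ r j) (F := Finset.univ.erase i)
        fun j _ ↦ by simpa using SetLike.pow_mem_graded (r j) (hf j))
      (SetLike.pow_mem_graded β (hf i))
    rw [smul_eq_mul, ← hRm, hβn] at h
    exact h
  have ha : ∏ j ∈ Finset.univ.erase i, f j ^ (q j * (L / deg j)) ∈ 𝒜 ((P * (L / deg i)) • deg i) := by
    have h := SetLike.prod_mem_graded (A := 𝒜) (fun j ↦ q j * (L / deg j) * deg j) (fun j ↦ f j ^ (q j * (L / deg j)))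
      (F := Finset.univ.erase i) fun j _ ↦ by simpa using SetLike.pow_mem_graded (q j * (L / deg j)) (hf j)
    have e : ∑ j ∈ Finset.univ.erase i, q j * (L / deg j) * deg j = (P * (L / deg i)) • deg i := by
      rw [smul_eq_mul, mul_assoc, hLi, hP, Finset.sum_mul]
      exact Finset.sum_congr rfl fun j _ ↦ by rw [mul_assoc, div_mul_deg (deg := deg) j]
    rwa [e] at h
  refine ⟨(Proj.awayToSection 𝒜 (f i)).hom (Away.mk 𝒜 (hf i) _ _ ha), ⟨_, hb⟩, fun x ↦ ?_⟩
  rw [tval_smul, tval_gsec]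
  erw [val_awayToSection]
  rw [Localization.mk_mul, Localization.mk_eq_mk_iff, Localization.r_iff_exists]
  refine ⟨1, ?_⟩
  simp only [OneMemClass.coe_one, one_mul, Submonoid.coe_mul, mul_one]
  have e1 : (∏ j, f j ^ α j) = f i ^ α i *
      ((∏ j ∈ Finset.univ.erase i, f j ^ (q j * (L / deg j))) * ∏ j ∈ Finset.univ.erase i, f j ^ r j) := by
    rw [← Finset.mul_prod_erase _ _ (Finset.mem_univ i), ← Finset.prod_mul_distrib]
    refine congrArg _ (Finset.prod_congr rfl fun j _ ↦ ?_)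
    rw [← pow_add]
    congr 1
    exact (Nat.div_add_mod' (α j) (L / deg j)).symm
  rw [e1]
  calc _ = f i ^ (α i + P * (L / deg i)) *
        ((∏ j ∈ Finset.univ.erase i, f j ^ (q j * (L / deg j))) * ∏ j ∈ Finset.univ.erase i, f j ^ r j) := by ring
    _ = f i ^ (β + k) *
        ((∏ j ∈ Finset.univ.erase i, f j ^ (q j * (L / deg j))) * ∏ j ∈ Finset.univ.erase i, f j ^ r j) := by rw [hβ]
    _ = _ := by ring

include hdeg hf hgen in
theorem generatedBy_gsec_of_ge {n : ℕ} (hn : (s - 1) * (Finset.univ.lcm deg - 1) ≤ n) :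
    ProjUP.GeneratedBy (Twist.twist 𝒜 (n : ℤ)) (fun b : 𝒜 n ↦ gsec 𝒜 b) := by
  classical
  intro x
  haveI : (Twist.twist 𝒜 (n : ℤ)).IsQuasicoherent := isQuasicoherent_tilde 𝒜 𝒜 (n : ℤ)
  obtain ⟨i, hi⟩ := exists_mem_generators 𝒜 hdeg hf hgen x
  have hD := Proj.isAffineOpen_basicOpen 𝒜 (f i) (hf i) (hdeg i)
  refine eq_top_iff.mpr fun z _ ↦ ?_
  obtain ⟨g, σ, hg, hσ⟩ := AssPts.exists_germ_smul_eq (Twist.twist 𝒜 (n : ℤ)) hD x hi z
  have hu := (AssPts.notMem_prime_iff hD x hi g).mp hg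
  refine (Submodule.smul_mem_iff_of_isUnit _ hu).mp ?_
  rw [hσ]
  obtain ⟨k, e, a, he, ha⟩ := exists_eq_frac 𝒜 𝒜 (n : ℤ) (hdeg i) (hf i) hD.isCompact σ
  let S := Submodule.span ((Proj 𝒜).presheaf.stalk x)
    (Set.range fun b : 𝒜 n ↦ ((Twist.twist 𝒜 (n : ℤ)).presheaf.germ ⊤ x trivial).hom (gsec 𝒜 b))
  have key : ∀ z ∈ Submodule.span R {m : A | ∃ α : Fin s → ℕ, ∑ j, α j * deg j = n + k * deg i ∧ m = ∏ j, f j ^ α j},
      ∃ τ : Γ(Twist.twist 𝒜 (n : ℤ), Proj.basicOpen 𝒜 (f i)),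
        (∀ y : Proj.basicOpen 𝒜 (f i), tval 𝒜 τ y =
          (Localization.mk z ⟨f i ^ k, fun h ↦ y.2 (y.1.isPrime.mem_of_pow_mem k h)⟩ : Twist.Loc 𝒜 y.1)) ∧
        (Twist.twist 𝒜 (n : ℤ)).presheaf.germ _ x hi τ ∈ S := by
    intro z hz
    induction hz using Submodule.span_induction with
    | mem z hz =>
      obtain ⟨α, hα, rfl⟩ := hz
      obtain ⟨c, b, h⟩ := exists_eq_smul_gsec 𝒜 hdeg hf hn i k α hα
      refine ⟨_, fun y ↦ (h y).symm, ?_⟩
      rw [AssPts.germ_smul', AssPts.germ_mres]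
      exact Submodule.smul_mem _ _ (Submodule.subset_span ⟨b, rfl⟩)
    | zero => exact ⟨0, fun y ↦ (Localization.mk_zero _).symm, by rw [map_zero]; exact zero_mem _⟩
    | add u v _ _ hu hv =>
      obtain ⟨τ, h1, h2⟩ := hu
      obtain ⟨τ', h1', h2'⟩ := hv
      refine ⟨τ + τ', fun y ↦ ?_, by rw [map_add]; exact add_mem h2 h2'⟩
      rw [← Localization.add_mk_self, ← h1, ← h1']
      rfl
    | smul c u _ hu =>
      obtain ⟨τ, h1, h2⟩ := hu
      refine ⟨(Proj.awayToSection 𝒜 (f i)).hom (Away.mk 𝒜 (hf i) 0 (algebraMap R (𝒜 0) c : A)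
        (by simpa using (algebraMap R (𝒜 0) c).2)) • τ, fun y ↦ ?_, by
          rw [AssPts.germ_smul']; exact Submodule.smul_mem _ _ h2⟩
      rw [tval_smul, h1]
      erw [val_awayToSection]
      rw [Localization.mk_mul, Localization.mk_eq_mk_iff, Localization.r_iff_exists]
      exact ⟨1, by simp [Algebra.smul_def]⟩
  have hdegm : e = n + k * deg i := by omega
  obtain ⟨τ, h1, h2⟩ := key _ (mem_span_monomials_base 𝒜 hf hgen (show a.1 ∈ 𝒜 (n + k * deg i) by rw [← hdegm]; exact a.2))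
  have hστ : σ = τ := tval_ext 𝒜 fun y ↦ (ha y).trans (h1 y).symm
  rw [hστ]
  exact h2

end Groth.Agent.ProjUPLib
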