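import Groth.Agent.ProjUPLib.Weighted

/-! Twists by multiples of the lcm of the degrees of generators. -/

set_option autoImplicit false
set_option backward.isDefEq.respectTransparency false
set_option backward.isDefEq.respectTransparency.types false
set_option linter.style.haveILetI false
set_option linter.unusedSectionVars false

noncomputable section

universe u

open CategoryTheory Limits AlgebraicGeometry Opposite TopologicalSpace HomogeneousLocalization
open Groth.Agent.QCohBase Groth.Agent.GenLocus Groth.Agent.GrTildeLib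

namespace Groth.Agent.ProjUPLib

variable {R A : Type u} [CommRing R] [CommRing A] [Algebra R A] (𝒜 : ℕ → Submodule R A) [GradedAlgebra 𝒜]

lemma exists_le_sum_eq {ι : Type*} [DecidableEq ι] (q : ι → ℕ) (s : Finset ι) :
    ∀ a : ℕ, a ≤ ∑ i ∈ s, q i → ∃ γ : ι → ℕ, (∀ i, γ i ≤ q i) ∧ (∀ i ∉ s, γ i = 0) ∧ ∑ i ∈ s, γ i = a := by
  induction s using Finset.induction_on with
  | empty => exact fun a h ↦ ⟨0, fun i ↦ Nat.zero_le _, fun i _ ↦ rfl, by simp at h; simp [h]⟩
  | insert j s hj ih =>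
    intro a h
    rw [Finset.sum_insert hj] at h
    obtain ⟨γ, h1, h2, h3⟩ := ih (a - q j) (by omega)
    refine ⟨fun i ↦ if i = j then min a (q j) else γ i, fun i ↦ ?_, fun i hi ↦ ?_, ?_⟩
    · dsimp only; split_ifs with e
      · subst e; exact min_le_right _ _
      · exact h1 i
    · rw [Finset.mem_insert, not_or] at hi
      simp only [if_neg hi.1, h2 i hi.2]
    · rw [Finset.sum_insert hj]
      have : ∀ i ∈ s, (if i = j then min a (q j) else γ i) = γ i :=
        fun i hi ↦ if_neg fun e : i = j ↦ hj (e ▸ hi)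
      rw [Finset.sum_congr rfl this, h3]
      simp only [if_true]
      omega

section Generators

variable {s : ℕ} {f : Fin s → A} {deg : Fin s → ℕ} (hdeg : ∀ i, 0 < deg i) (hf : ∀ i, f i ∈ 𝒜 (deg i))
  (hgen : Algebra.adjoin R (Set.range f) = ⊤)

include hdeg in
lemma lcm_deg_pos : 0 < Finset.univ.lcm deg :=
  Nat.pos_of_ne_zero fun h ↦ by
    obtain ⟨i, -, hi⟩ := Finset.lcm_eq_zero_iff.mp h
    exact (hdeg i).ne' hi

lemma div_mul_deg (i : Fin s) : Finset.univ.lcm deg / deg i * deg i = Finset.univ.lcm deg :=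
  Nat.div_mul_cancel (Finset.dvd_lcm (Finset.mem_univ i))

include hdeg hf hgen in
theorem cover_mul_lcm (a : ℕ) (x : ProjectiveSpectrum 𝒜) :
    ∃ g : 𝒜 (a * Finset.univ.lcm deg), g.1 ∉ x.asHomogeneousIdeal := by
  obtain ⟨i, hi⟩ := exists_mem_generators 𝒜 hdeg hf hgen x
  refine ⟨⟨f i ^ (a * (Finset.univ.lcm deg / deg i)), ?_⟩, fun h ↦ hi (x.isPrime.mem_of_pow_mem _ h)⟩
  have h := SetLike.pow_mem_graded (a * (Finset.univ.lcm deg / deg i)) (hf i)
  rwa [smul_eq_mul, mul_assoc, div_mul_deg] at h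

include hdeg hf hgen in
theorem compactSpace_proj : CompactSpace (Proj 𝒜) := by
  refine compactSpace_of_finite 𝒜 (lcm_deg_pos hdeg) (fun i : Fin s ↦
    (⟨f i ^ (Finset.univ.lcm deg / deg i), ?_⟩ : 𝒜 (Finset.univ.lcm deg))) fun x ↦ ?_
  · have h := SetLike.pow_mem_graded (Finset.univ.lcm deg / deg i) (hf i)
    rwa [smul_eq_mul, div_mul_deg] at h
  · obtain ⟨i, hi⟩ := exists_mem_generators 𝒜 hdeg hf hgen x
    exact ⟨i, fun h ↦ hi (x.isPrime.mem_of_pow_mem _ h)⟩

include hdeg hf hgen in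
theorem nonempty_tensor_iso (a n : ℤ) :
    Nonempty (CohB1.tensorMod (Twist.twist 𝒜 (a * (Finset.univ.lcm deg : ℕ))) (Twist.twist 𝒜 n) ≅
      Twist.twist 𝒜 (a * (Finset.univ.lcm deg : ℕ) + n)) := by
  set k := a * ((Finset.univ.lcm deg : ℕ) : ℤ)
  let φ := actMap 𝒜 𝒜 n k (k + n) (by ring)
  haveI : IsIso φ := isIso_of_bijective _ fun x ↦ by
    obtain ⟨g, hg⟩ := cover_mul_lcm 𝒜 hdeg hf hgen 1 x
    obtain ⟨i, j, b, t, nin, nina, h⟩ :=
      exists_fracSec 𝒜 k (Proj.basicOpen 𝒜 g.1) g le_rfl a (by push_cast; ring)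
    exact ⟨_, hg, bijective_actMap 𝒜 𝒜 n k (k + n) (by ring) b t nin nina h⟩
  exact ⟨TensorMod.commIso _ _ ≪≫ (asIso φ : CohB1.tensorMod (Twist.twist 𝒜 n) (Twist.twist 𝒜 k) ≅ Twist.twist 𝒜 (k + n))⟩

include hdeg hf hgen in
theorem exists_closedImmersion_lcm (a : ℕ) (ha : 0 < a) (has : s - 1 ≤ a) :
    ∃ (N : ℕ) (i : Proj 𝒜 ⟶ CohB1.ProjSpaceOver N (Spec (CommRingCat.of R))), IsClosedImmersion i ∧
      i ≫ pullback.snd (CohB1.ProjSpace.toSpec N (ULift.{u} ℤ)) (specULiftZIsTerminal.from (Spec (CommRingCat.of R))) =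
        Proj.toSpecZero 𝒜 ≫ Spec.map (CommRingCat.ofHom (algebraMap R (𝒜 0))) ∧
      Nonempty (Twist.twist 𝒜 ((a * Finset.univ.lcm deg : ℕ) : ℤ) ≅
        (Scheme.Modules.pullback i).obj (Twist.twistOver N (Spec (CommRingCat.of R)) 1)) := by
  classical
  set L := Finset.univ.lcm deg
  have hL : 0 < L := lcm_deg_pos hdeg
  obtain ⟨M, hM⟩ : ∃ M, M = a * L := ⟨_, rfl⟩
  rw [← hM]
  have hM0 : 0 < M := hM ▸ Nat.mul_pos ha hL
  let κ := ULift.{u} {α : Fin s → Fin (M + 1) // ∑ i, (α i : ℕ) * deg i = M}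
  let c : κ → 𝒜 M := fun α ↦ ⟨∏ i, f i ^ (α.down.1 i : ℕ), by
    have h : ∏ i, f i ^ (α.down.1 i : ℕ) ∈ 𝒜 (∑ i, (α.down.1 i : ℕ) * deg i) :=
      SetLike.prod_mem_graded _ _ _ fun i _ ↦ by simpa using SetLike.pow_mem_graded (α.down.1 i : ℕ) (hf i)
    rw [α.down.2] at h
    exact h⟩
  set W := Submodule.span R (Set.range fun j : κ ↦ (c j).1)
  have hmonW : ∀ β : Fin s → ℕ, ∑ i, β i * deg i = M → ∏ i, f i ^ β i ∈ W := fun β hβ ↦ by
    have hlt : ∀ i, β i < M + 1 := fun i ↦ by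
      have h1 : β i * deg i ≤ ∑ i, β i * deg i :=
        Finset.single_le_sum (f := fun i ↦ β i * deg i) (fun i _ ↦ Nat.zero_le _) (Finset.mem_univ i)
      have h2 : β i ≤ β i * deg i := Nat.le_mul_of_pos_right _ (hdeg i)
      omega
    exact Submodule.subset_span ⟨ULift.up ⟨fun i ↦ ⟨β i, hlt i⟩, hβ⟩, rfl⟩
  have hmon : ∀ (m : ℕ) (α : Fin s → ℕ), ∑ i, α i * deg i = m * M → ∏ i, f i ^ α i ∈ W ^ m := by
    intro m
    induction m with
    | zero =>
      intro α hα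
      rw [pow_zero]
      refine Submodule.mem_one.mpr ⟨1, ?_⟩
      rw [map_one]
      refine (Finset.prod_eq_one fun i _ ↦ ?_).symm
      have : α i * deg i = 0 := Finset.sum_eq_zero_iff.mp (hα.trans (zero_mul _)) i (Finset.mem_univ i)
      rw [(Nat.mul_eq_zero.mp this).resolve_right (hdeg i).ne', pow_zero]
    | succ m ih =>
      intro α hα
      rcases Nat.eq_zero_or_pos m with rfl | hm
      · rw [zero_add, pow_one]; exact hmonW α (by simpa using hα)
      let q : Fin s → ℕ := fun i ↦ α i / (L / deg i)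
      let r : Fin s → ℕ := fun i ↦ α i % (L / deg i)
      have hdec : ∀ i, α i * deg i = q i * L + r i * deg i := fun i ↦ by
        conv_lhs => rw [← Nat.div_add_mod (α i) (L / deg i)]
        simp only [q, r]
        have := div_mul_deg (deg := deg) i
        rw [add_mul, mul_comm (L / deg i), mul_assoc, this]
      have hr : ∀ i, r i * deg i + 1 ≤ L := fun i ↦ by
        have h1 : r i < L / deg i := Nat.mod_lt _ (Nat.div_pos (Nat.le_of_dvd hL (Finset.dvd_lcm (Finset.mem_univ i))) (hdeg i))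
        have h2 : (r i + 1) * deg i ≤ L / deg i * deg i := Nat.mul_le_mul_right _ h1
        rw [div_mul_deg (deg := deg) i, add_mul, one_mul] at h2
        have := hdeg i
        omega
      have hsum : ∑ i, α i * deg i = (∑ i, q i) * L + ∑ i, r i * deg i := by
        rw [Finset.sum_mul, ← Finset.sum_add_distrib]; exact Finset.sum_congr rfl fun i _ ↦ hdec i
      have hS : ∑ i, r i * deg i + s ≤ s * L := by
        have h1 : ∑ i, (r i * deg i + 1) ≤ ∑ _i : Fin s, L := Finset.sum_le_sum fun i _ ↦ hr i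
        simpa [Finset.sum_add_distrib] using h1
      have hq : a ≤ ∑ i, q i := by
        by_contra hlt
        rw [hsum, hM] at hα
        have h1 : (∑ i, q i + 1) * L ≤ a * L := Nat.mul_le_mul_right _ (by omega)
        have h2 : 2 * (a * L) ≤ (m + 1) * (a * L) := Nat.mul_le_mul_right _ (by omega)
        have h3 : (s - 1) * L ≤ a * L := Nat.mul_le_mul_right _ has
        rcases Nat.eq_zero_or_pos s with rfl | hs
        · have hpos : 0 < a * L := Nat.mul_pos ha hL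
          have h0 : ∑ i, r i * deg i = 0 := by simp
          rw [add_mul] at h1
          omega
        · obtain ⟨s', rfl⟩ : ∃ s', s = s' + 1 := ⟨s - 1, by omega⟩
          rw [Nat.add_sub_cancel] at h3
          rw [add_mul] at h1 hS
          omega
      obtain ⟨γ, hγ, -, hγs⟩ := exists_le_sum_eq q Finset.univ a hq
      have hle : ∀ i, γ i * (L / deg i) ≤ α i := fun i ↦
        (Nat.mul_le_mul_right _ (hγ i)).trans (Nat.div_mul_le_self _ _)
      have hβ : ∑ i, γ i * (L / deg i) * deg i = M := by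
        rw [hM, ← hγs, Finset.sum_mul]
        exact Finset.sum_congr rfl fun i _ ↦ by rw [mul_assoc, div_mul_deg (deg := deg) i]
      have hrest : ∑ i, (α i - γ i * (L / deg i)) * deg i = m * M := by
        have h1 : ∑ i, (α i - γ i * (L / deg i)) * deg i + ∑ i, γ i * (L / deg i) * deg i = ∑ i, α i * deg i := by
          rw [← Finset.sum_add_distrib]
          exact Finset.sum_congr rfl fun i _ ↦ by rw [← add_mul, Nat.sub_add_cancel (hle i)]
        rw [hα, hβ, add_mul, one_mul] at h1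
        omega
      have hsplit : ∏ i, f i ^ α i = (∏ i, f i ^ (γ i * (L / deg i))) * ∏ i, f i ^ (α i - γ i * (L / deg i)) := by
        rw [← Finset.prod_mul_distrib]
        exact Finset.prod_congr rfl fun i _ ↦ by rw [← pow_add, Nat.add_sub_cancel' (hle i)]
      rw [hsplit, pow_succ']
      exact Submodule.mul_mem_mul (hmonW _ hβ) (ih _ hrest)
  refine exists_closedImmersion 𝒜 hM0 (hM ▸ cover_mul_lcm 𝒜 hdeg hf hgen a) c
    (isProper_structure 𝒜 hdeg hf hgen) fun x ↦ ?_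
  obtain ⟨i, hi⟩ := exists_mem_generators 𝒜 hdeg hf hgen x
  have hβ : ∑ j, (Pi.single i (a * (L / deg i)) : Fin s → ℕ) j * deg j = M := by
    simp [Pi.single_apply, hM, mul_assoc, div_mul_deg, L]
  have hlt : ∀ j, (Pi.single i (a * (L / deg i)) : Fin s → ℕ) j < M + 1 := fun j ↦ by
    rcases eq_or_ne j i with rfl | hj
    · rw [Pi.single_eq_same, hM]
      exact Nat.lt_succ_of_le (Nat.mul_le_mul_left _ (Nat.div_le_self _ _))
    · rw [Pi.single_eq_of_ne hj]; omega
  refine ⟨ULift.up ⟨fun j ↦ ⟨(Pi.single i (a * (L / deg i)) : Fin s → ℕ) j, hlt j⟩, hβ⟩, fun h ↦ ?_, fun m z hz ↦ ⟨0, ?_⟩⟩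
  · have e : ∏ j, f j ^ (Pi.single i (a * (L / deg i)) : Fin s → ℕ) j = f i ^ (a * (L / deg i)) := by
      simp [Pi.single_apply, pow_ite, Finset.prod_ite_eq']
    refine hi (x.isPrime.mem_of_pow_mem _ (?_ : f i ^ (a * (L / deg i)) ∈ x.asHomogeneousIdeal))
    rw [← e]
    exact h
  · rw [pow_zero, one_mul, zero_add]
    refine Submodule.span_le.mpr ?_ (mem_span_monomials_base 𝒜 hf hgen hz)
    rintro _ ⟨α, hα, rfl⟩
    exact hmon m α hα

end Generators

theorem exists_mem_one (hcov : (⨆ g : 𝒜 1, Proj.basicOpen 𝒜 (g : A)) = ⊤) (n : ℕ)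
    (x : ProjectiveSpectrum 𝒜) : ∃ g : 𝒜 n, g.1 ∉ x.asHomogeneousIdeal := by
  obtain ⟨g, hg⟩ := Opens.mem_iSup.mp (hcov.ge (trivial : x ∈ (⊤ : (Proj 𝒜).Opens)))
  exact ⟨⟨g.1 ^ n, by simpa using SetLike.pow_mem_graded n g.2⟩, fun h ↦ hg (x.isPrime.mem_of_pow_mem _ h)⟩

omit [GradedAlgebra 𝒜] in
lemma exists_finset_adjoin (S : Set A) (hS : Algebra.adjoin R S = ⊤) [Algebra.FiniteType R A] :
    ∃ T : Finset A, (T : Set A) ⊆ S ∧ Algebra.adjoin R (T : Set A) = ⊤ := by
  classical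
  obtain ⟨t, ht⟩ := (Algebra.FiniteType.out : (⊤ : Subalgebra R A).FG)
  have key : ∀ z ∈ Algebra.adjoin R S, ∃ T : Finset A, (T : Set A) ⊆ S ∧ z ∈ Algebra.adjoin R (T : Set A) := by
    intro z hz
    induction hz using Algebra.adjoin_induction with
    | mem z hz => exact ⟨{z}, by simpa using hz, Algebra.subset_adjoin (by simp)⟩
    | algebraMap r => exact ⟨∅, by simp, Subalgebra.algebraMap_mem _ r⟩
    | add a b _ _ ha hb =>
      obtain ⟨T, hT, ha⟩ := ha; obtain ⟨T', hT', hb⟩ := hb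
      exact ⟨T ∪ T', by simp [hT, hT'], add_mem (Algebra.adjoin_mono (by simp) ha) (Algebra.adjoin_mono (by simp) hb)⟩
    | mul a b _ _ ha hb =>
      obtain ⟨T, hT, ha⟩ := ha; obtain ⟨T', hT', hb⟩ := hb
      exact ⟨T ∪ T', by simp [hT, hT'], mul_mem (Algebra.adjoin_mono (by simp) ha) (Algebra.adjoin_mono (by simp) hb)⟩
  choose T hTS hT using fun z : t ↦ key z.1 (hS ▸ trivial)
  refine ⟨Finset.univ.biUnion T, ?_, eq_top_iff.mpr (ht ▸ Algebra.adjoin_le fun z hz ↦ ?_)⟩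
  · intro z hz
    obtain ⟨w, -, hw⟩ := Finset.mem_biUnion.mp hz
    exact hTS w hw
  · exact Algebra.adjoin_mono (by intro y hy; exact Finset.mem_biUnion.mpr ⟨⟨z, hz⟩, Finset.mem_univ _, hy⟩) (hT ⟨z, hz⟩)

theorem exists_closedImmersion_one (d : ℕ) (hgen : Algebra.adjoin R (⋃ i ∈ Finset.Icc 1 d, (𝒜 i : Set A)) = ⊤)
    (hcov : (⨆ g : 𝒜 1, Proj.basicOpen 𝒜 (g : A)) = ⊤) [Algebra.FiniteType R A] (n : ℕ) (hn : d ≤ n) (hn1 : 0 < n) :
    ∃ (N : ℕ) (i : Proj 𝒜 ⟶ CohB1.ProjSpaceOver N (Spec (CommRingCat.of R))), IsClosedImmersion i ∧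
      i ≫ pullback.snd (CohB1.ProjSpace.toSpec N (ULift.{u} ℤ)) (specULiftZIsTerminal.from (Spec (CommRingCat.of R))) =
        Proj.toSpecZero 𝒜 ≫ Spec.map (CommRingCat.ofHom (algebraMap R (𝒜 0))) ∧
      Nonempty (Twist.twist 𝒜 (n : ℤ) ≅
        (Scheme.Modules.pullback i).obj (Twist.twistOver N (Spec (CommRingCat.of R)) 1)) := by
  classical
  obtain ⟨T, hTS, hT⟩ := exists_finset_adjoin _ hgen
  have hmem : ∀ j : Fin T.card, ∃ e, (1 ≤ e ∧ e ≤ d) ∧ (T.equivFin.symm j : A) ∈ 𝒜 e := fun j ↦ by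
    obtain ⟨e, he, h⟩ := Set.mem_iUnion₂.mp (hTS (T.equivFin.symm j).2)
    exact ⟨e, Finset.mem_Icc.mp he, h⟩
  choose deg hd hf using hmem
  let f : Fin T.card → A := fun j ↦ T.equivFin.symm j
  have hdeg : ∀ j, 0 < deg j := fun j ↦ (hd j).1
  have hgenT : Algebra.adjoin R (Set.range f) = ⊤ := by
    rw [show Set.range f = (T : Set A) from ?_]; exact hT
    ext z
    exact ⟨by rintro ⟨j, rfl⟩; exact (T.equivFin.symm j).2, fun hz ↦ ⟨T.equivFin ⟨z, hz⟩, by simp [f]⟩⟩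
  haveI := compactSpace_proj 𝒜 hdeg hf hgenT
  obtain ⟨G, hG⟩ := (isCompact_univ (X := Proj 𝒜)).elim_finite_subcover (fun g : 𝒜 1 ↦ (Proj.basicOpen 𝒜 (g : A) : Set (Proj 𝒜)))
    (fun g ↦ (Proj.basicOpen 𝒜 (g : A)).2) fun x _ ↦ by
      obtain ⟨g, hg⟩ := Opens.mem_iSup.mp (hcov.ge (trivial : x ∈ (⊤ : (Proj 𝒜).Opens)))
      exact Set.mem_iUnion.mpr ⟨g, hg⟩
  let κ := G × Option (ULift.{u} (Fin T.card))
  let c : κ → 𝒜 n := fun p ↦ match p.2 with
    | none => ⟨p.1.1.1 ^ n, by simpa using SetLike.pow_mem_graded n p.1.1.2⟩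
    | some j => ⟨f j.down * p.1.1.1 ^ (n - deg j.down), by
        have h := SetLike.mul_mem_graded (hf j.down) (SetLike.pow_mem_graded (n - deg j.down) p.1.1.2)
        rw [smul_eq_mul, mul_one, Nat.add_sub_cancel' ((hd j.down).2.trans hn)] at h
        exact h⟩
  set W := Submodule.span R (Set.range fun j : κ ↦ (c j).1) with hW
  refine exists_closedImmersion 𝒜 hn1 (exists_mem_one 𝒜 hcov n) c (isProper_structure 𝒜 hdeg hf hgenT) fun x ↦ ?_
  obtain ⟨g, hg, hgx⟩ := Set.mem_iUnion₂.mp (hG (Set.mem_univ (x : Proj 𝒜)))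
  refine ⟨(⟨g, hg⟩, none), fun h ↦ hgx (x.isPrime.mem_of_pow_mem n h), fun m z hz ↦ ?_⟩
  show ∃ l, (g.1 ^ n) ^ l * z ∈ W ^ (l + m)
  have hg' : g.1 ^ n ∈ W := Submodule.subset_span ⟨(⟨g, hg⟩, none), rfl⟩
  have hmon := mem_span_monomials_base 𝒜 hf hgenT hz
  clear hz
  induction hmon using Submodule.span_induction with
  | mem z hz =>
    obtain ⟨α, hα, rfl⟩ := hz
    have hle : m ≤ ∑ j, α j := by
      refine Nat.le_of_mul_le_mul_right ?_ hn1
      rw [← smul_eq_mul, ← hα, Finset.sum_mul]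
      exact Finset.sum_le_sum fun j _ ↦ Nat.mul_le_mul_left _ ((hd j).2.trans hn)
    refine ⟨∑ j, α j - m, ?_⟩
    rw [Nat.sub_add_cancel hle]
    have hprod : ∀ S : Finset (Fin T.card), ∏ j ∈ S, (f j * g.1 ^ (n - deg j)) ^ α j ∈ W ^ (∑ j ∈ S, α j) := by
      intro S
      induction S using Finset.induction_on with
      | empty =>
        simp only [Finset.prod_empty, Finset.sum_empty, pow_zero]
        exact Submodule.mem_one.mpr ⟨1, map_one _⟩
      | insert j S hj ih =>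
        rw [Finset.prod_insert hj, Finset.sum_insert hj, pow_add]
        exact Submodule.mul_mem_mul
          (Submodule.pow_mem_pow W (Submodule.subset_span ⟨(⟨g, hg⟩, some (ULift.up j)), rfl⟩) _) ih
    convert hprod Finset.univ using 1
    simp only [mul_pow, ← pow_mul, Finset.prod_mul_distrib, Finset.prod_pow_eq_pow_sum]
    rw [mul_comm]
    congr 2
    have h1 : ∑ j, (n - deg j) * α j + ∑ j, α j * deg j = n * ∑ j, α j := by
      rw [← Finset.sum_add_distrib, Finset.mul_sum]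
      refine Finset.sum_congr rfl fun j _ ↦ ?_
      rw [mul_comm (α j), ← add_mul, Nat.sub_add_cancel ((hd j).2.trans hn)]
    rw [hα, smul_eq_mul] at h1
    rw [Nat.mul_sub, mul_comm n m]
    omega
  | zero => exact ⟨0, by rw [mul_zero]; exact zero_mem _⟩
  | add a b _ _ ha hb =>
    obtain ⟨l, hl⟩ := ha
    obtain ⟨l', hl'⟩ := hb
    refine ⟨l + l', ?_⟩
    rw [mul_add]
    refine add_mem ?_ ?_
    · rw [show (g.1 ^ n) ^ (l + l') * a = (g.1 ^ n) ^ l' * ((g.1 ^ n) ^ l * a) by ring,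
        show l + l' + m = l' + (l + m) by omega, pow_add W]
      exact Submodule.mul_mem_mul (Submodule.pow_mem_pow W hg' _) hl
    · rw [show (g.1 ^ n) ^ (l + l') * b = (g.1 ^ n) ^ l * ((g.1 ^ n) ^ l' * b) by ring,
        show l + l' + m = l + (l' + m) by omega, pow_add W]
      exact Submodule.mul_mem_mul (Submodule.pow_mem_pow W hg' _) hl'
  | smul r a _ ha =>
    obtain ⟨l, hl⟩ := ha
    exact ⟨l, by rw [mul_smul_comm]; exact Submodule.smul_mem _ r hl⟩

end Groth.Agent.ProjUPLib
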